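import Groth.Agent.Lib.DualCx22.Transfer
import Mathlib.RingTheory.Polynomial.Basic

/-!
# Dualizing complexes of polynomial rings: the bound at maximal ideals
-/

set_option autoImplicit false
set_option linter.style.haveILetI false
universe u

open CategoryTheory CategoryTheory.Limits CategoryTheory.Pretriangulated DerivedCategory
open scoped Polynomial

attribute [local instance] HasDerivedCategory.standard

namespace GrothLib.DualCx22

/-- Cokernel of a regular element on a cyclic module. -/
theorem subsingleton_hom_sup_span {B : Type u} [CommRing B] (J : Ideal B) (x : B) (hx : ∀ y, x * y ∈ J → y ∈ J)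
    (W : Dual.D B) (i : ℤ) (h₀ : Subsingleton (Dual.inD B (B ⧸ J) ⟶ W⟦i⟧))
    (h₁ : Subsingleton (Dual.inD B (B ⧸ J) ⟶ W⟦i - 1⟧)) :
    Subsingleton (Dual.inD B (B ⧸ (J ⊔ Ideal.span {x})) ⟶ W⟦i⟧) := by
  let S : ShortComplex (ModuleCat.{u} B) :=
    ShortComplex.mk (x • 𝟙 (ModuleCat.of B (B ⧸ J)))
      (ModuleCat.ofHom (Submodule.factor (le_sup_left : J ≤ J ⊔ Ideal.span {x}))) (by
        refine ModuleCat.hom_ext (LinearMap.ext fun z => ?_)
        obtain ⟨z, rfl⟩ := Submodule.Quotient.mk_surjective _ z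
        exact (Submodule.Quotient.mk_eq_zero _).2
          (Ideal.mem_sup_right (Ideal.mul_mem_right _ _ (Ideal.mem_span_singleton_self x))))
  have hS : S.ShortExact :=
    { exact := (ShortComplex.moduleCat_exact_iff _).2 fun z hz => by
        obtain ⟨z, rfl⟩ := Submodule.Quotient.mk_surjective _ z
        obtain ⟨c, hc, d, hd, rfl⟩ := Submodule.mem_sup.1 ((Submodule.Quotient.mk_eq_zero _).1 hz)
        obtain ⟨e, rfl⟩ := Ideal.mem_span_singleton'.1 hd
        refine ⟨Submodule.Quotient.mk e, ?_⟩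
        change x • (Submodule.Quotient.mk e : B ⧸ J) = _
        rw [← Submodule.Quotient.mk_smul, Submodule.Quotient.eq, smul_eq_mul,
          show x * e - (c + e * x) = -c by ring]
        exact J.neg_mem hc
      mono_f := (ModuleCat.mono_iff_injective _).2 ((injective_iff_map_eq_zero _).2 fun z hz => by
        obtain ⟨z, rfl⟩ := Submodule.Quotient.mk_surjective _ z
        exact (Submodule.Quotient.mk_eq_zero _).2 (hx z ((Submodule.Quotient.mk_eq_zero _).1 hz)))
      epi_g := (ModuleCat.epi_iff_surjective _).2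
        (Submodule.factor_surjective (le_sup_left : J ≤ J ⊔ Ideal.span {x})) }
  refine subsingleton_of_forall_eq 0 fun f => ?_
  obtain ⟨g, hg⟩ := hS.singleTriangle.yoneda_exact₃ hS.singleTriangle_distinguished f
    (Subsingleton.elim (α := Dual.inD B (B ⧸ J) ⟶ W⟦i⟧) _ _)
  haveI : Subsingleton ((Dual.inD B (B ⧸ J))⟦(1 : ℤ)⟧ ⟶ W⟦i⟧) :=
    (homShiftLEquiv (Dual.inD B (B ⧸ J)) W 1 i (i - 1) (by omega)).toEquiv.subsingleton
  refine hg.trans ?_
  rw [Subsingleton.elim (α := (Dual.inD B (B ⧸ J))⟦(1 : ℤ)⟧ ⟶ W⟦i⟧) g 0]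
  exact comp_zero

/-- A vanishing passes from `B/I` to a maximal ideal `m ⊇ I` if an element outside `m` moves `m` into `I`. -/
theorem subsingleton_hom_maximal {B : Type u} [CommRing B] [IsNoetherianRing B] (I m : Ideal B) [m.IsMaximal]
    (hle : I ≤ m) (s : B) (hs : s ∉ m) (hsI : ∀ y ∈ m, s * y ∈ I) (W : Dual.D B) (i : ℤ)
    (h : Subsingleton (Dual.inD B (B ⧸ I) ⟶ W⟦i⟧)) : Subsingleton (Dual.inD B (B ⧸ m) ⟶ W⟦i⟧) := by
  let q : (B ⧸ I) →ₗ[B] (B ⧸ m) := Submodule.factor hle
  let S : ShortComplex (ModuleCat.{u} B) := ShortComplex.mk (ModuleCat.ofHom (LinearMap.ker q).subtype)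
    (ModuleCat.ofHom q) (ModuleCat.hom_ext (LinearMap.ext fun z => z.2))
  have hS : S.ShortExact := by
    haveI : Mono S.f := (ModuleCat.mono_iff_injective _).2 (Submodule.subtype_injective _)
    haveI : Epi S.g := (ModuleCat.epi_iff_surjective _).2 (Submodule.factor_surjective hle)
    exact ShortComplex.ShortExact.mk' (ShortComplex.Exact.moduleCat_of_range_eq_ker _ _
      (by simp [S])) inferInstance inferInstance
  have hkill : s • 𝟙 S.X₁ = 0 := by
    refine ModuleCat.hom_ext (LinearMap.ext fun z => Subtype.ext ?_)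
    obtain ⟨z, hz⟩ := z
    obtain ⟨z, rfl⟩ := Submodule.Quotient.mk_surjective _ z
    change s • (Submodule.Quotient.mk z : B ⧸ I) = 0
    rw [← Submodule.Quotient.mk_smul, Submodule.Quotient.mk_eq_zero]
    exact hsI z ((Submodule.Quotient.mk_eq_zero _).1 hz)
  refine subsingleton_of_forall_eq 0 fun f => ?_
  obtain ⟨g, hg⟩ := hS.singleTriangle.yoneda_exact₃ hS.singleTriangle_distinguished f
    (Subsingleton.elim (α := Dual.inD B (B ⧸ I) ⟶ W⟦i⟧) _ _)
  have h0 : s • f = 0 := by
    rw [hg]
    have e : s • 𝟙 (((DerivedCategory.singleFunctor (ModuleCat.{u} B) 0).obj S.X₁)⟦(1 : ℤ)⟧) = 0 := by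
      rw [← CategoryTheory.Functor.map_id, ← CategoryTheory.Functor.map_id, ← Functor.map_smul,
        ← Functor.map_smul, hkill, Functor.map_zero, Functor.map_zero]
    change s • (hS.singleTriangle.mor₃ ≫ g) = 0
    have hg0 : ∀ g' : ((DerivedCategory.singleFunctor (ModuleCat.{u} B) 0).obj S.X₁)⟦(1 : ℤ)⟧ ⟶ W⟦i⟧, s • g' = 0 := by
      intro g'
      conv_lhs => rw [← Category.id_comp g', ← Linear.smul_comp, e, zero_comp]
    exact (Linear.comp_smul (R := B) _ _ _ hS.singleTriangle.mor₃ s g).symm.trans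
      ((congrArg (fun t => hS.singleTriangle.mor₃ ≫ t) (hg0 g)).trans comp_zero)
  obtain ⟨t, ht⟩ := Ideal.IsMaximal.exists_inv (I := m) inferInstance hs
  obtain ⟨r, hr, hsum⟩ := ht
  rw [← one_smul B f, ← hsum, add_smul, mul_smul, h0, smul_zero, zero_add]
  exact smul_inD_hom m _ r hr f

/-- Generic monogeneity of a maximal ideal of `A[X]`. -/
theorem exists_generator_maximal {A : Type u} [CommRing A] (m : Ideal A[X]) [m.IsMaximal] [IsNoetherianRing A] :
    ∃ f : A[X], ∃ c : A, f ∈ m ∧ f ∉ (m.comap Polynomial.C).map Polynomial.C ∧ Polynomial.C c ∉ m ∧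
      ∀ y ∈ m, Polynomial.C c * y ∈ (m.comap Polynomial.C).map Polynomial.C ⊔ Ideal.span {f} := by
  classical
  set p : Ideal A := m.comap Polynomial.C with hp
  have hP : p.map Polynomial.C ≤ m := Ideal.map_comap_le
  haveI : p.IsPrime := Ideal.IsPrime.comap (Polynomial.C : A →+* A[X])
  have hex : ∃ n, ∃ f ∈ m, f ∉ p.map Polynomial.C ∧ f.natDegree = n := by
    by_contra hno
    push Not at hno
    have hall : ∀ f ∈ m, f ∈ p.map Polynomial.C := fun f hf => by
      by_contra hf'
      exact hno _ f hf hf' rfl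
    have hX : (Polynomial.X : A[X]) ∉ m := fun hX => by
      have := (Ideal.mem_map_C_iff.1 (hall _ hX)) 1
      rw [Polynomial.coeff_X_one] at this
      exact Ideal.IsPrime.ne_top inferInstance ((Ideal.eq_top_iff_one p).2 this)
    obtain ⟨t, r, hr, hsum⟩ := Ideal.IsMaximal.exists_inv (I := m) inferInstance hX
    have h0 := (Ideal.mem_map_C_iff.1 (hall _ hr)) 0
    rw [show r = 1 - t * Polynomial.X by rw [← hsum]; ring] at h0
    simp at h0
    exact Ideal.IsPrime.ne_top inferInstance ((Ideal.eq_top_iff_one p).2 h0)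
  obtain ⟨f, hfm, hfP, hfn⟩ := Nat.find_spec hex
  have hmin : ∀ h ∈ m, h ∉ p.map Polynomial.C → f.natDegree ≤ h.natDegree := fun h hh hh' => by
    rw [hfn]
    exact Nat.find_min' hex ⟨h, hh, hh', rfl⟩
  have hc : f.leadingCoeff ∉ p := by
    intro hc
    have hm1 : Polynomial.C f.leadingCoeff * Polynomial.X ^ f.natDegree ∈ p.map Polynomial.C :=
      Ideal.mul_mem_right _ _ (Ideal.mem_map_of_mem _ hc)
    have he : f.eraseLead ∉ p.map Polynomial.C := fun he =>
      hfP (by rw [← f.eraseLead_add_C_mul_X_pow]; exact Ideal.add_mem _ he hm1)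
    have hem : f.eraseLead ∈ m := by
      rw [eq_sub_of_add_eq f.eraseLead_add_C_mul_X_pow]
      exact m.sub_mem hfm (hP hm1)
    have h1 := hmin _ hem he
    rcases Polynomial.eraseLead_natDegree_lt_or_eraseLead_eq_zero f with h2 | h2
    · omega
    · exact he (h2 ▸ Ideal.zero_mem _)
  set c := f.leadingCoeff with hcdef
  let J : Ideal A[X] := p.map Polynomial.C ⊔ Ideal.span {f}
  have key : ∀ n, ∀ h ∈ m, h.natDegree ≤ n → ∃ N : ℕ, Polynomial.C (c ^ N) * h ∈ J := by
    intro n
    induction n using Nat.strong_induction_on with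
    | _ n ih =>
      intro h hh hn
      by_cases hh' : h ∈ p.map Polynomial.C
      · exact ⟨0, Ideal.mul_mem_left _ _ (Ideal.mem_sup_left hh')⟩
      have hd := hmin h hh hh'
      set h' := Polynomial.C c * h - Polynomial.C h.leadingCoeff * Polynomial.X ^ (h.natDegree - f.natDegree) * f
        with hh'def
      have hm' : h' ∈ m := m.sub_mem (m.mul_mem_left _ hh) (m.mul_mem_left _ hfm)
      have hdeg : h'.natDegree ≤ h.natDegree := by
        refine (Polynomial.natDegree_sub_le _ _).trans (max_le (Polynomial.natDegree_C_mul_le _ _) ?_)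
        refine Polynomial.natDegree_mul_le.trans ?_
        have := Polynomial.natDegree_C_mul_X_pow_le h.leadingCoeff (h.natDegree - f.natDegree)
        omega
      have hco : h'.coeff h.natDegree = 0 := by
        rw [hh'def, Polynomial.coeff_sub, Polynomial.coeff_C_mul, mul_assoc, Polynomial.coeff_C_mul]
        have h1 : (Polynomial.X ^ (h.natDegree - f.natDegree) * f).coeff h.natDegree = c := by
          conv_lhs => rw [show h.natDegree = f.natDegree + (h.natDegree - f.natDegree) by omega]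
          rw [show f.natDegree + (h.natDegree - f.natDegree) - f.natDegree = h.natDegree - f.natDegree by omega,
            Polynomial.coeff_X_pow_mul]
          rfl
        rw [h1]
        change c * h.leadingCoeff - h.leadingCoeff * c = 0
        ring
      have hrec : ∃ N : ℕ, Polynomial.C (c ^ N) * h' ∈ J := by
        by_cases h0 : h' = 0
        · exact ⟨0, by rw [h0, mul_zero]; exact J.zero_mem⟩
        have hne : h'.natDegree ≠ h.natDegree := fun he => h0 (Polynomial.leadingCoeff_eq_zero.1 (by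
          change h'.coeff h'.natDegree = 0
          rw [he]; exact hco))
        exact ih h'.natDegree (by omega) h' hm' le_rfl
      obtain ⟨N, hN⟩ := hrec
      refine ⟨N + 1, ?_⟩
      have : Polynomial.C (c ^ (N + 1)) * h = Polynomial.C (c ^ N) * h' + Polynomial.C (c ^ N) *
          (Polynomial.C h.leadingCoeff * Polynomial.X ^ (h.natDegree - f.natDegree)) * f := by
        rw [hh'def, pow_succ, Polynomial.C_mul]; ring
      rw [this]
      exact J.add_mem hN (Ideal.mem_sup_right (Ideal.mul_mem_left _ _ (Ideal.mem_span_singleton_self f)))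
  obtain ⟨G, hG⟩ := (IsNoetherian.noetherian m : Submodule.FG (m : Submodule A[X] A[X]))
  choose N hN using fun y : G => key _ (y : A[X]) (hG ▸ Submodule.subset_span y.2) le_rfl
  refine ⟨f, c ^ (Finset.univ.sup N), hfm, hfP, fun h => ?_, ?_⟩
  · exact hc (Ideal.IsPrime.mem_of_pow_mem inferInstance _ (show c ^ _ ∈ p from h))
  · let K : Ideal A[X] := Submodule.comap (LinearMap.mulLeft A[X] (Polynomial.C (c ^ (Finset.univ.sup N)))) J
    suffices hK : m ≤ K from fun y hy => hK hy
    rw [← hG, Submodule.span_le]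
    intro y hy
    change Polynomial.C (c ^ (Finset.univ.sup N)) * y ∈ J
    have hle : N ⟨y, hy⟩ ≤ Finset.univ.sup N := Finset.le_sup (Finset.mem_univ _)
    obtain ⟨k, hk⟩ := Nat.exists_eq_add_of_le hle
    rw [hk, pow_add, Polynomial.C_mul, mul_assoc, mul_left_comm]
    exact J.mul_mem_left _ (hN ⟨y, hy⟩)

/-- Residue fields of `A[X]` at maximal ideals: one more degree. -/
theorem subsingleton_residue_polynomial {A : Type u} [CommRing A] [IsNoetherianRing A]
    [PreservesFiniteLimits (bcMod (A := A) A[X])] {ω : Dual.D A} (hω : Dual.IsDualizing A ω) (a b : ℤ)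
    (hab : ∀ (M : Type u) [AddCommGroup M] [Module A M] (i : ℤ), (i < a ∨ b < i) →
      Subsingleton (Dual.inD A M ⟶ ω⟦i⟧)) (m : Ideal A[X]) [m.IsMaximal] (i : ℤ) (hi : b + 1 < i) :
    Subsingleton (Dual.inD A[X] (A[X] ⧸ m) ⟶ ((bcD (A := A) A[X]).obj ω)⟦i⟧) := by
  obtain ⟨f, c, hfm, hfP, hc, hcJ⟩ := exists_generator_maximal m
  let p : Ideal A := m.comap Polynomial.C
  haveI : p.IsPrime := Ideal.IsPrime.comap (Polynomial.C : A →+* A[X])
  have hP : (p.map Polynomial.C).IsPrime := Ideal.isPrime_map_C_of_isPrime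
  have hmap : p.map (algebraMap A A[X]) = p.map Polynomial.C := rfl
  have h0 : ∀ j, b < j → Subsingleton (Dual.inD A[X] (A[X] ⧸ p.map Polynomial.C) ⟶ ((bcD (A := A) A[X]).obj ω)⟦j⟧) :=
    fun j hj => subsingleton_residue_bcD A[X] hω a b hab p _ hmap j (hab (A ⧸ p) j (Or.inr hj))
  refine subsingleton_hom_maximal (p.map Polynomial.C ⊔ Ideal.span {f}) m
    (sup_le Ideal.map_comap_le ((Ideal.span_singleton_le_iff_mem m).2 hfm)) (Polynomial.C c) hc hcJ _ i ?_
  exact subsingleton_hom_sup_span _ f (fun y hy => (hP.mem_or_mem hy).resolve_left hfP) _ i (h0 i (by omega))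
    (h0 (i - 1) (by omega))

end GrothLib.DualCx22
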