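import Groth.Agent.Lib.DualCx22.CoindDual
import Groth.Agent.Lib.DualCx22.PolyRing
import Mathlib.RingTheory.EssentialFiniteness
import Mathlib.Algebra.MvPolynomial.Equiv

/-!
# Dualizing complexes of algebras essentially of finite type
-/

set_option autoImplicit false
set_option linter.style.haveILetI false
universe u

open CategoryTheory CategoryTheory.Limits

attribute [local instance] HasDerivedCategory.standard

namespace GrothLib.DualCx22

/-- Localization preserves dualizing complexes. -/
theorem isDualizing_bcD_localization {A : Type u} [CommRing A] (S : Submonoid A) (B : Type u) [CommRing B]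
    [Algebra A B] [IsLocalization S B] [PreservesFiniteLimits (bcMod (A := A) B)] {ω : Dual.D A}
    (hω : Dual.IsDualizing A ω) : Dual.IsDualizing B ((bcD B).obj ω) := by
  haveI := hω.isNoetherianRing
  haveI : IsNoetherianRing B := IsLocalization.isNoetherianRing S B inferInstance
  haveI : Module.Flat A B := IsLocalization.flat B S
  obtain ⟨a, b, hab⟩ := hω.finite_injective_dimension
  exact isDualizing_bcD B hω b fun m _ i hi =>
    subsingleton_residue_bcD B hω a b hab (m.comap (algebraMap A B)) m (IsLocalization.map_comap S B m) i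
      (hab _ i (Or.inr hi))

theorem exists_dualizing_localization {A : Type u} [CommRing A] (S : Submonoid A) (B : Type u) [CommRing B]
    [Algebra A B] [IsLocalization S B] (h : ∃ ω : Dual.D A, Dual.IsDualizing A ω) :
    ∃ ω : Dual.D B, Dual.IsDualizing B ω := by
  obtain ⟨ω, hω⟩ := h
  haveI : Module.Flat A B := IsLocalization.flat B S
  haveI := GrothLib.DR.preservesFiniteLimits_extendScalars (algebraMap A B) GrothLib.DR.flat_algebraMap
  exact ⟨_, isDualizing_bcD_localization S B hω⟩

/-- A ring receiving a finite map from a ring with a dualizing complex has one. -/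
theorem exists_dualizing_finite {A : Type u} [CommRing A] (B : Type u) [CommRing B]
    [Algebra A B] [Module.Finite A B] (h : ∃ ω : Dual.D A, Dual.IsDualizing A ω) :
    ∃ ω : Dual.D B, Dual.IsDualizing B ω := by
  obtain ⟨ω, hω⟩ := h
  haveI := hω.isNoetherianRing
  haveI : IsNoetherianRing B := IsNoetherianRing.of_finite A B
  exact ⟨_, isDualizing_rightAdjoint _
    (GrothLib.KInj.derivedAdj (ModuleCat.restrictCoextendScalarsAdj.{u, u, u} (algebraMap A B))) hω⟩

theorem exists_dualizing_of_surjective {A B : Type u} [CommRing A] [CommRing B] (φ : A →+* B)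
    (hφ : Function.Surjective φ) (h : ∃ ω : Dual.D A, Dual.IsDualizing A ω) :
    ∃ ω : Dual.D B, Dual.IsDualizing B ω := by
  letI := φ.toAlgebra
  haveI : Module.Finite A B := Module.Finite.of_surjective (Algebra.linearMap A B) hφ
  exact exists_dualizing_finite B h

theorem exists_dualizing_polynomial {A : Type u} [CommRing A] (h : ∃ ω : Dual.D A, Dual.IsDualizing A ω) :
    ∃ ω : Dual.D (Polynomial A), Dual.IsDualizing (Polynomial A) ω := by
  obtain ⟨ω, hω⟩ := h
  haveI := hω.isNoetherianRing
  haveI := GrothLib.DR.preservesFiniteLimits_extendScalars (algebraMap A (Polynomial A)) GrothLib.DR.flat_algebraMap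
  obtain ⟨a, b, hab⟩ := hω.finite_injective_dimension
  exact ⟨_, isDualizing_bcD (Polynomial A) hω (b + 1)
    fun m _ i hi => subsingleton_residue_polynomial hω a b hab m i hi⟩

theorem exists_dualizing_mvPolynomial {A : Type u} [CommRing A] (h : ∃ ω : Dual.D A, Dual.IsDualizing A ω) :
    ∀ n : ℕ, ∃ ω : Dual.D (MvPolynomial (Fin n) A), Dual.IsDualizing (MvPolynomial (Fin n) A) ω := by
  intro n
  induction n with
  | zero =>
    exact exists_dualizing_of_surjective (MvPolynomial.isEmptyRingEquiv A (Fin 0)).symm.toRingHom
      (MvPolynomial.isEmptyRingEquiv A (Fin 0)).symm.surjective h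
  | succ n ih =>
    exact exists_dualizing_of_surjective (MvPolynomial.finSuccEquiv A n).symm.toRingEquiv.toRingHom
      (MvPolynomial.finSuccEquiv A n).symm.surjective (exists_dualizing_polynomial ih)

theorem exists_dualizing_essFiniteType {A : Type u} [CommRing A] (B : Type u) [CommRing B] [Algebra A B]
    [Algebra.EssFiniteType A B] (h : ∃ ω : Dual.D A, Dual.IsDualizing A ω) :
    ∃ ω : Dual.D B, Dual.IsDualizing B ω := by
  obtain ⟨n, g, hg⟩ := Algebra.FiniteType.iff_quotient_mvPolynomial''.1
    (inferInstance : Algebra.FiniteType A (Algebra.EssFiniteType.subalgebra A B))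
  exact exists_dualizing_localization (Algebra.EssFiniteType.submonoid A B) B
    (exists_dualizing_of_surjective g.toRingHom hg (exists_dualizing_mvPolynomial h n))

end GrothLib.DualCx22
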