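import Groth.Agent.Lib.DualCx22.LocalDual
import Groth.Agent.Lib.LC.Derived
import Groth.Agent.Lib.BCCoh.MapExtend
import Mathlib.CategoryTheory.Abelian.Injective.Extend

/-!
# Local cohomology of a module as local cohomology in the derived category
-/

set_option autoImplicit false
set_option linter.style.haveILetI false
universe u

open CategoryTheory CategoryTheory.Limits CochainComplex

attribute [local instance] HasDerivedCategory.standard

namespace GrothLib.DualCx22

variable {A : Type u} [CommRing A]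

theorem nonempty_LCH_equiv_HDI (J : Ideal A) (M : Type u) [AddCommGroup M] [Module A M] (i : ℕ) :
    Nonempty (LocCoh.H J i M ≃ₗ[A] Dual2.HDI A J (Dual.inD A M) (i : ℤ)) := by
  haveI := hasRgammaI J
  let R := injectiveResolution (ModuleCat.of A M)
  haveI : R.cochainComplex.IsKInjective := CochainComplex.isKInjective_of_injective R.cochainComplex 0
  have hι : IsIso (DerivedCategory.Q.map R.ι') := GrothLib.RH.quasiIso_Q _
  obtain ⟨e, -⟩ := GrothLib.RGamma.exists_iso J R.cochainComplex
  let eM : Dual.inD A M ≅ DerivedCategory.Q.obj R.cochainComplex :=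
    GrothLib.DCpl.eSingle (ModuleCat.of A M) ≪≫ @asIso _ _ _ _ _ hι
  obtain ⟨e₀⟩ := GrothLib.RGamma.nonempty_HD_equiv_HDI J (Dual.inD A M) (i : ℤ)
  let e₁ : (GrothLib.RGamma.gammaCx J R.cochainComplex).homology (i : ℤ) ≅
      (GrothLib.LC.gammaComplex J R).homology i :=
    (HomologicalComplex.homologyFunctor (ModuleCat.{u} A) (ComplexShape.up ℤ) (i : ℤ)).mapIso
      (GrothLib.BCCoh.mapExtendIso ComplexShape.embeddingUpNat (DRing.gammaI J) R.cocomplex) ≪≫
      (GrothLib.LC.gammaComplex J R).extendHomologyIso ComplexShape.embeddingUpNat (j := i) rfl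
  exact ⟨(((e₁.toLinearEquiv.trans (GrothLib.LC.homologyEquiv J R i)).symm.trans
    (GrothLib.RGamma.hdEquiv (GrothLib.RGamma.gammaCx J R.cochainComplex) (i : ℤ)).symm).trans
    (GrothLib.RGamma.hdIso ((DRing.RgammaI J).mapIso eM ≪≫ e) (i : ℤ)).symm).trans e₀⟩

variable [IsNoetherianRing A]

theorem finite_HD_inD (M : Type u) [AddCommGroup M] [Module A M] [Module.Finite A M] (j : ℤ) :
    Module.Finite A (Dual.HD A (Dual.inD A M) j) := by
  by_cases hj : j = 0
  · subst hj
    exact Module.Finite.equiv (GrothLib.DR.inDHomologyIso (A := A) M).toLinearEquiv.symm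
  · haveI := GrothLib.DR.subsingleton_HD_inD (A := A) M j hj
    exact Module.Finite.of_finite

/-- **Local duality for modules.** -/
theorem nonempty_LCH_dual [IsLocalRing A] {ω : Dual.D A} (hω : Dual.IsDualizing A ω) (hn : Dual.IsNormalized A ω)
    {E : Type u} [AddCommGroup E] [Module A E] {f : IsLocalRing.ResidueField A →ₗ[A] E}
    (hf : InjHull.IsInjectiveHull f) (M : Type u) [AddCommGroup M] [Module A M] [Module.Finite A M] (i : ℕ) :
    Nonempty (LocCoh.H (IsLocalRing.maximalIdeal A) i M ≃ₗ[A] ((Dual.inD A M ⟶ ω⟦-(i : ℤ)⟧) →ₗ[A] E)) := by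
  obtain ⟨e⟩ := nonempty_LCH_equiv_HDI (IsLocalRing.maximalIdeal A) M i
  obtain ⟨e'⟩ := nonempty_local_duality hω hn hf (Dual.inD A M) (finite_HD_inD M) (i : ℤ)
  exact ⟨e.trans e'⟩

/-- The morphism module into a dualizing complex in the small universe. -/
theorem exists_finite_hom_equiv {ω : Dual.D A} (hω : Dual.IsDualizing A ω) (X : Dual.D A)
    (hX : ∀ j, Module.Finite A (Dual.HD A X j)) (i : ℤ) :
    ∃ (N : ModuleCat.{u} A), Module.Finite A N ∧ Nonempty (N ≃ₗ[A] (X ⟶ ω⟦i⟧)) := by
  obtain ⟨r⟩ := nonempty_injRep hω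
  obtain ⟨C, -, ⟨eC⟩⟩ := GrothLib.RH.exists_kInjective_rep X
  obtain ⟨e⟩ := r.nonempty_HD_dual C i
  let e' := e.trans (Linear.homCongr A eC.symm (Iso.refl (ω⟦i⟧)))
  haveI : Module.Finite A (X ⟶ ω⟦i⟧) := finite_hom X ω hX hω.finite_cohomology
    (show DRing.HasFiniteInjDim A ω from ⟨r.a, r.b, r.I, r.vanish, fun t =>
      (Module.injective_iff_injective_object A (r.I.X t)).2 (r.inj t), ⟨r.iso⟩⟩) i
  exact ⟨_, Module.Finite.equiv e'.symm, ⟨e'⟩⟩

variable [IsLocalRing A]

omit [IsNoetherianRing A] in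
/-- Over a local ring the Matlis dual detects zero, in any universe up to isomorphism. -/
theorem subsingleton_dual_iff {E : Type u} [AddCommGroup E] [Module A E] {f : IsLocalRing.ResidueField A →ₗ[A] E}
    (hf : InjHull.IsInjectiveHull f) (N : Type u) [AddCommGroup N] [Module A N] :
    Subsingleton (N →ₗ[A] E) ↔ Subsingleton N := by
  refine ⟨fun h => subsingleton_of_forall_eq 0 fun x => ?_, fun h => ⟨fun a b => LinearMap.ext fun x => ?_⟩⟩
  · by_contra hx
    obtain ⟨φ, hφ⟩ := GrothLib.Matlis.exists_apply_ne_zero hf hx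
    exact hφ (by rw [Subsingleton.elim φ 0, LinearMap.zero_apply])
  · rw [Subsingleton.elim x 0, map_zero, map_zero]

end GrothLib.DualCx22
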