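import Groth.Agent.Lib.DualCx22.Cover
import Groth.Agent.Lib.DualRing.Local

/-!
# Pointwise dualizing complexes over rings of finite dimension
-/

set_option autoImplicit false
set_option linter.style.haveILetI false
universe u

open CategoryTheory CategoryTheory.Limits DerivedCategory TensorProduct

attribute [local instance] HasDerivedCategory.standard

namespace GrothLib.DualCx22

variable {B : Type u} [CommRing B] [IsLocalRing B] [IsNoetherianRing B] {ω : Dual.D B}

/-- Degrees of cohomology and of the residue field. -/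
theorem local_bounds (hω : Dual.IsDualizing B ω) (d : ℕ) (hd : ringKrullDim B ≤ d) :
    ∃ c : ℤ, (∀ j, Nontrivial (Dual.HD B ω j) → c - d ≤ j ∧ j ≤ c) ∧
      ∀ i, i ≠ c → Subsingleton (Dual.inD B (B ⧸ IsLocalRing.maximalIdeal B) ⟶ ω⟦i⟧) := by
  let m := IsLocalRing.maximalIdeal B
  refine ⟨DualRing.deg hω m, fun j hj => ?_, fun i hi => ?_⟩
  · haveI := hj
    obtain ⟨e⟩ := DualRing.exists_hom_ring_equiv ω j
    have hne : DualRing.len m (DualRing.EH ω (Dual.inD B B) j) ≠ 0 := by
      intro h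
      haveI : Subsingleton (DualRing.EH ω (Dual.inD B B) j) := DualRing.subsingleton_of_len_maximal h
      haveI : Subsingleton (Dual.HD B ω j) := e.symm.toEquiv.subsingleton
      exact not_subsingleton (Dual.HD B ω j) inferInstance
    obtain ⟨r, hr, -, -, h1, h2⟩ := DualRing.exists_quotient_bounds hω B hne
    refine ⟨?_, h2⟩
    have hx := DualRing.coheight_eq hω (⟨r, hr⟩ : PrimeSpectrum B)
    have hle : ((Order.coheight (⟨r, hr⟩ : PrimeSpectrum B) : ℕ∞) : WithBot ℕ∞) ≤ (d : WithBot ℕ∞) :=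
      le_trans (Order.coheight_le_krullDim _) hd
    rw [hx] at hle
    have h3 : (DualRing.degS hω (IsLocalRing.closedPoint B) - DualRing.degS hω ⟨r, hr⟩).toNat ≤ d :=
      Nat.cast_le.1 (WithBot.coe_le_coe.1 hle)
    change (DualRing.deg hω m - DualRing.deg hω r).toNat ≤ d at h3
    omega
  · exact DualRing.subsingleton_of_len_maximal (DualRing.mu_ne_deg hω m hi)

/-- A dualizing complex of a nontrivial ring has cohomology. -/
theorem exists_nontrivial_HD {R : Type u} [CommRing R] [Nontrivial R] {K : Dual.D R} (hK : Dual.IsDualizing R K) :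
    ∃ j, Nontrivial (Dual.HD R K j) := by
  by_contra hne
  push Not at hne
  haveI : IsIso (0 : K ⟶ K) := by
    rw [DerivedCategory.isIso_iff]
    intro n
    have hz : IsZero ((homologyFunctor (ModuleCat.{u} R) n).obj K) :=
      (DR.subsingleton_iff_isZero _).1 (hne n)
    exact hz.isIso hz _
  have h0 : 𝟙 K = 0 := by
    rw [← IsIso.hom_inv_id (0 : K ⟶ K), zero_comp]
  exact one_ne_zero (hK.toEnd_bijective.1 (show (1 : R) • 𝟙 K = (0 : R) • 𝟙 K by rw [h0, smul_zero, smul_zero]))

variable {A : Type u} [CommRing A]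

/-- Localisation at `m` of the cohomology. -/
theorem nonempty_HD_bcD_equiv (S : Type u) [CommRing S] [Algebra A S] [PreservesFiniteLimits (bcMod (A := A) S)]
    (R : Dual.D A) (q : ℤ) : Nonempty (Dual.HD S ((bcD S).obj R) q ≃ₗ[S] S ⊗[A] Dual.HD A R q) := by
  obtain ⟨e⟩ := nonempty_bcMod_iso (A := A) S (Dual.HD A R q)
  exact ⟨(((DerTrunc.homologyMapIso (bcMod (A := A) S) q).app R) ≪≫ e).toLinearEquiv⟩

/-- Vanishing of a localised module. -/
theorem subsingleton_tensor_localization_iff (T : Submonoid A) (S : Type u) [CommRing S] [Algebra A S]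
    [IsLocalization T S] (M : Type*) [AddCommGroup M] [Module A M] :
    Subsingleton (S ⊗[A] M) ↔ ∀ x : M, ∃ s ∈ T, s • x = 0 := by
  constructor
  · intro h x
    obtain ⟨c, hc⟩ := (IsLocalizedModule.eq_zero_iff T (TensorProduct.mk A S M 1) (m := x)).1 (h.elim _ _)
    exact ⟨c, c.2, hc⟩
  · intro h
    refine subsingleton_of_forall_eq 0 fun z => ?_
    obtain ⟨⟨x, t⟩, hz⟩ := IsLocalizedModule.surj T (TensorProduct.mk A S M 1) z
    obtain ⟨s, hs, hsx⟩ := h x
    have h0 : TensorProduct.mk A S M 1 x = 0 :=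
      (IsLocalizedModule.eq_zero_iff T (TensorProduct.mk A S M 1)).2 ⟨⟨s, hs⟩, hsx⟩
    rw [h0] at hz
    exact IsLocalizedModule.smul_injective (TensorProduct.mk A S M 1) t (hz.trans (smul_zero _).symm)

variable [IsNoetherianRing A]

/-- A prime-local dualizing complex with finite cohomology, bounded below, over a ring of finite dimension. -/
theorem isDualizing_of_pointwise (R : Dual.D A) (hfin : ∀ i, Module.Finite A (Dual.HD A R i)) (a : ℤ) [R.IsGE a]
    (d : ℕ) (hd : ringKrullDim A ≤ d)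
    [∀ p : PrimeSpectrum A, Module.Flat A (Localization.AtPrime p.asIdeal)]
    [∀ p : PrimeSpectrum A, PreservesFiniteLimits (bcMod (A := A) (Localization.AtPrime p.asIdeal))]
    (h : ∀ p : PrimeSpectrum A,
      Dual.IsDualizing (Localization.AtPrime p.asIdeal) ((bcD (Localization.AtPrime p.asIdeal)).obj R)) :
    Dual.IsDualizing A R := by
  have hdim : ∀ p : PrimeSpectrum A, ringKrullDim (Localization.AtPrime p.asIdeal) ≤ d := fun p => by
    rw [IsLocalization.AtPrime.ringKrullDim_eq_height p.asIdeal (Localization.AtPrime p.asIdeal)]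
    exact le_trans (Ideal.height_le_ringKrullDim_of_ne_top p.2.ne_top) hd
  choose c hc hres using fun p : PrimeSpectrum A => local_bounds (h p) d (hdim p)
  have hex : ∀ p : PrimeSpectrum A, ∃ j, Nontrivial (Localization.AtPrime p.asIdeal ⊗[A] Dual.HD A R j) := fun p => by
    obtain ⟨j, hj⟩ := exists_nontrivial_HD (h p)
    haveI := hj
    obtain ⟨e⟩ := nonempty_HD_bcD_equiv (Localization.AtPrime p.asIdeal) R j
    exact ⟨j, e.symm.toEquiv.nontrivial⟩
  choose jm hjm using hex
  have hminfin : {p : PrimeSpectrum A | p.asIdeal ∈ minimalPrimes A}.Finite :=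
    (minimalPrimes.finite_of_isNoetherianRing A).preimage fun p _ q _ h => PrimeSpectrum.ext h
  obtain ⟨J, hJ⟩ := (hminfin.image jm).bddAbove
  let C : ℤ := J + d
  have hcC : ∀ m : PrimeSpectrum A, c m ≤ C := by
    intro m
    obtain ⟨p, hp, hpm⟩ := Ideal.exists_minimalPrimes_le (show (⊥ : Ideal A) ≤ m.asIdeal from bot_le)
    obtain ⟨P, rfl⟩ : ∃ P : PrimeSpectrum A, P.asIdeal = p := ⟨⟨p, hp.isPrime⟩, rfl⟩
    have h1 : Nontrivial (Localization.AtPrime m.asIdeal ⊗[A] Dual.HD A R (jm P)) := by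
      rw [← not_subsingleton_iff_nontrivial, subsingleton_tensor_localization_iff m.asIdeal.primeCompl]
      intro h0
      haveI := hjm P
      refine not_subsingleton (Localization.AtPrime P.asIdeal ⊗[A] Dual.HD A R (jm P))
        ((subsingleton_tensor_localization_iff P.asIdeal.primeCompl
        (Localization.AtPrime P.asIdeal) (Dual.HD A R (jm P))).2 fun x => ?_)
      obtain ⟨s, hs, hsx⟩ := h0 x
      exact ⟨s, fun hsp => hs (hpm hsp), hsx⟩
    obtain ⟨e⟩ := nonempty_HD_bcD_equiv (Localization.AtPrime m.asIdeal) R (jm P)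
    have h2 := (hc m _ e.toEquiv.nontrivial).1
    have h3 : jm P ≤ J := hJ ⟨P, hp, rfl⟩
    omega
  have hS : ∀ I : Ideal A, (∀ p : PrimeSpectrum A, ∃ s ∈ p.asIdeal.primeCompl, s ∈ I) → I = ⊤ := by
    intro I hI
    by_contra hne
    obtain ⟨m, hm, hle⟩ := Ideal.exists_le_maximal I hne
    obtain ⟨s, hs, hsI⟩ := hI ⟨m, hm.isPrime⟩
    exact hs (hle hsI)
  haveI : R.IsLE C := by
    rw [DerivedCategory.isLE_iff]
    intro q hq
    refine (DR.subsingleton_iff_isZero _).1 ?_
    refine detectsZero_localization (fun p : PrimeSpectrum A => p.asIdeal.primeCompl) hS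
      (fun p : PrimeSpectrum A => Localization.AtPrime p.asIdeal) (Dual.HD A R q) fun p => ?_
    by_contra hne
    rw [not_subsingleton_iff_nontrivial] at hne
    obtain ⟨e⟩ := nonempty_HD_bcD_equiv (Localization.AtPrime p.asIdeal) R q
    have := (hc p q e.toEquiv.nontrivial).2
    have := hcC p
    omega
  have hm : ∀ (m : Ideal A) [m.IsMaximal] (i : ℤ), C < i → Subsingleton (Dual.inD A (A ⧸ m) ⟶ R⟦i⟧) := by
    intro m hmax i hi
    let P : PrimeSpectrum A := ⟨m, hmax.isPrime⟩
    let S := Localization.AtPrime P.asIdeal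
    haveI := hres P i (by have := hcC P; omega)
    obtain ⟨e⟩ := nonempty_bcD_inD (A := A) S (A ⧸ m)
    let e' : S ⊗[A] (A ⧸ m) ≃ₗ[S] (S ⧸ m.map (algebraMap A S)) :=
      (Algebra.TensorProduct.quotIdealMapEquivTensorQuot S m).symm.toLinearEquiv
    let e'' : (S ⧸ m.map (algebraMap A S)) ≃ₗ[S] (S ⧸ IsLocalRing.maximalIdeal S) :=
      Submodule.quotEquivOfEq _ _ Localization.AtPrime.map_eq_maximalIdeal
    haveI : Subsingleton ((bcD S).obj (Dual.inD A (A ⧸ m)) ⟶ ((bcD S).obj R)⟦i⟧) :=
      ((e ≪≫ (DerivedCategory.singleFunctor (ModuleCat.{u} S) 0).mapIso (e'.trans e'').toModuleIso).homFromEquiv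
        (Z := ((bcD S).obj R)⟦i⟧)).subsingleton
    haveI := ((shiftBc S R i).homToEquiv (Z := (bcD S).obj (Dual.inD A (A ⧸ m)))).subsingleton
    haveI : Subsingleton (S ⊗[A] (Dual.inD A (A ⧸ m) ⟶ R⟦i⟧)) :=
      (isBC_inD S R a (i - a + 1).toNat (A ⧸ m) i (by omega)).1.subsingleton
    refine subsingleton_of_forall_eq 0 fun f => ?_
    obtain ⟨s, hs, hsf⟩ := (subsingleton_tensor_localization_iff P.asIdeal.primeCompl S _).1 inferInstance f
    obtain ⟨t, r, hr, hsum⟩ := hmax.exists_inv hs
    rw [← one_smul A f, ← hsum, add_smul, mul_smul, hsf, smul_zero, zero_add]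
    exact smul_inD_hom m _ r hr f
  have hamp := hasInjAmplitudeIn_of_residue R a C hfin hm
  exact isDualizing_of_family (fun p : PrimeSpectrum A => Localization.AtPrime p.asIdeal)
    (detectsZero_localization (fun p : PrimeSpectrum A => p.asIdeal.primeCompl) hS _)
    (detectsZero_localization (fun p : PrimeSpectrum A => p.asIdeal.primeCompl) hS _)
    a C hfin ⟨a, C, fun M _ _ i hi => DR.subsingleton_ext_of_injAmp hamp M i hi⟩ h

end GrothLib.DualCx22
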