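import Groth.Agent.Lib.DualCx22.BidualFL
import Groth.Agent.Lib.LC.Artinian

/-!
# Biduality from the residue field: descent along the maximal ideal
-/

set_option autoImplicit false
set_option linter.style.haveILetI false
universe u

open CategoryTheory CategoryTheory.Limits CochainComplex CochainComplex.HomComplex HomologicalComplex

attribute [local instance] HasDerivedCategory.standard

namespace GrothLib.DualCx22

variable {A : Type u} [CommRing A]

/-- Finiteness in the middle of an exact sequence. -/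
theorem finite_of_sc [IsNoetherianRing A] {S : ShortComplex (ModuleCat.{u} A)} (hS : S.Exact)
    (h₁ : Module.Finite A S.X₁) (h₃ : Module.Finite A S.X₃) : Module.Finite A S.X₂ := by
  haveI := h₁
  haveI := h₃
  have hfg : (⊤ : Submodule A S.X₂).FG := by
    refine Submodule.fg_of_fg_map_of_fg_inf_ker S.g.hom ?_ ?_
    · exact IsNoetherian.noetherian _
    · rw [top_inf_eq, ← hS.moduleCat_range_eq_ker]
      exact Module.Finite.iff_fg.1 inferInstance
  exact ⟨hfg⟩

theorem subsingleton_of_sc {S : ShortComplex (ModuleCat.{u} A)} (hS : S.Exact)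
    (h₁ : Subsingleton S.X₁) (h₃ : Subsingleton S.X₃) : Subsingleton S.X₂ :=
  subsingleton_of_forall_eq 0 fun x => by
    obtain ⟨y, rfl⟩ := (ShortComplex.moduleCat_exact_iff _).1 hS x (Subsingleton.elim _ _)
    rw [Subsingleton.elim y 0, map_zero]

section Functorial

variable (I : DRing.Cx A)

theorem ddMap_comp {P Q R : DRing.Cx A} (f : P ⟶ Q) (g : Q ⟶ R) :
    ddMap I (f ≫ g) = ddMap I f ≫ ddMap I g := by
  refine HomologicalComplex.hom_ext _ _ fun n => ModuleCat.hom_ext (LinearMap.ext fun (Φ : Cochain (DRing.homCx P I) I n) => ?_)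
  refine Cochain.ext _ _ fun q r hqr => ModuleCat.hom_ext (LinearMap.ext fun (φ : Cochain R I q) => ?_)
  change ((Cochain.ofHom (GrothLib.RH.homCxPre (f ≫ g) I)).comp Φ (zero_add n)).v q r hqr φ =
    ((Cochain.ofHom (GrothLib.RH.homCxPre g I)).comp ((Cochain.ofHom (GrothLib.RH.homCxPre f I)).comp Φ (zero_add n))
      (zero_add n)).v q r hqr φ
  rw [Cochain.zero_cochain_comp_v, Cochain.zero_cochain_comp_v, Cochain.zero_cochain_comp_v, Cochain.ofHom_v,
    Cochain.ofHom_v, Cochain.ofHom_v]
  change Φ.v q r hqr ((Cochain.ofHom (f ≫ g)).comp φ (zero_add q)) =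
    Φ.v q r hqr ((Cochain.ofHom f).comp ((Cochain.ofHom g).comp φ (zero_add q)) (zero_add q))
  rw [← Cochain.comp_assoc_of_first_is_zero_cochain, ← Cochain.ofHom_comp]

theorem ddMap_smul_id {P : DRing.Cx A} (x : A) : ddMap I (x • 𝟙 P) = x • 𝟙 (dd I P) := by
  refine HomologicalComplex.hom_ext _ _ fun n => ModuleCat.hom_ext (LinearMap.ext fun (Φ : Cochain (DRing.homCx P I) I n) => ?_)
  refine Cochain.ext _ _ fun q r hqr => ModuleCat.hom_ext (LinearMap.ext fun (φ : Cochain P I q) => ?_)
  change ((Cochain.ofHom (GrothLib.RH.homCxPre (x • 𝟙 P) I)).comp Φ (zero_add n)).v q r hqr φ = x • Φ.v q r hqr φ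
  rw [Cochain.zero_cochain_comp_v, Cochain.ofHom_v]
  change Φ.v q r hqr ((Cochain.ofHom (x • 𝟙 P)).comp φ (zero_add q)) = x • Φ.v q r hqr φ
  rw [← map_smul]
  refine congrArg _ (Cochain.ext _ _ fun i j hij => ?_)
  rw [Cochain.zero_cochain_comp_v, Cochain.ofHom_v, HomologicalComplex.smul_f_apply, HomologicalComplex.id_f,
    Linear.smul_comp, Category.id_comp]
  exact (Cochain.smul_v x φ i j hij).symm

end Functorial

section Double

variable [IsNoetherianRing A] (I : DRing.Cx A) [I.IsKInjective] {a b : ℤ}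
  (hI : ∀ t, (t < a ∨ b < t) → IsZero (I.X t)) (hinj : ∀ t, Injective (I.X t))
  (hfin : ∀ n, Module.Finite A (Dual.HD A (DRing.toD I) n))

include hI hinj hfin in
/-- The double dual has finite cohomology. -/
theorem finite_homology_dd (P : DRing.Cx A) (hP : ∀ n, Module.Finite A (P.homology n)) (n : ℤ) :
    Module.Finite A ((dd I P).homology n) := by
  have hF : DRing.HasFiniteInjDim A (DRing.toD I) :=
    ⟨a, b, I, hI, fun t => (Module.injective_iff_injective_object A (I.X t)).2 (hinj t), ⟨Iso.refl _⟩⟩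
  have hPD : ∀ p, Module.Finite A (Dual.HD A (DRing.toD P) p) := fun p =>
    haveI := hP p
    Module.Finite.equiv (GrothLib.RGamma.hdEquiv P p).symm
  have hD : ∀ p, Module.Finite A (Dual.HD A (DRing.toD (DRing.homCx P I)) p) := fun p => by
    obtain ⟨e⟩ := GrothLib.DualRing.exists_HD_homCx_equiv P I p
    haveI := finite_hom (DRing.toD P) (DRing.toD I) hPD hfin hF p
    exact Module.Finite.equiv e.symm
  obtain ⟨e⟩ := GrothLib.DualRing.exists_HD_homCx_equiv (DRing.homCx P I) I n
  haveI := finite_hom (DRing.toD (DRing.homCx P I)) (DRing.toD I) hD hfin hF n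
  exact Module.Finite.equiv ((GrothLib.RGamma.hdEquiv (dd I P) n).symm.trans e).symm

end Double

section Local

variable [IsLocalRing A] [IsNoetherianRing A] (I : DRing.Cx A) [I.IsKInjective] {a b : ℤ}
  (hI : ∀ t, (t < a ∨ b < t) → IsZero (I.X t)) (hinj : ∀ t, Injective (I.X t))
  (hfin : ∀ n, Module.Finite A (Dual.HD A (DRing.toD I) n)) {d : ℤ}
  (hvan : ∀ i : ℤ, i ≠ d → Subsingleton (Dual.inD A (IsLocalRing.ResidueField A) ⟶ (DRing.toD I)⟦i⟧))
  (hd : Nonempty ((Dual.inD A (IsLocalRing.ResidueField A) ⟶ (DRing.toD I)⟦d⟧) ≃ₗ[A] IsLocalRing.ResidueField A))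

local notation "𝔪" => IsLocalRing.maximalIdeal A

theorem isFiniteLength_of_killed {M : Type u} [AddCommGroup M] [Module A M] [Module.Finite A M]
    (G : Finset A) (hG : Ideal.span (G : Set A) = 𝔪)
    (h : ∀ x ∈ G, ∀ z : M, ∃ k : ℕ, x ^ k • z = 0) : IsFiniteLength A M := by
  obtain ⟨s, hs⟩ := Module.Finite.fg_top (R := A) (M := M)
  have hrad : 𝔪 ≤ (Module.annihilator A M).radical := hG ▸ Ideal.span_le.2 fun x hx => by
    classical
    choose k hk using fun z : M => h x hx z
    refine ⟨s.sup k, Module.mem_annihilator.2 fun z => ?_⟩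
    have hz : z ∈ Submodule.span A (s : Set M) := hs ▸ Submodule.mem_top
    induction hz using Submodule.span_induction with
    | mem z hz =>
      rw [← Nat.sub_add_cancel (Finset.le_sup (f := k) hz), pow_add, mul_smul, hk, smul_zero]
    | zero => exact smul_zero _
    | add z w _ _ hz hw => rw [smul_add, hz, hw, add_zero]
    | smul r z _ hz => rw [smul_comm, hz, smul_zero]
  obtain ⟨N, hN⟩ := Ideal.exists_pow_le_of_le_radical_of_fg hrad (IsNoetherian.noetherian 𝔪)
  haveI : IsArtinian A M := (GrothLib.LC.finite_iff_isArtinian_of_pow_smul 𝔪 (N := N) fun r hr z =>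
    Module.mem_annihilator.1 (hN hr) z).1 inferInstance
  exact isFiniteLength_iff_isNoetherian_isArtinian.2 ⟨inferInstance, inferInstance⟩

include hI hinj hvan hd in
/-- Bounded complexes with cohomology of finite length. -/
theorem isBidual_finiteLength_cx : ∀ (k : ℕ) (P : DRing.Cx A) (c : ℤ),
    (∀ n, (n < c ∨ c + k ≤ n) → Subsingleton (P.homology n)) → (∀ n, IsFiniteLength A (P.homology n)) →
      IsBidual I P := by
  intro k
  induction k with
  | zero =>
    intro P c hv _
    let Z : DRing.Cx A := (CochainComplex.singleFunctor (ModuleCat.{u} A) 0).obj (ModuleCat.of A PUnit.{u + 1})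
    have hZ : ∀ i, IsZero (Z.X i) := fun i => by
      by_cases hi : i = 0
      · subst hi
        exact (ModuleCat.isZero_of_subsingleton (ModuleCat.of A PUnit.{u + 1})).of_iso
          (singleObjXSelf (ComplexShape.up ℤ) 0 _)
      · exact isZero_single_obj_X _ _ _ _ hi
    haveI : QuasiIso (0 : Z ⟶ P) := by
      rw [quasiIso_iff]
      intro i
      rw [quasiIsoAt_iff_isIso_homologyMap]
      haveI := hv i (by omega)
      exact (isZero_homology_of_X (hZ i)).isIso (ModuleCat.isZero_of_subsingleton _) _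
    exact (isBidual_iff_of_quasiIso I (0 : Z ⟶ P)).1 (isBidual_of_isZero I hI hZ)
  | succ k ih =>
    intro P c hv hfl
    have hS := P.shortComplexTruncLE_shortExact c
    let q := P.shortComplexTruncLEX₃ToTruncGE c (c + 1) rfl
    refine (isBidual_two_of_three I hinj hS).2.1 ?_ ((isBidual_iff_of_quasiIso I q).2 ?_)
    · have hlo : ∀ n, n ≠ c → IsZero ((P.truncLE c).homology n) := fun n hn => by
        rcases lt_or_gt_of_ne hn with h | h
        · haveI := hv n (Or.inl h)
          haveI : QuasiIsoAt (P.ιTruncLE c) n := P.quasiIsoAt_ιTruncLE c n h.le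
          exact (ModuleCat.isZero_of_subsingleton (P.homology n)).of_iso
            (isoOfQuasiIsoAt (P.ιTruncLE c) n)
        · exact isZero_homology_of_X ((P.truncLE c).isZero_of_isStrictlyLE c n h)
      haveI : DerivedCategory.IsGE (DRing.toD (P.truncLE c)) c := by
        rw [DerivedCategory.isGE_iff]
        exact fun n hn => (hlo n hn.ne).of_iso ((DerivedCategory.homologyFunctorFactors _ n).app _)
      haveI : DerivedCategory.IsLE (DRing.toD (P.truncLE c)) c := by
        rw [DerivedCategory.isLE_iff]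
        exact fun n hn => (hlo n hn.ne').of_iso ((DerivedCategory.homologyFunctorFactors _ n).app _)
      obtain ⟨H, ⟨eH⟩⟩ := DerivedCategory.exists_iso_singleFunctor_obj_of_isGE_of_isLE (DRing.toD (P.truncLE c)) c
      haveI : QuasiIsoAt (P.ιTruncLE c) c := P.quasiIsoAt_ιTruncLE c c le_rfl
      let eHc : H ≅ P.homology c :=
        ((DerivedCategory.singleFunctorCompHomologyFunctorIso (ModuleCat.{u} A) c).app H).symm ≪≫
          (DerivedCategory.homologyFunctor (ModuleCat.{u} A) c).mapIso eH.symm ≪≫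
          (DerivedCategory.homologyFunctorFactors _ c).app _ ≪≫ isoOfQuasiIsoAt (P.ιTruncLE c) c
      have hH : IsFiniteLength A H := (eHc.symm.toLinearEquiv.isFiniteLength (hfl c))
      refine isBidual_of_isoD I ?_ (isBidual_finiteLength I hI hinj hvan hd c hH)
      exact GrothLib.DR.toDSingleIso c (ModuleCat.of A H) ≪≫ (GrothLib.DR.singleIsoShift c (ModuleCat.of A H)).symm ≪≫ eH.symm
    · refine ih (P.truncGE (c + 1)) (c + 1) (fun n hn => ?_) fun n => ?_
      · rcases lt_or_ge n (c + 1) with h | h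
        · exact ModuleCat.subsingleton_of_isZero
            (isZero_homology_of_X ((P.truncGE (c + 1)).isZero_of_isStrictlyGE (c + 1) n h))
        · haveI := hv n (Or.inr (by push_cast; omega))
          haveI : QuasiIsoAt (P.πTruncGE (c + 1)) n := P.quasiIsoAt_πTruncGE (c + 1) n h
          exact (isoOfQuasiIsoAt (P.πTruncGE (c + 1)) n).toLinearEquiv.symm.toEquiv.subsingleton
      · rcases lt_or_ge n (c + 1) with h | h
        · haveI := ModuleCat.subsingleton_of_isZero
            (isZero_homology_of_X ((P.truncGE (c + 1)).isZero_of_isStrictlyGE (c + 1) n h))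
          exact IsFiniteLength.of_subsingleton
        · haveI : QuasiIsoAt (P.πTruncGE (c + 1)) n := P.quasiIsoAt_πTruncGE (c + 1) n h
          exact (isoOfQuasiIsoAt (P.πTruncGE (c + 1)) n).toLinearEquiv.isFiniteLength (hfl n)

include hI hinj hfin in
/-- Descent along one element of the maximal ideal. -/
theorem isBidual_of_quotient {P : DRing.Cx A} (hP : SmallH P) {x : A} (hx : x ∈ 𝔪) {S : ShortComplex (DRing.Cx A)}
    (hS : S.ShortExact) (f : P ⟶ S.X₂) (p : S.X₂ ⟶ P) [QuasiIso p] (hfp : f ≫ p = x • 𝟙 P)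
    (e : S.X₁ = P) (hf : eqToHom e.symm ≫ S.f = f) (h₃ : IsBidual I S.X₃) : IsBidual I P := by
  subst e
  rw [eqToHom_refl, Category.id_comp] at hf
  subst hf
  have hT := dd_shortExact I hinj hS
  haveI := quasiIso_ddMap I p
  have he₃ : ∀ m, Function.Bijective (homologyMap (evI I S.X₃) m) := fun m => by
    haveI : QuasiIso (evI I S.X₃) := h₃
    exact (ConcreteCategory.isIso_iff_bijective _).1 ((quasiIsoAt_iff_isIso_homologyMap _ m).1 inferInstance)
  have hp : ∀ m, Function.Bijective (homologyMap p m) := fun m =>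
    (ConcreteCategory.isIso_iff_bijective _).1 ((quasiIsoAt_iff_isIso_homologyMap _ m).1 inferInstance)
  have hdp : ∀ m, Function.Bijective (homologyMap (ddMap I p) m) := fun m =>
    (ConcreteCategory.isIso_iff_bijective _).1 ((quasiIsoAt_iff_isIso_homologyMap _ m).1 inferInstance)
  have hsq : ∀ {Y Z : DRing.Cx A} (g : Y ⟶ Z) (m : ℤ) (z : Y.homology m),
      homologyMap (evI I Z) m (homologyMap g m z) = homologyMap (ddMap I g) m (homologyMap (evI I Y) m z) :=
    fun g m z => by
      rw [← ConcreteCategory.comp_apply, ← homologyMap_comp, evI_naturality, homologyMap_comp,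
        ConcreteCategory.comp_apply]
  have hδ : ∀ (m m' : ℤ) (h : m + 1 = m') (z : S.X₃.homology m),
      homologyMap (evI I S.X₁) m' (hS.δ m m' h z) = hT.δ m m' h (homologyMap (evI I S.X₃) m z) := fun m m' h z =>
    ConcreteCategory.congr_hom (HomologySequence.δ_naturality (evSC I S) hS hT m m' h) z
  have hpf : ∀ m (z : S.X₁.homology m), homologyMap p m (homologyMap S.f m z) = x • z := fun m z => by
    rw [← ConcreteCategory.comp_apply, ← homologyMap_comp, hfp]
    exact GrothLib.RGamma.homologyMap_smul_id x m z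
  have hdpf : ∀ m (z : (dd I S.X₁).homology m),
      homologyMap (ddMap I p) m (homologyMap (ddMap I S.f) m z) = x • z := fun m z => by
    rw [← ConcreteCategory.comp_apply, ← homologyMap_comp,
      show ddMap I S.f ≫ ddMap I p = ddMap I (S.f ≫ p) from (ddMap_comp I S.f p).symm, hfp, ddMap_smul_id]
    exact GrothLib.RGamma.homologyMap_smul_id x m z
  have hjac : 𝔪 ≤ (⊥ : Ideal A).jacobson := (IsLocalRing.jacobson_eq_maximalIdeal ⊥ bot_ne_top).ge
  have hinj' : ∀ m, Function.Injective (homologyMap (evI I S.X₁) m) := fun m => by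
    haveI := hP.finite m
    let K : Submodule A (S.X₁.homology m) := LinearMap.ker (homologyMap (evI I S.X₁) m).hom
    have hK : K = ⊥ := Submodule.eq_bot_of_le_smul_of_le_jacobson_bot 𝔪 K (IsNoetherian.noetherian K)
      (fun z hz => by
        obtain ⟨w, hw⟩ := (hp m).2 z
        have h2 : homologyMap (evI I S.X₂) m w = 0 := (hdp m).1 (by rw [← hsq, hw, map_zero]; exact hz)
        have h3 : homologyMap S.g m w = 0 := (he₃ m).1 (by rw [hsq, h2, map_zero, map_zero])
        obtain ⟨u, hu⟩ := (ShortComplex.moduleCat_exact_iff _).1 (hS.homology_exact₂ m) w h3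
        change homologyMap S.f m u = w at hu
        have h1 : homologyMap (ddMap I S.f) m (homologyMap (evI I S.X₁) m u) = 0 := by rw [← hsq, hu, h2]
        obtain ⟨v, hv⟩ := (ShortComplex.moduleCat_exact_iff _).1 (hT.homology_exact₁ (m - 1) m (by simp))
          (homologyMap (evI I S.X₁) m u) h1
        obtain ⟨v₀, rfl⟩ := (he₃ (m - 1)).2 v
        have hz' : u - hS.δ (m - 1) m (by simp) v₀ ∈ K := LinearMap.mem_ker.2 (by
          refine (map_sub (homologyMap (evI I S.X₁) m).hom _ _).trans (sub_eq_zero.2 ?_)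
          exact hv.symm.trans (hδ _ _ (by simp) v₀).symm)
        have hz2 : x • (u - hS.δ (m - 1) m (by simp) v₀) = z := by
          rw [← hpf, map_sub, show homologyMap S.f m (hS.δ (m - 1) m (by simp) v₀) = 0 from
            ConcreteCategory.congr_hom (hS.δ_comp (m - 1) m (by simp)) v₀, sub_zero, hu, hw]
        rw [← hz2]
        exact Submodule.smul_mem_smul hx hz') hjac
    exact LinearMap.ker_eq_bot.1 hK
  rw [IsBidual, quasiIso_iff]
  intro m
  rw [quasiIsoAt_iff_isIso_homologyMap, ConcreteCategory.isIso_iff_bijective]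
  refine ⟨hinj' m, ?_⟩
  haveI := finite_homology_dd I hI hinj hfin S.X₁ hP.finite m
  let R : Submodule A ((dd I S.X₁).homology m) := LinearMap.range (homologyMap (evI I S.X₁) m).hom
  have htop : (⊤ : Submodule A (((dd I S.X₁).homology m : Type u) ⧸ R)) = ⊥ :=
    Submodule.eq_bot_of_le_smul_of_le_jacobson_bot 𝔪 ⊤ Module.Finite.fg_top (fun z _ => by
      obtain ⟨c, rfl⟩ := Submodule.mkQ_surjective R z
      obtain ⟨c₂, hc₂⟩ := (hdp m).2 c
      obtain ⟨w₃, hw₃⟩ := (he₃ m).2 (homologyMap (ddMap I S.g) m c₂)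
      have h0 : hS.δ m (m + 1) rfl w₃ = 0 := hinj' (m + 1) (by
        rw [hδ, hw₃, map_zero]
        exact ConcreteCategory.congr_hom (hT.comp_δ m (m + 1) rfl) c₂)
      obtain ⟨w, hw⟩ := (ShortComplex.moduleCat_exact_iff _).1 (hS.homology_exact₃ m (m + 1) rfl) w₃ h0
      change homologyMap S.g m w = w₃ at hw
      obtain ⟨c', hc'⟩ : ∃ c' : (dd I S.X₁).homology m,
          homologyMap (ddMap I S.f) m c' = c₂ - homologyMap (evI I S.X₂) m w :=
        (ShortComplex.moduleCat_exact_iff _).1 (hT.homology_exact₂ m)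
        (c₂ - homologyMap (evI I S.X₂) m w) (by
          change homologyMap (ddMap I S.g) m (c₂ - homologyMap (evI I S.X₂) m w) = 0
          rw [map_sub, ← hsq, hw, hw₃, sub_self])
      have hc : c = x • c' + homologyMap (evI I S.X₁) m (homologyMap p m w) := by
        rw [← hdpf, hc', map_sub, hc₂, hsq, sub_add_cancel]
      have hR : R.mkQ (homologyMap (evI I S.X₁) m (homologyMap p m w)) = 0 :=
        (Submodule.Quotient.mk_eq_zero R).2 ⟨homologyMap p m w, rfl⟩
      rw [hc, map_add, hR, add_zero, map_smul]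
      exact Submodule.smul_mem_smul hx Submodule.mem_top) hjac
  intro c
  exact (Submodule.Quotient.mk_eq_zero R).1 ((Submodule.mem_bot A).1 (htop ▸ Submodule.mem_top))

include hI hinj hfin hvan hd in
/-- Induction on generators that are not yet torsion. -/
theorem isBidual_of_torsion (G : Finset A) (hG : Ideal.span (G : Set A) = 𝔪) (s : Finset A) :
    s ⊆ G → ∀ P : DRing.Cx A, SmallH P →
      (∀ y ∈ G, y ∉ s → ∀ n, ∀ z : P.homology n, ∃ k : ℕ, y ^ k • z = 0) → IsBidual I P := by
  classical
  induction s using Finset.induction with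
  | empty =>
    intro _ P hP htor
    obtain ⟨c, e, hb⟩ := hP.bdd
    refine isBidual_finiteLength_cx I hI hinj hvan hd (e + 1 - c).toNat P c
      (fun n hn => hb n (by omega)) fun n => ?_
    haveI := hP.finite n
    exact isFiniteLength_of_killed G hG fun y hy z => htor y hy (Finset.notMem_empty y) n z
  | insert x s hxs ih =>
    intro hs P hP htor
    have hxm : x ∈ 𝔪 := hG ▸ Ideal.subset_span (hs (Finset.mem_insert_self x s))
    let C : DRing.Cx A := CochainComplex.mappingCone (𝟙 P)
    let f : P ⟶ P ⊞ C := biprod.lift (x • 𝟙 P) (CochainComplex.mappingCone.inr (𝟙 P))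
    haveI : ∀ n, Mono (f.f n) := fun n => by
      have e : f.f n ≫ ((biprod.snd : P ⊞ C ⟶ C).f n ≫ (CochainComplex.mappingCone.snd (𝟙 P)).v n n (add_zero n)) =
          𝟙 (P.X n) := by
        rw [← Category.assoc, ← HomologicalComplex.comp_f, biprod.lift_snd, CochainComplex.mappingCone.inr_f_snd_v]
      exact (SplitMono.mk _ e).mono
    haveI : Mono f := HomologicalComplex.mono_of_mono_f f this
    let S : ShortComplex (DRing.Cx A) := ShortComplex.mk f (cokernel.π f) (cokernel.condition f)
    have hS : S.ShortExact :=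
      { exact := ShortComplex.exact_of_g_is_cokernel _ (cokernelIsCokernel f)
        mono_f := ‹Mono f›
        epi_g := (inferInstance : Epi (cokernel.π f)) }
    haveI hq : QuasiIso (biprod.fst : P ⊞ C ⟶ P) := by
      rw [quasiIso_iff]
      intro n
      rw [quasiIsoAt_iff_isIso_homologyMap]
      have hC : IsZero (C.homology n) := by
        rw [IsZero.iff_id_eq_zero, ← homologyMap_id, ← homologyMap_zero C C n]
        exact (CochainComplex.mappingCone.homotopyToZeroOfId P).homologyMap_eq n
      refine ⟨homologyMap biprod.inl n, ?_, ?_⟩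
      · have e : biprod.fst ≫ biprod.inl = 𝟙 (P ⊞ C) - biprod.snd ≫ biprod.inr := by
          rw [eq_sub_iff_add_eq]
          exact biprod.total
        rw [← homologyMap_comp, e, homologyMap_sub, homologyMap_id, homologyMap_comp,
          hC.eq_of_tgt (homologyMap (biprod.snd : P ⊞ C ⟶ C) n) 0, zero_comp, sub_zero]
      · rw [← homologyMap_comp, biprod.inl_fst, homologyMap_id]
    let ι : ∀ n, S.X₂.homology n ≃ₗ[A] P.homology n := fun n =>
      (isoOfQuasiIsoAt (biprod.fst : P ⊞ C ⟶ P) n).toLinearEquiv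
    have hι : ∀ n z, ι n (homologyMap f n z) = x • z := fun n z => by
      change (homologyMap f n ≫ homologyMap biprod.fst n) z = _
      rw [← homologyMap_comp, biprod.lift_fst]
      exact GrothLib.RGamma.homologyMap_smul_id x n z
    have hxker : ∀ n (z : P.homology n), homologyMap f n z = 0 → x • z = 0 := fun n z hz => by
      rw [← hι, hz, map_zero]
    -- the cohomology of the quotient
    have hfin₂ : ∀ n, Module.Finite A (S.X₂.homology n) := fun n =>
      haveI := hP.finite n
      Module.Finite.equiv (ι n).symm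
    have hsmall : SmallH S.X₃ := by
      refine ⟨fun n => finite_of_sc (hS.homology_exact₃ n (n + 1) rfl) (hfin₂ n) (hP.finite (n + 1)), ?_⟩
      obtain ⟨c, e, hb⟩ := hP.bdd
      refine ⟨c - 1, e, fun n hn => subsingleton_of_sc (hS.homology_exact₃ n (n + 1) rfl) ?_ (hb (n + 1) (by omega))⟩
      haveI := hb n (by omega)
      exact (ι n).toEquiv.subsingleton
    have hxtor : ∀ n (z : S.X₃.homology n), x • (x • z) = 0 := fun n z => by
      have hδ : hS.δ n (n + 1) rfl (x • z) = 0 := by
        rw [map_smul]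
        refine hxker _ _ ?_
        exact ConcreteCategory.congr_hom (hS.δ_comp n (n + 1) rfl) z
      obtain ⟨w, hw⟩ := (ShortComplex.moduleCat_exact_iff _).1 (hS.homology_exact₃ n (n + 1) rfl) (x • z) hδ
      obtain ⟨w', hw'⟩ : ∃ w', homologyMap f n w' = x • w :=
        ⟨ι n w, (ι n).injective (by rw [hι, map_smul])⟩
      rw [← hw, ← map_smul, ← hw', ← ConcreteCategory.comp_apply, ← homologyMap_comp, S.zero, homologyMap_zero]
      rfl
    have hb₃ : IsBidual I S.X₃ := ih (fun y hy => hs (Finset.mem_insert_of_mem hy)) S.X₃ hsmall fun y hy hys n z => by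
      by_cases hyx : y = x
      · exact ⟨2, by rw [hyx, pow_two, mul_smul, hxtor]⟩
      have hy' : ∀ n, ∀ z : P.homology n, ∃ k : ℕ, y ^ k • z = 0 :=
        htor y hy fun h => (Finset.mem_insert.1 h).elim hyx hys
      obtain ⟨k₁, hk₁⟩ := hy' (n + 1) (hS.δ n (n + 1) rfl z)
      obtain ⟨w, hw⟩ := (ShortComplex.moduleCat_exact_iff _).1 (hS.homology_exact₃ n (n + 1) rfl) (y ^ k₁ • z)
        ((map_smul (hS.δ n (n + 1) rfl).hom _ _).trans hk₁)
      change homologyMap S.g n w = y ^ k₁ • z at hw
      obtain ⟨k₂, hk₂⟩ := hy' n (ι n w)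
      have hw0 : y ^ k₂ • w = 0 := (ι n).injective (by rw [map_smul, hk₂, map_zero])
      exact ⟨k₂ + k₁, by rw [pow_add, mul_smul, ← hw, ← map_smul, hw0, map_zero]⟩
    exact isBidual_of_quotient I hI hinj hfin hP hxm hS f biprod.fst (biprod.lift_fst _ _) rfl
      (by rw [eqToHom_refl, Category.id_comp]) hb₃

include hI hinj hfin hvan hd in
/-- **Biduality criterion.** -/
theorem isBidual_of_residue (P : DRing.Cx A) (hP : SmallH P) : IsBidual I P := by
  obtain ⟨G, hG⟩ := (IsNoetherian.noetherian 𝔪 : (𝔪).FG)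
  exact isBidual_of_torsion I hI hinj hfin hvan hd G hG G (Finset.Subset.refl G) P hP fun y hy hy' => absurd hy hy'

end Local

end GrothLib.DualCx22
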