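import Groth.Agent.Lib.DualCx22.DualRep
import Groth.Agent.Lib.DualRing.Local
import Groth.Agent.Lib.DCxKFlat.Resolution
import Groth.Agent.Lib.DCxKFlat.TensorSymm
import Groth.Agent.Lib.DCxRHom.Rep
import Groth.Agent.Lib.RGamma.Compute
import Groth.Agent.Lib.DualCx22.BidualCrit

/-!
# Uniqueness of dualizing complexes over local rings
-/

set_option autoImplicit false
set_option linter.style.haveILetI false
universe u

open CategoryTheory CategoryTheory.Limits CategoryTheory.Pretriangulated CochainComplex CochainComplex.HomComplex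
  DerivedCategory

attribute [local instance] HasDerivedCategory.standard

namespace GrothLib.DualCx22

variable {A : Type u} [CommRing A]

/-- `Hom•(A[-t], I) = I⟦t⟧`. -/
noncomputable def homCxSingleRingIso (t : ℤ) (I : DRing.Cx A) :
    DRing.homCx ((CochainComplex.singleFunctor (ModuleCat.{u} A) t).obj (ModuleCat.of A A)) I ≅ I⟦t⟧ := by
  let P := (CochainComplex.singleFunctor (ModuleCat.{u} A) t).obj (ModuleCat.of A A)
  let η := HomologicalComplex.singleObjXSelf (ComplexShape.up ℤ) t (ModuleCat.of A A)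
  let ev : ∀ n : ℤ, Cochain P I n →ₗ[A] I.X (n + t) := fun n =>
    { toFun := fun z => ((n * t).negOnePow : ℤ) • (z.v t (n + t) (by omega)) (η.inv (1 : A))
      map_add' := fun z w => by
        rw [Cochain.add_v]
        exact smul_add ((n * t).negOnePow : ℤ) ((z.v t (n + t) (by omega)) (η.inv (1 : A)))
          ((w.v t (n + t) (by omega)) (η.inv (1 : A)))
      map_smul' := fun a z => by
        rw [Cochain.smul_v, RingHom.id_apply]
        exact smul_comm ((n * t).negOnePow : ℤ) a _ }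
  have hsign : ∀ k : ℤ, ((k.negOnePow : ℤ) * (k.negOnePow : ℤ)) = 1 := fun k => by
    rcases Int.units_eq_one_or k.negOnePow with e | e <;> simp [e]
  have hbij : ∀ n, Function.Bijective (ev n) := fun n => by
    constructor
    · intro z w e
      have e' := congrArg (fun x => ((n * t).negOnePow : ℤ) • x) e
      simp only [ev, LinearMap.coe_mk, AddHom.coe_mk, smul_smul, hsign, one_smul] at e'
      refine (Cochain.fromSingleEquiv (show t + n = n + t by omega)).injective (ModuleCat.hom_ext ?_)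
      exact LinearMap.ext_ring e'
    · intro x
      refine ⟨Cochain.fromSingleMk (ModuleCat.ofHom (LinearMap.toSpanSingleton A _ (((n * t).negOnePow : ℤ) • x)))
        (show t + n = n + t by omega), ?_⟩
      simp only [ev, LinearMap.coe_mk, AddHom.coe_mk, Cochain.fromSingleMk_v]
      change ((n * t).negOnePow : ℤ) • (LinearMap.toSpanSingleton A _ (((n * t).negOnePow : ℤ) • x)) (η.hom (η.inv (1 : A))) = x
      rw [← ConcreteCategory.comp_apply η.inv, Iso.inv_hom_id]
      change ((n * t).negOnePow : ℤ) • ((1 : A) • (((n * t).negOnePow : ℤ) • x)) = x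
      rw [one_smul, smul_smul, hsign, one_smul]
  refine HomologicalComplex.Hom.isoOfComponents (fun n => (LinearEquiv.ofBijective (ev n) (hbij n)).toModuleIso ≪≫
    (CochainComplex.shiftFunctorObjXIso I t n (n + t) rfl).symm) fun n m hnm => ?_
  obtain rfl : n + 1 = m := hnm
  refine ModuleCat.hom_ext (LinearMap.ext fun (z : Cochain P I n) => ?_)
  obtain ⟨g, rfl⟩ := Cochain.fromSingleMk_surjective z (n + t) (show t + n = n + t by omega)
  change ((t.negOnePow : ℤ) • (I.d (n + t) (n + 1 + t)).hom) (ev n (Cochain.fromSingleMk g (by omega))) =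
    ev (n + 1) (δ n (n + 1) (Cochain.fromSingleMk g (by omega)))
  rw [Cochain.δ_fromSingleMk g _ (n + 1) (n + 1 + t) (by omega)]
  simp only [ev, LinearMap.coe_mk, AddHom.coe_mk, Cochain.fromSingleMk_v, LinearMap.smul_apply, map_zsmul,
    smul_smul, add_mul, one_mul, Int.negOnePow_add, Units.val_mul, mul_comm (t.negOnePow : ℤ)]
  rfl

/-- The residue field is detected. -/
theorem exists_hom_residue [IsLocalRing A] (H : Type u) [AddCommGroup H] [Module A H] [Module.Finite A H]
    [Nontrivial H] : ∃ φ : H →ₗ[A] IsLocalRing.ResidueField A, ∃ x, φ x = 1 := by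
  obtain ⟨K, hK, -⟩ := (eq_top_or_exists_le_coatom (⊥ : Submodule A H)).resolve_left bot_ne_top
  haveI : IsSimpleModule A (H ⧸ K) := isSimpleModule_iff_isCoatom.2 hK
  obtain ⟨J, hJ, ⟨e⟩⟩ := isSimpleModule_iff_quot_maximal.1 (inferInstance : IsSimpleModule A (H ⧸ K))
  rw [IsLocalRing.eq_maximalIdeal hJ] at e
  exact ⟨e.toLinearMap ∘ₗ K.mkQ, ((e.surjective.comp K.mkQ_surjective) 1)⟩

/-- Cyclicity from the dual. -/
theorem exists_generator_of_hom_residue [IsLocalRing A] (H : Type u) [AddCommGroup H] [Module A H]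
    [Module.Finite A H] [Nontrivial H]
    (h : Nonempty ((H →ₗ[A] IsLocalRing.ResidueField A) ≃ₗ[A] IsLocalRing.ResidueField A)) :
    ∃ x : H, Submodule.span A {x} = ⊤ := by
  obtain ⟨e⟩ := h
  obtain ⟨φ, x, hx⟩ := exists_hom_residue (A := A) H
  refine ⟨x, ?_⟩
  by_contra hne
  haveI : Nontrivial (H ⧸ Submodule.span A {x}) := Submodule.Quotient.nontrivial_iff.2 hne
  obtain ⟨ψ, y, hy⟩ := exists_hom_residue (A := A) (H ⧸ Submodule.span A {x})
  obtain ⟨a, ha⟩ := Ideal.Quotient.mk_surjective (I := IsLocalRing.maximalIdeal A)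
    (e φ * (e (ψ ∘ₗ (Submodule.span A {x}).mkQ))⁻¹)
  have hne0 : e (ψ ∘ₗ (Submodule.span A {x}).mkQ) ≠ 0 := fun h0 => by
    obtain ⟨y', rfl⟩ := Submodule.mkQ_surjective _ y
    have := LinearMap.congr_fun (e.map_eq_zero_iff.1 h0) y'
    exact one_ne_zero (hy.symm.trans this)
  have h1 : a • (ψ ∘ₗ (Submodule.span A {x}).mkQ) = φ := e.injective (by
    rw [map_smul, Algebra.smul_def]
    change Ideal.Quotient.mk _ a * _ = _
    rw [ha]
    exact (mul_assoc _ _ _).trans ((congrArg _ (inv_mul_cancel₀ hne0)).trans (mul_one _)))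
  have h2 := LinearMap.congr_fun h1 x
  rw [LinearMap.smul_apply, LinearMap.comp_apply, Submodule.mkQ_apply,
    (Submodule.Quotient.mk_eq_zero _).2 (Submodule.mem_span_singleton_self x), map_zero, smul_zero, hx] at h2
  exact zero_ne_one h2

variable [IsLocalRing A] [IsNoetherianRing A]

/-- A bounded above object with a highest cohomology: maps to the residue field in that degree. -/
theorem nonempty_hom_top (X : Dual.D A) (t : ℤ) [X.IsLE t] :
    Nonempty ((X ⟶ (DerivedCategory.singleFunctor (ModuleCat.{u} A) t).obj (ModuleCat.of A (IsLocalRing.ResidueField A)))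
      ≃ₗ[A] (Dual.HD A X t →ₗ[A] IsLocalRing.ResidueField A)) := by
  let F := DerivedCategory.singleFunctor (ModuleCat.{u} A) t
  let K := F.obj (ModuleCat.of A (IsLocalRing.ResidueField A))
  haveI hK : K.IsGE t := inferInstance
  let T := (TStructure.t.triangleLTGE t).obj X
  have hT : T ∈ distTriang _ := TStructure.t.triangleLTGE_distinguished t X
  haveI h₁ : DerivedCategory.IsLE T.obj₁ (t - 1) :=
    inferInstanceAs (TStructure.t.IsLE ((TStructure.t.truncLT t).obj X) (t - 1))
  have hz₁ : ∀ φ : T.obj₁ ⟶ K, φ = 0 := fun φ =>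
    TStructure.t.zero_of_isLE_of_isGE φ (t - 1) t (by omega) h₁ hK
  haveI : DerivedCategory.IsLE (T.obj₁⟦(1 : ℤ)⟧) (t - 2) := TStructure.t.isLE_shift _ (t - 1) 1 (t - 2) (by omega)
  let g : (T.obj₃ ⟶ K) →ₗ[A] (X ⟶ K) := Linear.leftComp A K T.mor₂
  have hg : Function.Bijective g := by
    refine ⟨(injective_iff_map_eq_zero g).2 fun φ hφ => ?_, fun φ => ?_⟩
    · obtain ⟨ψ, hψ⟩ := T.yoneda_exact₃ hT φ hφ
      rw [hψ, TStructure.t.zero_of_isLE_of_isGE ψ (t - 2) t (by omega) inferInstance hK, comp_zero]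
    · obtain ⟨ψ, hψ⟩ := T.yoneda_exact₂ hT φ (hz₁ _)
      exact ⟨ψ, hψ.symm⟩
  haveI : DerivedCategory.IsGE T.obj₃ t := inferInstanceAs (TStructure.t.IsGE ((TStructure.t.truncGE t).obj X) t)
  haveI : DerivedCategory.IsLE T.obj₃ t := by
    rw [DerivedCategory.isLE_iff]
    intro j hj
    haveI := DerTrunc.isIso_homology_truncGEπ X t j hj.le
    exact IsZero.of_iso (DerivedCategory.isZero_of_isLE X t j hj)
      (@asIso _ _ _ _ ((homologyFunctor (ModuleCat.{u} A) j).map ((TStructure.t.truncGEπ t).app X)) inferInstance).symm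
  obtain ⟨H, ⟨eH⟩⟩ := DerivedCategory.exists_iso_singleFunctor_obj_of_isGE_of_isLE T.obj₃ t
  haveI := DerTrunc.isIso_homology_truncGEπ X t t le_rfl
  let eX : Dual.HD A X t ≃ₗ[A] H :=
    ((@asIso _ _ _ _ ((homologyFunctor (ModuleCat.{u} A) t).map ((TStructure.t.truncGEπ t).app X)) inferInstance) ≪≫
      (homologyFunctor (ModuleCat.{u} A) t).mapIso eH ≪≫
      (DerivedCategory.singleFunctorCompHomologyFunctorIso (ModuleCat.{u} A) t).app H).toLinearEquiv
  exact ⟨((LinearEquiv.ofBijective g hg).symm.trans (Linear.homCongr A eH (Iso.refl K))).trans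
    (((LinearEquiv.ofBijective (Functor.mapLinearMap A F) ⟨F.map_injective, F.map_surjective⟩).symm.trans
      (ModuleCat.homLinearEquiv (S := A))).trans (eX.symm.congrLeft (IsLocalRing.ResidueField A) A))⟩

/-- An object with a single one-dimensional `Hom` into shifts of the residue field is a shift of the ring. -/
theorem exists_iso_single_ring (X : Dual.D A) (hfin : ∀ j, Module.Finite A (Dual.HD A X j)) (b : ℤ) [X.IsLE b]
    (j₀ : ℤ) (hvan : ∀ j, j ≠ j₀ → Subsingleton (X ⟶ (DerivedCategory.singleFunctor (ModuleCat.{u} A) j).obj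
      (ModuleCat.of A (IsLocalRing.ResidueField A))))
    (hj₀ : Nonempty ((X ⟶ (DerivedCategory.singleFunctor (ModuleCat.{u} A) j₀).obj
      (ModuleCat.of A (IsLocalRing.ResidueField A))) ≃ₗ[A] IsLocalRing.ResidueField A)) :
    Nonempty ((DerivedCategory.singleFunctor (ModuleCat.{u} A) j₀).obj (ModuleCat.of A A) ≅ X) := by
  classical
  let κ := fun j => (DerivedCategory.singleFunctor (ModuleCat.{u} A) j).obj (ModuleCat.of A (IsLocalRing.ResidueField A))
  have hκ : ∀ (s : ℤ) (Y : Dual.D A), Subsingleton (Y ⟶ κ s) → Y.IsLE s → Module.Finite A (Dual.HD A Y s) →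
      Y.IsLE (s - 1) := by
    intro s Y hY hle hf
    have h1 : Subsingleton (Dual.HD A Y s) := by
      rw [← not_nontrivial_iff_subsingleton]
      intro hn
      obtain ⟨φ, x, hx⟩ := exists_hom_residue (A := A) (Dual.HD A Y s)
      obtain ⟨e⟩ := nonempty_hom_top Y s
      haveI := e.symm.toEquiv.subsingleton
      exact one_ne_zero (hx.symm.trans (LinearMap.congr_fun (Subsingleton.elim φ 0) x))
    rw [DerivedCategory.isLE_iff]
    intro j hj
    by_cases hjs : j = s
    · subst hjs
      exact (GrothLib.DR.subsingleton_iff_isZero _).1 h1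
    · exact DerivedCategory.isZero_of_isLE Y s j (by omega)
  obtain ⟨e₀⟩ := hj₀
  let t := j₀
  have htop : X.IsLE t := by
    have hm : ∀ m : ℕ, X.IsLE (max t (b - m)) := by
      intro m
      induction m with
      | zero => exact TStructure.t.isLE_of_le X b _ (by omega)
      | succ m ih =>
        rcases le_or_gt (b - m) t with h | h
        · rw [show max t (b - (m + 1 : ℕ)) = max t (b - m) by omega]
          exact ih
        · haveI := hκ (max t (b - m)) X (hvan _ (by omega)) ih (hfin _)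
          exact TStructure.t.isLE_of_le X (max t (b - m) - 1) _ (by omega)
    haveI := hm (b - t).toNat
    exact TStructure.t.isLE_of_le X (max t (b - (b - t).toNat)) t (by omega)
  haveI := htop
  haveI := hfin t
  obtain ⟨eT⟩ := nonempty_hom_top X t
  haveI : Nontrivial (Dual.HD A X t) := not_subsingleton_iff_nontrivial.1 fun hs => by
    haveI : Subsingleton (Dual.HD A X t →ₗ[A] IsLocalRing.ResidueField A) :=
      ⟨fun u v => LinearMap.ext fun x => by rw [Subsingleton.elim x 0, map_zero, map_zero]⟩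
    haveI := (e₀.symm.trans eT).toEquiv.subsingleton
    exact not_subsingleton (IsLocalRing.ResidueField A) inferInstance
  obtain ⟨x, hx⟩ := exists_generator_of_hom_residue (A := A) (Dual.HD A X t) ⟨eT.symm.trans e₀⟩
  let F := DerivedCategory.singleFunctor (ModuleCat.{u} A) t
  let S := F.obj (ModuleCat.of A A)
  have hSZ : ∀ (Z : Dual.D A), Subsingleton (Dual.HD A Z t) → Subsingleton (S ⟶ Z) := fun Z hZ => by
    obtain ⟨e⟩ := GrothLib.DualRing.exists_hom_ring_equiv Z t
    haveI := e.toEquiv.subsingleton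
    exact ((Linear.homCongr A (GrothLib.DR.singleIsoShift t (ModuleCat.of A A)) (Iso.refl Z)).trans
      (homShiftLEquiv₀ (Dual.inD A A) Z (-t) t (by omega))).toEquiv.subsingleton
  let T := (TStructure.t.triangleLTGE t).obj X
  have hT : T ∈ distTriang _ := TStructure.t.triangleLTGE_distinguished t X
  haveI : DerivedCategory.IsGE T.obj₃ t := inferInstanceAs (TStructure.t.IsGE ((TStructure.t.truncGE t).obj X) t)
  have hiso : ∀ j, t ≤ j → IsIso ((homologyFunctor (ModuleCat.{u} A) j).map T.mor₂) := fun j hj =>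
    DerTrunc.isIso_homology_truncGEπ X t j hj
  haveI : DerivedCategory.IsLE T.obj₃ t := by
    rw [DerivedCategory.isLE_iff]
    intro j hj
    haveI := hiso j hj.le
    exact IsZero.of_iso (DerivedCategory.isZero_of_isLE X t j hj)
      (asIso ((homologyFunctor (ModuleCat.{u} A) j).map T.mor₂)).symm
  obtain ⟨H, ⟨eH⟩⟩ := DerivedCategory.exists_iso_singleFunctor_obj_of_isGE_of_isLE T.obj₃ t
  haveI := hiso t le_rfl
  let eX : Dual.HD A X t ≃ₗ[A] H :=
    (asIso ((homologyFunctor (ModuleCat.{u} A) t).map T.mor₂) ≪≫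
      (homologyFunctor (ModuleCat.{u} A) t).mapIso eH ≪≫
      (DerivedCategory.singleFunctorCompHomologyFunctorIso (ModuleCat.{u} A) t).app H).toLinearEquiv
  let r : ModuleCat.of A A ⟶ H := ModuleCat.ofHom (LinearMap.toSpanSingleton A H (eX x))
  haveI : Epi r := (ModuleCat.epi_iff_surjective _).2 fun z => by
    obtain ⟨c, hc⟩ := Submodule.mem_span_singleton.1 (hx ▸ Submodule.mem_top : eX.symm z ∈ Submodule.span A {x})
    exact ⟨c, by
      change c • eX x = z
      rw [← map_smul, hc, LinearEquiv.apply_symm_apply]⟩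
  haveI : Subsingleton (S ⟶ T.obj₁⟦(1 : ℤ)⟧) := hSZ _ (by
    haveI : DerivedCategory.IsLE T.obj₁ (t - 1) :=
      inferInstanceAs (TStructure.t.IsLE ((TStructure.t.truncLT t).obj X) (t - 1))
    haveI : DerivedCategory.IsLE (T.obj₁⟦(1 : ℤ)⟧) (t - 2) := TStructure.t.isLE_shift _ (t - 1) 1 (t - 2) (by omega)
    exact (GrothLib.DR.subsingleton_iff_isZero _).2 (DerivedCategory.isZero_of_isLE _ (t - 2) t (by omega)))
  obtain ⟨g, hg⟩ := T.coyoneda_exact₃ hT (F.map r ≫ eH.inv) (Subsingleton.elim _ _)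
  haveI hgEpi : Epi ((homologyFunctor (ModuleCat.{u} A) t).map g) := by
    haveI : Epi ((homologyFunctor (ModuleCat.{u} A) t).map (F.map r)) := by
      have h := (DerivedCategory.singleFunctorCompHomologyFunctorIso (ModuleCat.{u} A) t).hom.naturality r
      have h' : (homologyFunctor (ModuleCat.{u} A) t).map (F.map r) =
          (DerivedCategory.singleFunctorCompHomologyFunctorIso (ModuleCat.{u} A) t).hom.app _ ≫ r ≫
            (DerivedCategory.singleFunctorCompHomologyFunctorIso (ModuleCat.{u} A) t).inv.app _ := by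
        simp only [Functor.comp_map, Functor.id_map] at h
        rw [← reassoc_of% h, Iso.hom_inv_id_app]
        exact (Category.comp_id _).symm
      rw [h']
      infer_instance
    have e : (homologyFunctor (ModuleCat.{u} A) t).map g =
        (homologyFunctor (ModuleCat.{u} A) t).map (F.map r ≫ eH.inv) ≫
          inv ((homologyFunctor (ModuleCat.{u} A) t).map T.mor₂) := by
      rw [hg, Functor.map_comp, Category.assoc, IsIso.hom_inv_id]
      exact (Category.comp_id _).symm
    rw [e, Functor.map_comp]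
    infer_instance
  obtain ⟨Y, p, q, hY⟩ := distinguished_cocone_triangle g
  let Hf := homologyFunctor (ModuleCat.{u} A) (0 : ℤ)
  have hex₃ := fun (i : ℤ) => DerivedCategory.HomologySequence.exact₃ (Triangle.mk g p q) hY i (i + 1) rfl
  have hSfin : ∀ j, Module.Finite A (Dual.HD A S j) := fun j => by
    by_cases hj : j = t
    · subst hj
      exact @Module.Finite.equiv A A _ _ _ _ _ _ (Module.Finite.self A)
        ((DerivedCategory.singleFunctorCompHomologyFunctorIso (ModuleCat.{u} A) j).app (ModuleCat.of A A)).toLinearEquiv.symm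
    · haveI : Subsingleton (Dual.HD A S j) := (GrothLib.DR.subsingleton_iff_isZero _).2 (by
        rcases lt_or_gt_of_ne hj with h | h
        · exact DerivedCategory.isZero_of_isGE S t j h
        · exact DerivedCategory.isZero_of_isLE S t j h)
      exact Module.Finite.of_finite
  have hYfin : ∀ j, Module.Finite A (Dual.HD A Y j) := fun j => finite_of_sc (hex₃ j) (hfin j) (hSfin (j + 1))
  have hYle : Y.IsLE (t - 1) := by
    rw [DerivedCategory.isLE_iff]
    intro j hj
    by_cases hjt : j = t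
    · subst hjt
      have hz : IsZero ((homologyFunctor (ModuleCat.{u} A) (j + 1)).obj S) :=
        DerivedCategory.isZero_of_isLE S t (j + 1) (by omega)
      refine (hex₃ j).isZero_X₂ ?_ (hz.eq_of_tgt _ _)
      change (homologyFunctor (ModuleCat.{u} A) j).map p = 0
      rw [← cancel_epi ((homologyFunctor (ModuleCat.{u} A) j).map g), comp_zero, ← Functor.map_comp,
        show g ≫ p = 0 from comp_distTriang_mor_zero₁₂ _ hY, Functor.map_zero]
    · exact (hex₃ j).isZero_X₂ ((DerivedCategory.isZero_of_isLE X t j (by omega)).eq_of_src _ _)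
        ((DerivedCategory.isZero_of_isLE S t (j + 1) (by omega)).eq_of_tgt _ _)
  haveI := hYle
  -- maps to the residue field in the top degree
  let G : (X ⟶ κ t) →ₗ[A] (S ⟶ κ t) := Linear.leftComp A (κ t) g
  have hG : Function.Surjective G := by
    have hGinj : Function.Injective G := (injective_iff_map_eq_zero G).2 fun φ hφ => by
      obtain ⟨ψ, hψ⟩ := (Triangle.mk g p q).yoneda_exact₂ hY φ hφ
      rw [hψ, TStructure.t.zero_of_isLE_of_isGE ψ (t - 1) t (by omega) hYle inferInstance]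
      exact comp_zero
    let e₂ : (S ⟶ κ t) ≃ₗ[A] IsLocalRing.ResidueField A :=
      ((LinearEquiv.ofBijective (Functor.mapLinearMap A F) ⟨F.map_injective, F.map_surjective⟩).symm.trans
        (ModuleCat.homLinearEquiv (S := A))).trans (LinearMap.ringLmapEquivSelf A A (IsLocalRing.ResidueField A))
    haveI : IsSimpleModule A (IsLocalRing.ResidueField A) :=
      (isSimpleModule_iff_isCoatom (R := A) (M := A)).2 (Ideal.isMaximal_def.1 (IsLocalRing.maximalIdeal.isMaximal A))
    rcases LinearMap.bijective_or_eq_zero (e₂.toLinearMap ∘ₗ G ∘ₗ e₀.symm.toLinearMap) with h | h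
    · intro y
      obtain ⟨z, hz⟩ := h.2 (e₂ y)
      exact ⟨e₀.symm z, e₂.injective hz⟩
    · exfalso
      have h1 := LinearMap.congr_fun h 1
      have h2 : G (e₀.symm 1) = G 0 := by rw [map_zero]; exact e₂.map_eq_zero_iff.1 h1
      exact one_ne_zero ((LinearEquiv.map_eq_zero_iff _).1 (hGinj h2))
  have hYκ : ∀ j, j ≤ t - 1 → Subsingleton (Y ⟶ κ j) := fun j hj => subsingleton_of_forall_eq 0 fun φ => by
    haveI := hvan j (by omega)
    obtain ⟨ψ, hψ⟩ := (Triangle.mk g p q).yoneda_exact₃ hY φ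
      (Subsingleton.elim (α := X ⟶ κ j) _ _)
    change φ = q ≫ ψ at hψ
    by_cases hjt : j = t - 1
    · subst hjt
      let e := ((DerivedCategory.singleFunctors (ModuleCat.{u} A)).shiftIso 1 (t - 1) t (by omega)).app
        (ModuleCat.of A (IsLocalRing.ResidueField A))
      obtain ⟨ψ', hψ'⟩ := (CategoryTheory.shiftFunctor (Dual.D A) (1 : ℤ)).map_surjective (ψ ≫ e.inv)
      obtain ⟨χ, hχ⟩ := hG ψ'
      have h3 : g⟦(1 : ℤ)⟧' ≫ χ⟦(1 : ℤ)⟧' = ψ ≫ e.inv :=
        (((CategoryTheory.shiftFunctor (Dual.D A) (1 : ℤ)).map_comp g χ).symm.trans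
          (congrArg (fun u => u⟦(1 : ℤ)⟧') hχ)).trans hψ'
      have hψ2 : ψ = g⟦(1 : ℤ)⟧' ≫ χ⟦(1 : ℤ)⟧' ≫ e.hom := by
        rw [reassoc_of% h3]
        exact ((Category.assoc _ _ _).trans ((congrArg (ψ ≫ ·) e.inv_hom_id).trans (Category.comp_id ψ))).symm
      rw [hψ, hψ2]
      exact (comp_distTriang_mor_zero₃₁_assoc _ hY _).trans zero_comp
    · have h0 : ψ = 0 := by
        haveI : Subsingleton (S⟦(1 : ℤ)⟧ ⟶ κ j) := by
          haveI : Subsingleton (S ⟶ (κ j)⟦(-1 : ℤ)⟧) := hSZ _ (by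
            haveI : DerivedCategory.IsLE ((κ j)⟦(-1 : ℤ)⟧) (j + 1) :=
              TStructure.t.isLE_shift _ j (-1) (j + 1) (by omega)
            exact (GrothLib.DR.subsingleton_iff_isZero _).2 (DerivedCategory.isZero_of_isLE _ (j + 1) t (by omega)))
          exact (homShiftLEquiv₀ S (κ j) 1 (-1) (by omega)).toEquiv.subsingleton
        exact Subsingleton.elim (α := S⟦(1 : ℤ)⟧ ⟶ κ j) _ _
      rw [hψ, h0]
      exact comp_zero
  have hYzero : ∀ m : ℕ, Y.IsLE (t - 1 - m) := by
    intro m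
    induction m with
    | zero => simpa using hYle
    | succ m ih =>
      haveI := hκ (t - 1 - m) Y (hYκ _ (by omega)) ih (hYfin _)
      exact TStructure.t.isLE_of_le Y (t - 1 - m - 1) _ (by push_cast; omega)
  have hYz : IsZero Y := by
    have hzero : IsIso (0 : Y ⟶ Y) := by
      rw [DerivedCategory.isIso_iff]
      intro j
      haveI := hYzero (t - j).toNat
      have hz := DerivedCategory.isZero_of_isLE Y (t - 1 - (t - j).toNat) j (by omega)
      exact hz.isIso hz _
    rw [IsZero.iff_id_eq_zero, ← IsIso.hom_inv_id (0 : Y ⟶ Y), zero_comp]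
  have hg' : IsIso g := (Triangle.isZero₃_iff_isIso₁ _ hY).1 hYz
  exact ⟨@asIso _ _ _ _ g hg'⟩

/-- Swapping the two sources. -/
noncomputable def homCxSwapIso {R : Type u} [CommRing R] (K L I : DRing.Cx R) :
    DRing.homCx K (DRing.homCx L I) ≅ DRing.homCx L (DRing.homCx K I) :=
  GrothLib.RH.assocIso K L I ≪≫ GrothLib.RH.homCxPreIso (GrothLib.KF.tensorCxSymm L K).symm I ≪≫
    (GrothLib.RH.assocIso L K I).symm

/-- **Uniqueness over a local ring.** -/
theorem exists_shift_iso_local {ω ω' : Dual.D A} (hω : Dual.IsDualizing A ω) (hω' : Dual.IsDualizing A ω') :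
    ∃ n : ℤ, Nonempty (ω' ≅ ω⟦n⟧) := by
  obtain ⟨r⟩ := nonempty_injRep hω
  obtain ⟨r'⟩ := nonempty_injRep hω'
  haveI := r.kInj
  let W := r'.I
  let D₀ := r.dual W
  let S₀ : DRing.Cx A :=
    (HomologicalComplex.single (ModuleCat.{u} A) (ComplexShape.up ℤ) 0).obj (ModuleCat.of A (IsLocalRing.ResidueField A))
  have hW : ∀ i, Module.Finite A (Dual.HD A (DRing.toD W) i) := fun i =>
    haveI := hω'.finite_cohomology i
    Module.Finite.equiv (GrothLib.RGamma.hdIso r'.iso i).symm
  -- the complex `L = RHom(ω', ω)`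
  obtain ⟨L, q, hL, -, hq, -⟩ := GrothLib.KF.exists_kflat_resolution D₀
  haveI := hq
  haveI := GrothLib.RH.quasiIso_Q q
  haveI := GrothLib.RH.quasiIso_homCxPre q r.I
  haveI := GrothLib.RH.quasiIso_Q (GrothLib.RH.homCxPre q r.I)
  haveI := GrothLib.RH.isKInjective_homCx L r.I hL
  obtain ⟨eB⟩ := r.nonempty_bidual W hW
  let eW : DRing.toD W ≅ DRing.toD (DRing.homCx L r.I) :=
    eB ≪≫ asIso (DerivedCategory.Q.map (GrothLib.RH.homCxPre q r.I))
  let eL : DRing.toD L ≅ DRing.toD D₀ := asIso (DerivedCategory.Q.map q)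
  have hXfin : ∀ j, Module.Finite A (Dual.HD A (DRing.toD L) j) := fun j => by
    obtain ⟨e⟩ := r.nonempty_HD_dual W j
    haveI := finite_hom (DRing.toD W) ω hW hω.finite_cohomology
      (show DRing.HasFiniteInjDim A ω from ⟨r.a, r.b, r.I, r.vanish, fun t =>
        (Module.injective_iff_injective_object A (r.I.X t)).2 (r.inj t), ⟨r.iso⟩⟩) j
    exact Module.Finite.equiv ((GrothLib.RGamma.hdIso eL j).trans e).symm
  obtain ⟨a₀, b₀, hab⟩ : ∃ a b : ℤ, ∀ i, (i < a ∨ b < i) → Subsingleton (DRing.toD W ⟶ ω⟦i⟧) := by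
    obtain ⟨c, d, hcd⟩ := hω.finite_injective_dimension
    refine GrothLib.DualRing.EH_eq_zero_of_bounded (ω := ω) ⟨r'.a, r'.b, fun j hj => ?_⟩ hcd
    exact (GrothLib.DR.subsingleton_iff_isZero _).2 ((isZero_homology_of_X (r'.vanish j hj)).of_iso
      ((DerivedCategory.homologyFunctorFactors (ModuleCat.{u} A) j).app r'.I))
  haveI : DerivedCategory.IsLE (DRing.toD L) b₀ := by
    rw [DerivedCategory.isLE_iff]
    intro j hj
    refine (GrothLib.DR.subsingleton_iff_isZero _).1 ?_
    haveI := hab j (Or.inr hj)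
    obtain ⟨e⟩ := r.nonempty_HD_dual W j
    exact ((GrothLib.RGamma.hdIso eL j).trans e).toEquiv.subsingleton
  -- the dual of the residue field
  let m := IsLocalRing.maximalIdeal A
  have hk : ∀ {v : Dual.D A} (hv : Dual.IsDualizing A v),
      (∀ i, i ≠ GrothLib.DualRing.deg hv m → Subsingleton (Dual.inD A (IsLocalRing.ResidueField A) ⟶ v⟦i⟧)) ∧
      Nonempty ((Dual.inD A (IsLocalRing.ResidueField A) ⟶ v⟦GrothLib.DualRing.deg hv m⟧) ≃ₗ[A]
        IsLocalRing.ResidueField A) := fun {v} hv =>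
    ⟨fun i hi => GrothLib.DualRing.subsingleton_of_len_maximal (A := A)
        (M := GrothLib.DualRing.EH v (Dual.inD A (A ⧸ m)) i) (GrothLib.DualRing.mu_ne_deg hv m hi),
      GrothLib.DualRing.nonempty_equiv_of_len_eq_one m (GrothLib.DualRing.smul_EH_quotient m _)
        (GrothLib.DualRing.mu_deg hv m)⟩
  let c := GrothLib.DualRing.deg hω m
  let c' := GrothLib.DualRing.deg hω' m
  obtain ⟨Pk, qk, hPk, -, hqk, -⟩ := GrothLib.KF.exists_kflat_resolution S₀
  haveI := hqk
  haveI := GrothLib.RH.quasiIso_Q qk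
  haveI := GrothLib.RH.isKInjective_homCx Pk r.I hPk
  let ek : DRing.toD Pk ≅ Dual.inD A (IsLocalRing.ResidueField A) :=
    asIso (DerivedCategory.Q.map qk) ≪≫ (GrothLib.DCpl.eSingle (ModuleCat.of A (IsLocalRing.ResidueField A))).symm
  let Dk := DRing.homCx Pk r.I
  have hDk : ∀ p, Nonempty (Dual.HD A (DRing.toD Dk) p ≃ₗ[A]
      (Dual.inD A (IsLocalRing.ResidueField A) ⟶ ω⟦p⟧)) := fun p => by
    obtain ⟨e⟩ := r.nonempty_HD_dual Pk p
    exact ⟨e.trans (Linear.homCongr A ek (Iso.refl (ω⟦p⟧)))⟩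
  have hDkz : ∀ p, p ≠ c → IsZero ((homologyFunctor (ModuleCat.{u} A) p).obj (DRing.toD Dk)) := fun p hp => by
    obtain ⟨e⟩ := hDk p
    haveI := (hk hω).1 p hp
    exact (GrothLib.DR.subsingleton_iff_isZero _).1 e.toEquiv.subsingleton
  haveI : DerivedCategory.IsGE (DRing.toD Dk) c := by
    rw [DerivedCategory.isGE_iff]
    exact fun p hp => hDkz p hp.ne
  haveI : DerivedCategory.IsLE (DRing.toD Dk) c := by
    rw [DerivedCategory.isLE_iff]
    exact fun p hp => hDkz p hp.ne'
  obtain ⟨H, ⟨eH⟩⟩ := DerivedCategory.exists_iso_singleFunctor_obj_of_isGE_of_isLE (DRing.toD Dk) c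
  obtain ⟨eHk⟩ : Nonempty (H ≅ ModuleCat.of A (IsLocalRing.ResidueField A)) := by
    obtain ⟨e⟩ := hDk c
    obtain ⟨e'⟩ := (hk hω).2
    exact ⟨((DerivedCategory.singleFunctorCompHomologyFunctorIso (ModuleCat.{u} A) c).app H).symm ≪≫
      (homologyFunctor (ModuleCat.{u} A) c).mapIso eH.symm ≪≫ (e.trans e').toModuleIso⟩
  let eDk : DRing.toD Dk ≅ (DerivedCategory.singleFunctor (ModuleCat.{u} A) c).obj
      (ModuleCat.of A (IsLocalRing.ResidueField A)) :=
    eH ≪≫ (DerivedCategory.singleFunctor (ModuleCat.{u} A) c).mapIso eHk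
  have hcomp : ∀ i : ℤ, Nonempty ((DRing.toD L ⟶ (DerivedCategory.singleFunctor (ModuleCat.{u} A) (c - i)).obj
      (ModuleCat.of A (IsLocalRing.ResidueField A))) ≃ₗ[A]
      (Dual.inD A (IsLocalRing.ResidueField A) ⟶ ω'⟦i⟧)) := fun i => by
    obtain ⟨e₁⟩ := GrothLib.DualRing.exists_HD_homCx_equiv L Dk i
    obtain ⟨e₂⟩ := GrothLib.DualRing.exists_HD_homCx_equiv Pk (DRing.homCx L r.I) i
    let es := ((DerivedCategory.singleFunctors (ModuleCat.{u} A)).shiftIso i (c - i) c (by omega)).app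
      (ModuleCat.of A (IsLocalRing.ResidueField A))
    let et : (DRing.toD Dk)⟦i⟧ ≅ (DerivedCategory.singleFunctor (ModuleCat.{u} A) (c - i)).obj
        (ModuleCat.of A (IsLocalRing.ResidueField A)) :=
      (CategoryTheory.shiftFunctor (Dual.D A) i).mapIso eDk ≪≫ es
    exact ⟨((Linear.homCongr A (Iso.refl (DRing.toD L)) et).symm.trans e₁.symm).trans
      ((GrothLib.RGamma.hdIso (DerivedCategory.Q.mapIso (homCxSwapIso L Pk r.I)) i).trans
        (e₂.trans (Linear.homCongr A ek ((CategoryTheory.shiftFunctor (Dual.D A) i).mapIso (eW.symm ≪≫ r'.iso)))))⟩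
  let j₀ := c - c'
  have hvan : ∀ j, j ≠ j₀ → Subsingleton (DRing.toD L ⟶ (DerivedCategory.singleFunctor (ModuleCat.{u} A) j).obj
      (ModuleCat.of A (IsLocalRing.ResidueField A))) := fun j hj => by
    obtain ⟨i, rfl⟩ : ∃ i, j = c - i := ⟨c - j, by omega⟩
    obtain ⟨e⟩ := hcomp i
    haveI := (hk hω').1 i (fun h => hj (by rw [h]))
    exact e.toEquiv.subsingleton
  obtain ⟨g⟩ := exists_iso_single_ring (DRing.toD L) hXfin b₀ j₀ hvan (by
    obtain ⟨e⟩ := hcomp c'
    obtain ⟨e'⟩ := (hk hω').2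
    exact ⟨e.trans e'⟩)
  let P := (CochainComplex.singleFunctor (ModuleCat.{u} A) j₀).obj (ModuleCat.of A A)
  let eP : DRing.toD P ≅ (DerivedCategory.singleFunctor (ModuleCat.{u} A) j₀).obj (ModuleCat.of A A) :=
    GrothLib.DR.toDSingleIso j₀ (ModuleCat.of A A) ≪≫ (GrothLib.DR.singleIsoShift j₀ (ModuleCat.of A A)).symm
  obtain ⟨ed⟩ := r.nonempty_dual_congr (eP ≪≫ g)
  exact ⟨j₀, ⟨r'.iso.symm ≪≫ eW ≪≫ ed ≪≫ DerivedCategory.Q.mapIso (homCxSingleRingIso j₀ r.I) ≪≫
    (DerivedCategory.Q.commShiftIso j₀).app r.I ≪≫ (CategoryTheory.shiftFunctor (Dual.D A) j₀).mapIso r.iso⟩⟩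

end GrothLib.DualCx22
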