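import Groth.Agent.Lib.DualCx22.HomFinite
import Mathlib.RingTheory.Nakayama

/-!
# Finite injective dimension from the residue fields at maximal ideals

Over a Noetherian ring, if `L` is bounded below with finite cohomology and `Hom(A/m, L⟦i⟧) = 0` for every maximal
ideal `m` and every `i > b`, then `L` has finite injective dimension with the same upper bound.
-/

set_option autoImplicit false
set_option linter.style.haveILetI false
universe u

open CategoryTheory CategoryTheory.Limits CategoryTheory.Pretriangulated DerivedCategory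

attribute [local instance] HasDerivedCategory.standard

namespace GrothLib.DualCx22

variable {A : Type u} [CommRing A] [IsNoetherianRing A]

theorem smul_inD_hom (J : Ideal A) (Y : Dual.D A) (r : A) (hr : r ∈ J) (f : Dual.inD A (A ⧸ J) ⟶ Y) :
    r • f = 0 := by
  have h : r • 𝟙 (ModuleCat.of A (A ⧸ J)) = 0 := by
    refine ModuleCat.hom_ext (LinearMap.ext fun z => ?_)
    obtain ⟨z, rfl⟩ := Submodule.Quotient.mk_surjective _ z
    change r • (Submodule.Quotient.mk z : A ⧸ J) = 0
    rw [← Submodule.Quotient.mk_smul, Submodule.Quotient.mk_eq_zero, smul_eq_mul]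
    exact Ideal.mul_mem_right _ _ hr
  have e : r • f = (DerivedCategory.singleFunctor (ModuleCat.{u} A) 0).map (r • 𝟙 (ModuleCat.of A (A ⧸ J))) ≫ f := by
    rw [Functor.map_smul, CategoryTheory.Functor.map_id, Linear.smul_comp, Category.id_comp]
  rw [e, h, Functor.map_zero, zero_comp]

/-- Vanishing on all cyclic modules. -/
theorem subsingleton_hom_cyclic (L : Dual.D A) (a b : ℤ) [L.IsGE a]
    (hL : ∀ i, Module.Finite A (Dual.HD A L i))
    (hm : ∀ (m : Ideal A) [m.IsMaximal] (i : ℤ), b < i → Subsingleton (Dual.inD A (A ⧸ m) ⟶ L⟦i⟧)) :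
    ∀ (J : Ideal A) (i : ℤ), b < i → Subsingleton (Dual.inD A (A ⧸ J) ⟶ L⟦i⟧) := by
  refine IsNoetherian.induction
    (P := fun J : Ideal A => ∀ i : ℤ, b < i → Subsingleton (Dual.inD A (A ⧸ J) ⟶ L⟦i⟧)) fun (J : Ideal A) ih => ?_
  · intro i hi
    by_cases htop : J = ⊤
    · subst htop
      haveI : Subsingleton (A ⧸ (⊤ : Ideal A)) := Submodule.Quotient.subsingleton_iff.2 rfl
      exact ⟨((DerivedCategory.singleFunctor (ModuleCat.{u} A) 0).map_isZero
        ((DR.subsingleton_iff_isZero (ModuleCat.of A (A ⧸ (⊤ : Ideal A)))).1 inferInstance)).eq_of_src⟩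
    by_cases hp : J.IsPrime
    · by_cases hmax : J.IsMaximal
      · exact hm J i hi
      let H := (Dual.inD A (A ⧸ J) ⟶ L⟦i⟧)
      haveI : Module.Finite A H := by
        refine finite_hom_inD L hL a (fun M _ _ q hq => ?_) (i - a + 1).toNat (A ⧸ J) i (by omega)
        haveI : (Dual.inD A M).IsLE 0 := inferInstance
        exact subsingleton_hom_of_isLE L a _ 0 q (by omega)
      have key : ∀ x : A, x ∉ J → (⊤ : Submodule A H) ≤ Ideal.span {x} • (⊤ : Submodule A H) := by
        intro x hx f _
        have hgt : J < J ⊔ Ideal.span {x} :=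
          lt_of_le_of_ne le_sup_left fun h => hx (h ▸ Ideal.mem_sup_right (Ideal.mem_span_singleton_self x))
        let S : ShortComplex (ModuleCat.{u} A) :=
          ShortComplex.mk (x • 𝟙 (ModuleCat.of A (A ⧸ J)))
            (ModuleCat.ofHom (Submodule.factor (le_sup_left : J ≤ J ⊔ Ideal.span {x}))) (by
              refine ModuleCat.hom_ext (LinearMap.ext fun z => ?_)
              obtain ⟨z, rfl⟩ := Submodule.Quotient.mk_surjective _ z
              exact (Submodule.Quotient.mk_eq_zero _).2
                (Ideal.mem_sup_right (Ideal.mul_mem_right _ _ (Ideal.mem_span_singleton_self x))))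
        have hS : S.ShortExact :=
          { exact := (ShortComplex.moduleCat_exact_iff _).2 fun z hz => by
              obtain ⟨z, rfl⟩ := Submodule.Quotient.mk_surjective _ z
              obtain ⟨c, hc, d, hd, rfl⟩ := Submodule.mem_sup.1 ((Submodule.Quotient.mk_eq_zero _).1 hz)
              obtain ⟨e, rfl⟩ := Ideal.mem_span_singleton'.1 hd
              refine ⟨Submodule.Quotient.mk e, ?_⟩
              change x • (Submodule.Quotient.mk e : A ⧸ J) = _
              rw [← Submodule.Quotient.mk_smul, Submodule.Quotient.eq, smul_eq_mul,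
                show x * e - (c + e * x) = -c by ring]
              exact J.neg_mem hc
            mono_f := (ModuleCat.mono_iff_injective _).2 ((injective_iff_map_eq_zero _).2 fun z hz => by
              obtain ⟨z, rfl⟩ := Submodule.Quotient.mk_surjective _ z
              refine (Submodule.Quotient.mk_eq_zero _).2 ?_
              exact (hp.mem_or_mem ((Submodule.Quotient.mk_eq_zero _).1 hz)).resolve_left hx)
            epi_g := (ModuleCat.epi_iff_surjective _).2 (Submodule.factor_surjective (le_sup_left : J ≤ J ⊔ Ideal.span {x})) }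
        let T := hS.singleTriangle
        have hT := hS.singleTriangle_distinguished
        haveI := ih _ hgt (i + 1) (by omega)
        have h0 : T.invRotate.mor₁ ≫ f = 0 := by
          haveI : Subsingleton ((Dual.inD A (A ⧸ (J ⊔ Ideal.span {x})))⟦(-1 : ℤ)⟧ ⟶ L⟦i⟧) :=
            (homShiftLEquiv (Dual.inD A (A ⧸ (J ⊔ Ideal.span {x}))) L (-1) i (i + 1) (by omega)).toEquiv.subsingleton
          exact Subsingleton.elim (α := (Dual.inD A (A ⧸ (J ⊔ Ideal.span {x})))⟦(-1 : ℤ)⟧ ⟶ L⟦i⟧) _ _
        obtain ⟨g, hg⟩ := T.invRotate.yoneda_exact₂ (inv_rot_of_distTriang _ hT) f h0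
        have hg' : f = (DerivedCategory.singleFunctor (ModuleCat.{u} A) 0).map S.f ≫ (g : Dual.inD A (A ⧸ J) ⟶ L⟦i⟧) :=
          hg
        rw [hg', show S.f = x • 𝟙 _ from rfl, Functor.map_smul, CategoryTheory.Functor.map_id, Linear.smul_comp,
          Category.id_comp]
        exact Submodule.smul_mem_smul (Ideal.mem_span_singleton_self x) trivial
      suffices h1 : (1 : A) ∈ Module.annihilator A H by
        exact subsingleton_of_forall_eq 0 fun f => by
          rw [← one_smul A f]; exact Module.mem_annihilator.1 h1 f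
      by_contra hne
      obtain ⟨m, hmmax, hle⟩ := Ideal.exists_le_maximal (Module.annihilator A H)
        ((Ideal.ne_top_iff_one _).2 hne)
      have hJm : J ≤ m := le_trans (fun r hr => Module.mem_annihilator.2 fun f => smul_inD_hom J _ r hr f) hle
      obtain ⟨x, hxm, hxJ⟩ : ∃ x ∈ m, x ∉ J := by
        by_contra hno
        push Not at hno
        exact hmax (le_antisymm hJm hno ▸ hmmax)
      obtain ⟨r, hr1, hr0⟩ := Submodule.exists_sub_one_mem_and_smul_eq_zero_of_fg_of_le_smul (Ideal.span {x})
        (⊤ : Submodule A H) Module.Finite.fg_top (key x hxJ)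
      have hrm : r ∈ m := hle (Module.mem_annihilator.2 fun f => hr0 f trivial)
      exact hmmax.ne_top ((Ideal.eq_top_iff_one m).2 (by
        have := m.sub_mem hrm ((Ideal.span_singleton_le_iff_mem m).2 hxm hr1)
        simpa using this))
    · obtain ⟨x, hxJ, y, hyJ, hxy⟩ : ∃ x, x ∉ J ∧ ∃ y, y ∉ J ∧ x * y ∈ J := by
        rw [Ideal.isPrime_iff] at hp
        push Not at hp
        obtain ⟨x, y, hxy, hx, hy⟩ := hp htop
        exact ⟨x, hx, y, hy, hxy⟩
      let K : Ideal A := Submodule.comap (LinearMap.mulLeft A x) J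
      have hK : J < K := lt_of_le_of_ne (fun r hr => J.mul_mem_left x hr) fun h => hyJ (h ▸ (show y ∈ K from hxy))
      have hgt : J < J ⊔ Ideal.span {x} :=
        lt_of_le_of_ne le_sup_left fun h => hxJ (h ▸ Ideal.mem_sup_right (Ideal.mem_span_singleton_self x))
      let ι : (A ⧸ K) →ₗ[A] (A ⧸ J) := Submodule.mapQ K J (LinearMap.mulLeft A x) le_rfl
      let S : ShortComplex (ModuleCat.{u} A) :=
        ShortComplex.mk (ModuleCat.ofHom ι)
          (ModuleCat.ofHom (Submodule.factor (le_sup_left : J ≤ J ⊔ Ideal.span {x}))) (by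
            refine ModuleCat.hom_ext (LinearMap.ext fun z => ?_)
            obtain ⟨z, rfl⟩ := Submodule.Quotient.mk_surjective _ z
            exact (Submodule.Quotient.mk_eq_zero _).2
              (Ideal.mem_sup_right (Ideal.mul_mem_right _ _ (Ideal.mem_span_singleton_self x))))
      have hS : S.ShortExact :=
        { exact := (ShortComplex.moduleCat_exact_iff _).2 fun z hz => by
            obtain ⟨z, rfl⟩ := Submodule.Quotient.mk_surjective _ z
            obtain ⟨c, hc, d, hd, rfl⟩ := Submodule.mem_sup.1 ((Submodule.Quotient.mk_eq_zero _).1 hz)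
            obtain ⟨e, rfl⟩ := Ideal.mem_span_singleton'.1 hd
            refine ⟨Submodule.Quotient.mk e, ?_⟩
            change (Submodule.Quotient.mk (x * e) : A ⧸ J) = _
            rw [Submodule.Quotient.eq, show x * e - (c + e * x) = -c by ring]
            exact J.neg_mem hc
          mono_f := (ModuleCat.mono_iff_injective _).2 ((injective_iff_map_eq_zero _).2 fun z hz => by
            obtain ⟨z, rfl⟩ := Submodule.Quotient.mk_surjective _ z
            refine (Submodule.Quotient.mk_eq_zero K).2 ?_
            exact (Submodule.Quotient.mk_eq_zero J).1 (show (Submodule.Quotient.mk (x * z) : A ⧸ J) = 0 from hz))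
          epi_g := (ModuleCat.epi_iff_surjective _).2 (Submodule.factor_surjective (le_sup_left : J ≤ J ⊔ Ideal.span {x})) }
      haveI h₁ := ih K hK i hi
      haveI h₃ := ih _ hgt i hi
      refine subsingleton_of_forall_eq 0 fun f => ?_
      obtain ⟨g, hg⟩ := hS.singleTriangle.yoneda_exact₂ hS.singleTriangle_distinguished f
        (Subsingleton.elim (α := Dual.inD A (A ⧸ K) ⟶ L⟦i⟧) _ _)
      exact hg.trans (by
        rw [Subsingleton.elim (α := Dual.inD A (A ⧸ (J ⊔ Ideal.span {x})) ⟶ L⟦i⟧) g 0]
        exact comp_zero)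

/-- **Finite injective dimension from residue fields.** -/
theorem hasInjAmplitudeIn_of_residue (L : Dual.D A) (a b : ℤ) [L.IsGE a]
    (hL : ∀ i, Module.Finite A (Dual.HD A L i))
    (hm : ∀ (m : Ideal A) [m.IsMaximal] (i : ℤ), b < i → Subsingleton (Dual.inD A (A ⧸ m) ⟶ L⟦i⟧)) :
    DRing.HasInjAmplitudeIn A a b L := by
  refine DR.hasInjAmplitudeIn_of_cyclic L a b fun J i hi => hi.elim (fun h => ?_) fun h =>
    subsingleton_hom_cyclic L a b hL hm J i h
  haveI : (Dual.inD A (A ⧸ J)).IsLE 0 := inferInstance
  exact subsingleton_hom_of_isLE L a _ 0 i (by omega)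

end GrothLib.DualCx22
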