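import Groth.Agent.Lib.DualCx22.FlatHom
import Groth.Agent.Lib.DualCx22.Residue
import Mathlib.RingTheory.Finiteness.Descent

/-!
# Dualizing complexes under flat base change: ascent and descent
-/

set_option autoImplicit false
set_option linter.style.haveILetI false
universe u

open CategoryTheory CategoryTheory.Limits CategoryTheory.Pretriangulated DerivedCategory TensorProduct

attribute [local instance] HasDerivedCategory.standard

namespace GrothLib.DualCx22

variable {A : Type u} [CommRing A]

/-- Being dualizing is invariant under isomorphism. -/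
theorem isDualizing_of_iso {X Y : Dual.D A} (e : X ≅ Y) (h : Dual.IsDualizing A X) : Dual.IsDualizing A Y where
  isNoetherianRing := h.isNoetherianRing
  finite_injective_dimension := by
    obtain ⟨a, b, hab⟩ := h.finite_injective_dimension
    refine ⟨a, b, fun M _ _ i hi => ?_⟩
    haveI := hab M i hi
    exact (((shiftFunctor (Dual.D A) i).mapIso e).homToEquiv (Z := Dual.inD A M)).symm.subsingleton
  finite_cohomology i := by
    haveI := h.finite_cohomology i
    exact Module.Finite.equiv ((homologyFunctor (ModuleCat.{u} A) i).mapIso e).toLinearEquiv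
  toEnd_bijective := by
    have : (fun a : A => a • 𝟙 Y) = (Linear.homCongr A e e) ∘ (fun a : A => a • 𝟙 X) := by
      funext a
      simp [Linear.homCongr]
    rw [this]
    exact (Linear.homCongr A e e).bijective.comp h.toEnd_bijective
  ext_self_subsingleton i hi := by
    haveI := h.ext_self_subsingleton i hi
    exact (Linear.homCongr A e ((shiftFunctor (Dual.D A) i).mapIso e)).toEquiv.symm.subsingleton

theorem isGE_of_hom_ring (K : Dual.D A) (a : ℤ) (h : ∀ i, i < a → Subsingleton (Dual.inD A A ⟶ K⟦i⟧)) :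
    K.IsGE a := by
  rw [DerivedCategory.isGE_iff]
  exact fun i hi => (DR.subsingleton_iff_isZero _).1 (DR.subsingleton_HD_of_hom_ring K i (h i hi))

theorem isLE_of_hom_ring (K : Dual.D A) (b : ℤ) (h : ∀ i, b < i → Subsingleton (Dual.inD A A ⟶ K⟦i⟧)) :
    K.IsLE b := by
  rw [DerivedCategory.isLE_iff]
  exact fun i hi => (DR.subsingleton_iff_isZero _).1 (DR.subsingleton_HD_of_hom_ring K i (h i hi))

variable (B : Type u) [CommRing B] [Algebra A B] [PreservesFiniteLimits (bcMod (A := A) B)]

omit [PreservesFiniteLimits (bcMod (A := A) B)] in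
/-- Extension of scalars of a module is the tensor product. -/
theorem nonempty_bcMod_iso (M : Type u) [AddCommGroup M] [Module A M] :
    Nonempty ((bcMod (A := A) B).obj (ModuleCat.of A M) ≅ ModuleCat.of B (B ⊗[A] M)) := by
  obtain ⟨e⟩ := DR.nonempty_extendScalars_iso (A := A) (B := B) M
  exact ⟨e.symm⟩

theorem nonempty_bcD_inD (M : Type u) [AddCommGroup M] [Module A M] :
    Nonempty ((bcD (A := A) B).obj (Dual.inD A M) ≅ Dual.inD B (B ⊗[A] M)) := by
  obtain ⟨e⟩ := nonempty_bcMod_iso (A := A) B M
  obtain ⟨e'⟩ := DR.nonempty_map_inD (bcMod (A := A) B) M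
  exact ⟨(bcD B).mapIso (DCpl.eSingle (ModuleCat.of A M)) ≪≫ (bcMod B).mapDerivedCategoryFactors.app _ ≪≫ e' ≪≫
    (DerivedCategory.singleFunctor (ModuleCat.{u} B) 0).mapIso e⟩

variable [Module.Flat A B]

/-- Flat base change of a vanishing for a module of finite type. -/
theorem subsingleton_hom_tensor [IsNoetherianRing A] (L : Dual.D A) (a : ℤ) [L.IsGE a] (M : Type u)
    [AddCommGroup M] [Module A M] [Module.Finite A M] (i : ℤ) (h : Subsingleton (Dual.inD A M ⟶ L⟦i⟧)) :
    Subsingleton (Dual.inD B (B ⊗[A] M) ⟶ ((bcD B).obj L)⟦i⟧) := by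
  haveI := subsingleton_bcD_hom B (isBC_inD B L a (i - a + 1).toNat M i (by omega)) h
  obtain ⟨e⟩ := nonempty_bcD_inD (A := A) B M
  exact (e.homFromEquiv (Z := ((bcD B).obj L)⟦i⟧)).symm.subsingleton

/-- Faithfully flat descent of a vanishing. -/
theorem subsingleton_hom_of_tensor [IsNoetherianRing A] [Module.FaithfullyFlat A B] (L : Dual.D A) (a : ℤ)
    [L.IsGE a] (M : Type u) [AddCommGroup M] [Module A M] [Module.Finite A M] (i : ℤ)
    (h : Subsingleton (Dual.inD B (B ⊗[A] M) ⟶ ((bcD B).obj L)⟦i⟧)) : Subsingleton (Dual.inD A M ⟶ L⟦i⟧) := by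
  obtain ⟨e⟩ := nonempty_bcD_inD (A := A) B M
  haveI := (e.homFromEquiv (Z := ((bcD B).obj L)⟦i⟧)).subsingleton
  exact subsingleton_of_bcD_hom B (isBC_inD B L a (i - a + 1).toNat M i (by omega)) inferInstance

/-- **Ascent.** The flat base change of a dualizing complex is dualizing once its maps out of the residue fields at
maximal ideals are bounded above. -/
theorem isDualizing_bcD [IsNoetherianRing B] {ω : Dual.D A} (hω : Dual.IsDualizing A ω) (b : ℤ)
    (hm : ∀ (m : Ideal B) [m.IsMaximal] (i : ℤ), b < i → Subsingleton (Dual.inD B (B ⧸ m) ⟶ ((bcD B).obj ω)⟦i⟧)) :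
    Dual.IsDualizing B ((bcD B).obj ω) := by
  haveI := hω.isNoetherianRing
  obtain ⟨a, c, hac⟩ := hω.finite_injective_dimension
  haveI : ω.IsGE a := isGE_of_hom_ring ω a fun i hi => hac A i (Or.inl hi)
  haveI : ω.IsLE c := isLE_of_hom_ring ω c fun i hi => hac A i (Or.inr hi)
  haveI := isGE_bcD B ω a
  have hfin : ∀ q, Module.Finite B (Dual.HD B ((bcD B).obj ω) q) := fun q =>
    finite_HD_bcD B ω q (hω.finite_cohomology q)
  have hamp := hasInjAmplitudeIn_of_residue ((bcD B).obj ω) a b hfin hm
  exact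
    { isNoetherianRing := inferInstance
      finite_injective_dimension := ⟨a, b, fun M _ _ i hi => DR.subsingleton_ext_of_injAmp hamp M i hi⟩
      finite_cohomology := hfin
      toEnd_bijective := bijective_toEnd_bcD B (isBC_of_finite₀ B ω ω a c hω.finite_cohomology) hω.toEnd_bijective
      ext_self_subsingleton := fun i hi => subsingleton_bcD_hom B (isBC_of_finite B ω ω a c hω.finite_cohomology i)
        (hω.ext_self_subsingleton i hi) }

/-- Residue fields of the same shape: the bound is inherited. -/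
theorem subsingleton_residue_bcD {ω : Dual.D A} (hω : Dual.IsDualizing A ω) (a b : ℤ)
    (hab : ∀ (M : Type u) [AddCommGroup M] [Module A M] (i : ℤ), (i < a ∨ b < i) →
      Subsingleton (Dual.inD A M ⟶ ω⟦i⟧))
    (p : Ideal A) (m : Ideal B) (h : p.map (algebraMap A B) = m) (i : ℤ)
    (hi : Subsingleton (Dual.inD A (A ⧸ p) ⟶ ω⟦i⟧)) :
    Subsingleton (Dual.inD B (B ⧸ m) ⟶ ((bcD B).obj ω)⟦i⟧) := by
  haveI := hω.isNoetherianRing
  haveI : ω.IsGE a := isGE_of_hom_ring ω a fun j hj => hab A j (Or.inl hj)
  haveI := subsingleton_hom_tensor B ω a (A ⧸ p) i hi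
  subst h
  let e : Dual.inD B (B ⊗[A] (A ⧸ p)) ≅ Dual.inD B (B ⧸ p.map (algebraMap A B)) :=
    (DerivedCategory.singleFunctor (ModuleCat.{u} B) 0).mapIso
      (Algebra.TensorProduct.quotIdealMapEquivTensorQuot B p).symm.toLinearEquiv.toModuleIso
  exact (e.homFromEquiv (Z := ((bcD B).obj ω)⟦i⟧)).symm.subsingleton

/-- **Faithfully flat descent.** -/
theorem isDualizing_of_bcD [IsNoetherianRing A] [Module.FaithfullyFlat A B] {K : Dual.D A}
    (hK : Dual.IsDualizing B ((bcD B).obj K)) : Dual.IsDualizing A K := by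
  haveI := hK.isNoetherianRing
  obtain ⟨a, b, hab⟩ := hK.finite_injective_dimension
  have hH : ∀ q, (q < a ∨ b < q) → Subsingleton (Dual.HD A K q) := by
    intro q hq
    have hs := DR.subsingleton_HD_of_hom_ring ((bcD B).obj K) q (hab B q hq)
    have hz : IsZero ((bcMod (A := A) B).obj ((homologyFunctor (ModuleCat.{u} A) q).obj K)) :=
      ((DR.subsingleton_iff_isZero ((homologyFunctor (ModuleCat.{u} B) q).obj ((bcD B).obj K))).1 hs).of_iso
        ((DerTrunc.homologyMapIso (bcMod (A := A) B) q).app K).symm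
    obtain ⟨e⟩ := nonempty_bcMod_iso (A := A) B (Dual.HD A K q)
    haveI : Subsingleton (B ⊗[A] Dual.HD A K q) := (DR.subsingleton_iff_isZero _).2 (hz.of_iso e.symm)
    exact Module.FaithfullyFlat.lTensor_reflects_triviality A B _
  haveI : K.IsGE a := by
    rw [DerivedCategory.isGE_iff]
    exact fun q hq => (DR.subsingleton_iff_isZero _).1 (hH q (Or.inl hq))
  haveI : K.IsLE b := by
    rw [DerivedCategory.isLE_iff]
    exact fun q hq => (DR.subsingleton_iff_isZero _).1 (hH q (Or.inr hq))
  have hfin : ∀ q, Module.Finite A (Dual.HD A K q) := fun q => by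
    haveI : Module.Finite B (((bcMod (A := A) B).mapDerivedCategory ⋙ homologyFunctor (ModuleCat.{u} B) q).obj K) :=
      hK.finite_cohomology q
    obtain ⟨e⟩ := nonempty_bcMod_iso (A := A) B (Dual.HD A K q)
    haveI : Module.Finite B (B ⊗[A] Dual.HD A K q) :=
      Module.Finite.equiv (((DerTrunc.homologyMapIso (bcMod (A := A) B) q).app K) ≪≫ e).toLinearEquiv
    exact Module.Finite.of_finite_tensorProduct_of_faithfullyFlat B
  have hamp : DRing.HasInjAmplitudeIn A a b K :=
    DR.hasInjAmplitudeIn_of_cyclic K a b fun J i hi =>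
      subsingleton_hom_of_tensor B K a (A ⧸ J) i (hab (B ⊗[A] (A ⧸ J)) i hi)
  exact
    { isNoetherianRing := inferInstance
      finite_injective_dimension := ⟨a, b, fun M _ _ i hi => DR.subsingleton_ext_of_injAmp hamp M i hi⟩
      finite_cohomology := hfin
      toEnd_bijective := bijective_toEnd_of_bcD B (isBC_of_finite₀ B K K a b hfin) hK.toEnd_bijective
      ext_self_subsingleton := fun i hi => subsingleton_of_bcD_hom B (isBC_of_finite B K K a b hfin i)
        (hK.ext_self_subsingleton i hi) }

end GrothLib.DualCx22
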