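import Groth.Agent.Lib.DualCx22.DualRep
import Groth.Agent.Lib.DualCx22.Transfer
import Groth.Agent.Lib.HoCat.KInjective
import Groth.Agent.Lib.KInj.Adjoint
import Groth.Prelude.Def_DDual2

/-!
# The right adjoint of restriction of scalars and dualizing complexes
-/

set_option autoImplicit false
set_option linter.style.haveILetI false
universe u

open CategoryTheory CategoryTheory.Limits CochainComplex CochainComplex.HomComplex HomologicalComplex

attribute [local instance] HasDerivedCategory.standard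

namespace GrothLib.DualCx22

variable {A B : Type u} [CommRing A] [CommRing B] (φ : A →+* B)

instance additive_coextendScalars : (ModuleCat.coextendScalars.{u, u, u} φ).Additive :=
  (ModuleCat.restrictCoextendScalarsAdj.{u, u, u} φ).right_adjoint_additive

/-- The complex of coinduced modules. -/
noncomputable abbrev coI (I : DRing.Cx A) : DRing.Cx B :=
  ((ModuleCat.coextendScalars.{u, u, u} φ).mapHomologicalComplex (ComplexShape.up ℤ)).obj I

/-- The counit in the derived category. -/
noncomputable def coCounit (I : DRing.Cx A) : (DRing.restrictD φ).obj (DRing.toD (coI φ I)) ⟶ DRing.toD I :=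
  (ModuleCat.restrictScalars.{u} φ).mapDerivedCategoryFactors.hom.app (coI φ I) ≫
    DerivedCategory.Q.map ((GrothLib.KInj.mapComplexAdj (ModuleCat.restrictCoextendScalarsAdj.{u, u, u} φ)
      (ComplexShape.up ℤ)).counit.app I)

theorem isKInjective_coI (I : DRing.Cx A) [I.IsKInjective] : (coI φ I).IsKInjective :=
  GrothLib.HoCat.isKInjective_map_of_rightAdjoint _ _ (ModuleCat.restrictCoextendScalarsAdj.{u, u, u} φ) I inferInstance

/-- Homotopic maps are equal in the derived category. -/
theorem Q_map_eq_of_homotopy {R : Type u} [CommRing R] {K L : DRing.Cx R} {f g : K ⟶ L} (h : Homotopy f g) :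
    DerivedCategory.Q.map f = DerivedCategory.Q.map g := by
  have e := HomotopyCategory.eq_of_homotopy _ _ h
  rw [← cancel_epi ((DerivedCategory.quotientCompQhIso _).hom.app K),
    ← (DerivedCategory.quotientCompQhIso _).hom.naturality, ← (DerivedCategory.quotientCompQhIso _).hom.naturality,
    Functor.comp_map, Functor.comp_map, e]

theorem Q_map_surjective_kInj {R : Type u} [CommRing R] (K J : DRing.Cx R) [J.IsKInjective] :
    Function.Surjective (fun f : K ⟶ J => DerivedCategory.Q.map f) :=
  fun g => GrothLib.DR.exists_lift_inj g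

theorem nonempty_homotopy_of_Q_map_eq {R : Type u} [CommRing R] {K J : DRing.Cx R} [J.IsKInjective] {f g : K ⟶ J}
    (h : DerivedCategory.Q.map f = DerivedCategory.Q.map g) : Nonempty (Homotopy f g) := by
  refine ⟨HomotopyCategory.homotopyOfEq _ _ ((CochainComplex.IsKInjective.Qh_map_bijective
    ((HomotopyCategory.quotient _ (ComplexShape.up ℤ)).obj K) J).1 ?_)⟩
  rw [← cancel_mono ((DerivedCategory.quotientCompQhIso _).hom.app J)]
  change (HomotopyCategory.quotient _ _ ⋙ DerivedCategory.Qh).map f ≫ _ =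
    (HomotopyCategory.quotient _ _ ⋙ DerivedCategory.Qh).map g ≫ _
  rw [(DerivedCategory.quotientCompQhIso _).hom.naturality, (DerivedCategory.quotientCompQhIso _).hom.naturality, h]

/-- The universal property. -/
theorem coI_bijective (I : DRing.Cx A) [I.IsKInjective] (X : Dual.D B) :
    Function.Bijective fun h : X ⟶ DRing.toD (coI φ I) => (DRing.restrictD φ).map h ≫ coCounit φ I := by
  haveI := isKInjective_coI φ I
  suffices key : ∀ P : DRing.Cx B, Function.Bijective
      fun h : DRing.toD P ⟶ DRing.toD (coI φ I) => (DRing.restrictD φ).map h ≫ coCounit φ I by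
    let e := DerivedCategory.Q.objObjPreimageIso X
    have h := key (DerivedCategory.Q.objPreimage X)
    have he : (fun h : X ⟶ DRing.toD (coI φ I) => (DRing.restrictD φ).map h ≫ coCounit φ I) =
        (fun t => (DRing.restrictD φ).map e.inv ≫ t) ∘
          (fun h : DRing.toD _ ⟶ DRing.toD (coI φ I) => (DRing.restrictD φ).map h ≫ coCounit φ I) ∘
            fun h => e.hom ≫ h := by
      funext h
      simp only [Function.comp_apply, ← Category.assoc, ← Functor.map_comp, e.inv_hom_id, Category.id_comp]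
    rw [he]
    exact (((DRing.restrictD φ).mapIso e).homFromEquiv.bijective).comp (h.comp e.symm.homFromEquiv.bijective)
  intro P
  let L := (ModuleCat.restrictScalars.{u} φ).mapHomologicalComplex (ComplexShape.up ℤ)
  let G := (ModuleCat.coextendScalars.{u, u, u} φ).mapHomologicalComplex (ComplexShape.up ℤ)
  let adj : L ⊣ G := GrothLib.KInj.mapComplexAdj (ModuleCat.restrictCoextendScalarsAdj.{u, u, u} φ) (ComplexShape.up ℤ)
  let F := (ModuleCat.restrictScalars.{u} φ).mapDerivedCategoryFactors
  have val : ∀ h₀ : P ⟶ coI φ I, (DRing.restrictD φ).map (DerivedCategory.Q.map h₀) ≫ coCounit φ I =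
      F.hom.app P ≫ DerivedCategory.Q.map ((adj.homEquiv P I).symm h₀) := by
    intro h₀
    have hn := F.hom.naturality h₀
    rw [Adjunction.homEquiv_counit, Functor.map_comp]
    exact ((Category.assoc _ _ _).symm.trans (congrArg (· ≫ DerivedCategory.Q.map (adj.counit.app I)) hn)).trans
      (Category.assoc _ _ _)
  refine ⟨fun h h' hh => ?_, fun t => ?_⟩
  · obtain ⟨h₀, rfl⟩ := Q_map_surjective_kInj P (coI φ I) h
    obtain ⟨h₀', rfl⟩ := Q_map_surjective_kInj P (coI φ I) h'
    have hh' := (val h₀).symm.trans (hh.trans (val h₀'))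
    obtain ⟨H⟩ := nonempty_homotopy_of_Q_map_eq ((cancel_epi (F.hom.app P)).1 hh')
    refine Q_map_eq_of_homotopy ?_
    refine (Homotopy.ofEq ((adj.homEquiv P I).apply_symm_apply h₀).symm).trans
      (Homotopy.trans ?_ (Homotopy.ofEq ((adj.homEquiv P I).apply_symm_apply h₀')))
    rw [Adjunction.homEquiv_unit, Adjunction.homEquiv_unit]
    exact ((ModuleCat.coextendScalars.{u, u, u} φ).mapHomotopy H).compLeft (adj.unit.app P)
  · obtain ⟨g, hg⟩ := Q_map_surjective_kInj (L.obj P) I (F.inv.app P ≫ t)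
    refine ⟨DerivedCategory.Q.map (adj.homEquiv P I g), ?_⟩
    change (DRing.restrictD φ).map (DerivedCategory.Q.map (adj.homEquiv P I g)) ≫ coCounit φ I = t
    rw [val, Equiv.symm_apply_apply]
    exact (congrArg (F.hom.app P ≫ ·) hg).trans (F.hom_inv_id_app_assoc P t)

/-- A right adjoint of restriction takes `toD I` to the coinduced complex. -/
theorem nonempty_coI_iso (I : DRing.Cx A) [I.IsKInjective] (R : Dual.D A ⥤ Dual.D B) (adj : DRing.restrictD φ ⊣ R) :
    Nonempty (DRing.toD (coI φ I) ≅ R.obj (DRing.toD I)) := by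
  let α := adj.homEquiv _ _ (coCounit φ I)
  haveI : IsIso α := by
    rw [isIso_iff_isIso_yoneda_map]
    intro X
    rw [isIso_iff_bijective]
    have he : (fun h : X ⟶ DRing.toD (coI φ I) => h ≫ α) =
        (adj.homEquiv X (DRing.toD I)) ∘ fun h => (DRing.restrictD φ).map h ≫ coCounit φ I := by
      funext h
      exact (adj.homEquiv_naturality_left h (coCounit φ I)).symm
    change Function.Bijective fun h : X ⟶ DRing.toD (coI φ I) => h ≫ α
    rw [he]
    exact (adj.homEquiv _ _).bijective.comp (coI_bijective φ I X)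
  exact ⟨asIso α⟩

/-- Shifted adjunction. -/
noncomputable def homEquivShift {R : Dual.D A ⥤ Dual.D B} (adj : DRing.restrictD φ ⊣ R) (X : Dual.D B) (K : Dual.D A)
    (i : ℤ) : (X ⟶ (R.obj K)⟦i⟧) ≃ ((DRing.restrictD φ).obj X ⟶ K⟦i⟧) :=
  ((homShiftLEquiv₀ X (R.obj K) (-i) i (by omega)).toEquiv.symm.trans (adj.homEquiv _ _).symm).trans
    ((((DRing.restrictD φ).commShiftIso (-i)).app X).homFromEquiv.trans
      (homShiftLEquiv₀ ((DRing.restrictD φ).obj X) K (-i) i (by omega)).toEquiv)

/-- Restriction of a module. -/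
theorem nonempty_restrictD_inD (N : Type u) [AddCommGroup N] [Module B N] :
    Nonempty ((DRing.restrictD φ).obj (Dual.inD B N) ≅
      Dual.inD A ((ModuleCat.restrictScalars.{u} φ).obj (ModuleCat.of B N))) := by
  obtain ⟨e'⟩ := GrothLib.DR.nonempty_map_inD (ModuleCat.restrictScalars.{u} φ) N
  exact ⟨(DRing.restrictD φ).mapIso (DCpl.eSingle (ModuleCat.of B N)) ≪≫
    (ModuleCat.restrictScalars.{u} φ).mapDerivedCategoryFactors.app _ ≪≫ e'⟩

/-- The source complex `B[0]` over `A`. -/
noncomputable abbrev srcCx : DRing.Cx A :=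
  (HomologicalComplex.single (ModuleCat.{u} A) (ComplexShape.up ℤ) 0).obj
    ((ModuleCat.restrictScalars.{u} φ).obj (ModuleCat.of B B))

/-- The cochains out of `B[0]` are the coinduced modules. -/
noncomputable def srcEquiv (I : DRing.Cx A) (n : ℤ) :
    Cochain (srcCx φ) I n ≃ₗ[A] (((ModuleCat.restrictScalars.{u} φ).obj (ModuleCat.of B B)) →ₗ[A] I.X n) :=
  { (Cochain.fromSingleEquiv (K := I) (X := (ModuleCat.restrictScalars.{u} φ).obj (ModuleCat.of B B))
      (zero_add n)).toEquiv.trans ModuleCat.homEquiv with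
    map_add' := fun f f' => congrArg ModuleCat.Hom.hom
      ((Cochain.fromSingleEquiv (K := I) (X := (ModuleCat.restrictScalars.{u} φ).obj (ModuleCat.of B B))
        (zero_add n)).map_add f f')
    map_smul' := fun a f => rfl }

/-- The restriction of the coinduced complex is the complex of homomorphisms out of `B[0]`. -/
noncomputable def resCoIso (I : DRing.Cx A) :
    DRing.homCx (srcCx φ) I ≅
      ((ModuleCat.restrictScalars.{u} φ).mapHomologicalComplex (ComplexShape.up ℤ)).obj (coI φ I) :=
  HomologicalComplex.Hom.isoOfComponents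
    (fun n => LinearEquiv.toModuleIso
      ({ toFun := fun f : Cochain (srcCx φ) I n =>
          ((ModuleCat.CoextendScalars.equiv φ (I.X n)).symm (srcEquiv φ I n f) :
            ((ModuleCat.restrictScalars.{u} φ).obj ((ModuleCat.coextendScalars.{u, u, u} φ).obj (I.X n))))
         invFun := fun g : ((ModuleCat.restrictScalars.{u} φ).obj ((ModuleCat.coextendScalars.{u, u, u} φ).obj (I.X n))) =>
          (srcEquiv φ I n).symm (ModuleCat.CoextendScalars.equiv φ (I.X n) g)
         left_inv := fun f => (srcEquiv φ I n).symm_apply_apply f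
         right_inv := fun g => (srcEquiv φ I n).apply_symm_apply _
         map_add' := fun f f' => map_add (srcEquiv φ I n) f f'
         map_smul' := fun a f => by
          refine ModuleCat.CoextendScalars.ext (LinearMap.ext fun s => ?_)
          change srcEquiv φ I n (a • f) s = srcEquiv φ I n f (@HMul.hMul B B B _ s (φ a))
          rw [map_smul, LinearMap.smul_apply, ← map_smul, mul_comm (G := B)]
          rfl } :
        Cochain (srcCx φ) I n ≃ₗ[A]
          ((ModuleCat.restrictScalars.{u} φ).obj ((ModuleCat.coextendScalars.{u, u, u} φ).obj (I.X n)))))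
    (fun n m hnm => by
      obtain rfl : n + 1 = m := hnm
      refine ModuleCat.hom_ext (LinearMap.ext fun (f : Cochain (srcCx φ) I n) => ?_)
      refine ModuleCat.CoextendScalars.ext (LinearMap.ext fun s => ?_)
      let i := (singleObjXSelf (ComplexShape.up ℤ) 0 ((ModuleCat.restrictScalars.{u} φ).obj (ModuleCat.of B B))).inv s
      change I.d n (n + 1) (f.v 0 n (zero_add n) i) = (δ n (n + 1) f).v 0 (n + 1) (zero_add _) i
      rw [GrothLib.RH.δ_app f 0 (n + 1) n 1 (zero_add _) (by omega) rfl i, HomologicalComplex.single_obj_d]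
      exact ((congrArg (I.d n (n + 1) (f.v 0 n (zero_add n) i) + ·)
        ((congrArg (((n + 1).negOnePow : ℤ) • ·) (map_zero _)).trans (smul_zero _))).trans (add_zero _)).symm)

/-- Restricting the coinduced object. -/
noncomputable def resCoIsoD (I : DRing.Cx A) :
    DRing.toD (DRing.homCx (srcCx φ) I) ≅ (DRing.restrictD φ).obj (DRing.toD (coI φ I)) :=
  DerivedCategory.Q.mapIso (resCoIso φ I) ≪≫ ((ModuleCat.restrictScalars.{u} φ).mapDerivedCategoryFactors.app _).symm

/-- Multiplication by `b` on `B[0]`. -/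
noncomputable def srcMul (b : B) : srcCx φ ⟶ srcCx φ :=
  (HomologicalComplex.single (ModuleCat.{u} A) (ComplexShape.up ℤ) 0).map
    ((ModuleCat.restrictScalars.{u} φ).map (b • 𝟙 (ModuleCat.of B B)))

/-- Scalars on the coinduced object are multiplication on the source. -/
theorem resCoIsoD_smul (I : DRing.Cx A) (b : B) :
    (resCoIsoD φ I).hom ≫ (DRing.restrictD φ).map (b • 𝟙 (DRing.toD (coI φ I))) =
      DerivedCategory.Q.map (GrothLib.RH.homCxPre (srcMul φ b) I) ≫ (resCoIsoD φ I).hom := by
  let L := (ModuleCat.restrictScalars.{u} φ).mapHomologicalComplex (ComplexShape.up ℤ)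
  let F := (ModuleCat.restrictScalars.{u} φ).mapDerivedCategoryFactors
  have h1 : b • 𝟙 (DRing.toD (coI φ I)) = DerivedCategory.Q.map (b • 𝟙 (coI φ I)) := by
    rw [Functor.map_smul, CategoryTheory.Functor.map_id]
  have h2 : (resCoIso φ I).hom ≫ L.map (b • 𝟙 (coI φ I)) =
      GrothLib.RH.homCxPre (srcMul φ b) I ≫ (resCoIso φ I).hom := by
    refine HomologicalComplex.hom_ext _ _ fun n => ModuleCat.hom_ext (LinearMap.ext fun (f : Cochain (srcCx φ) I n) => ?_)
    refine ModuleCat.CoextendScalars.ext (LinearMap.ext fun s => ?_)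
    change srcEquiv φ I n f (@HMul.hMul B B B _ s b) = srcEquiv φ I n ((Cochain.ofHom (srcMul φ b)).comp f (zero_add n)) s
    let η := singleObjXSelf (ComplexShape.up ℤ) 0 ((ModuleCat.restrictScalars.{u} φ).obj (ModuleCat.of B B))
    change f.v 0 n (zero_add n) (η.inv (@HMul.hMul B B B _ s b)) =
      ((Cochain.ofHom (srcMul φ b)).comp f (zero_add n)).v 0 n (zero_add n) (η.inv s)
    rw [Cochain.zero_cochain_comp_v, Cochain.ofHom_v]
    change f.v 0 n (zero_add n) (η.inv (@HMul.hMul B B B _ s b)) = f.v 0 n (zero_add n) ((srcMul φ b).f 0 (η.inv s))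
    congr 1
    rw [srcMul, HomologicalComplex.single_map_f_self]
    have : η.hom (η.inv s) = s := ConcreteCategory.congr_hom η.inv_hom_id s
    change η.inv (@HMul.hMul B B B _ s b) = η.inv (@HMul.hMul B B B _ b (η.hom (η.inv s)))
    rw [this, mul_comm (G := B)]
  rw [h1, resCoIsoD, Iso.trans_hom, Category.assoc]
  have hn := F.inv.naturality (b • 𝟙 (coI φ I))
  change DerivedCategory.Q.map (resCoIso φ I).hom ≫ F.inv.app (coI φ I) ≫
    (DRing.restrictD φ).map (DerivedCategory.Q.map (b • 𝟙 (coI φ I))) = _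
  erw [← hn]
  rw [← Category.assoc]
  change (DerivedCategory.Q.map (resCoIso φ I).hom ≫ DerivedCategory.Q.map (L.map (b • 𝟙 (coI φ I)))) ≫ _ = _
  rw [← Functor.map_comp, h2, Functor.map_comp, Category.assoc]
  rfl

/-- Finiteness passes from a restricted module to the module. -/
theorem finite_of_restrictScalars (N : ModuleCat.{u} B)
    (h : Module.Finite A ((ModuleCat.restrictScalars.{u} φ).obj N)) : Module.Finite B N := by
  obtain ⟨s, hs⟩ := h.fg_top
  refine ⟨⟨s, eq_top_iff.2 fun x _ => ?_⟩⟩
  suffices key : ∀ y : (ModuleCat.restrictScalars.{u} φ).obj N,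
      (y : N) ∈ Submodule.span B (SetLike.coe (show Finset N from s)) from key x
  intro y
  have hy : y ∈ Submodule.span A (s : Set _) := hs ▸ Submodule.mem_top
  induction hy using Submodule.span_induction with
  | mem y hy => exact Submodule.subset_span hy
  | zero => exact Submodule.zero_mem _
  | add y z _ _ hy hz => exact Submodule.add_mem _ hy hz
  | smul a y _ hy => exact Submodule.smul_mem _ (φ a) hy

/-- An abstract free cyclic endomorphism module gives bijectivity of scalars. -/
theorem bijective_toEnd_of_equiv {X : Dual.D B} (e : (X ⟶ X) → B) (he : Function.Bijective e)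
    (hs : ∀ (b : B) (f : X ⟶ X), e (b • f) = b * e f) : Function.Bijective fun b : B => b • 𝟙 X := by
  obtain ⟨f₀, hf₀⟩ := he.2 1
  have hgen : ∀ f, f = e f • f₀ := fun f => he.1 (by rw [hs, hf₀, mul_one])
  have h0 : f₀ = (e (𝟙 X) * e (f₀ ≫ f₀)) • f₀ := by
    conv_lhs => rw [← Category.comp_id f₀, hgen (𝟙 X), Linear.comp_smul, hgen (f₀ ≫ f₀), smul_smul]
  have hu : e (𝟙 X) * e (f₀ ≫ f₀) = 1 := by
    have := congrArg e h0
    rwa [hs, hf₀, mul_one, eq_comm] at this
  refine ⟨fun b b' hb => ?_, fun f => ⟨e f * e (f₀ ≫ f₀), ?_⟩⟩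
  · have := congrArg e hb
    simp only [hs] at this
    have := congrArg (· * e (f₀ ≫ f₀)) this
    simpa [mul_assoc, hu] using this
  · refine he.1 ?_
    rw [hs, mul_assoc, mul_comm (e (f₀ ≫ f₀)), hu, mul_one]

/-- A quasi-isomorphism on elements: surjectivity. -/
theorem exists_cycle_of_quasiIso {K L : DRing.Cx A} (f : K ⟶ L) [QuasiIso f] (n : ℤ) (y : L.X n)
    (hy : L.d n (n + 1) y = 0) :
    ∃ (x : K.X n), K.d n (n + 1) x = 0 ∧ ∃ b : L.X (n - 1), L.d (n - 1) n b = f.f n x - y := by
  have hq : QuasiIsoAt f n := inferInstance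
  rw [quasiIsoAt_iff' f (n - 1) n (n + 1) (by simp) (by simp),
    ShortComplex.LeftHomologyMapData.quasiIso_iff
      (γ := (default : ShortComplex.LeftHomologyMapData
        ((HomologicalComplex.shortComplexFunctor' _ (ComplexShape.up ℤ) (n - 1) n (n + 1)).map f)
        (ShortComplex.moduleCatLeftHomologyData _) (ShortComplex.moduleCatLeftHomologyData _))),
    ConcreteCategory.isIso_iff_bijective] at hq
  let γ : ShortComplex.LeftHomologyMapData
        ((HomologicalComplex.shortComplexFunctor' _ (ComplexShape.up ℤ) (n - 1) n (n + 1)).map f)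
        (ShortComplex.moduleCatLeftHomologyData _) (ShortComplex.moduleCatLeftHomologyData _) := default
  have hK : ∀ x, ((γ.φK x).1 : L.X n) = f.f n x.1 := fun x => ConcreteCategory.congr_hom γ.commi x
  obtain ⟨c, hc⟩ := hq.2 (Submodule.Quotient.mk ⟨y, hy⟩)
  obtain ⟨x, rfl⟩ := Submodule.Quotient.mk_surjective _ c
  obtain ⟨b, hb⟩ := (Submodule.Quotient.eq _).1 ((ConcreteCategory.congr_hom γ.commπ x).symm.trans hc)
  exact ⟨x.1, x.2, b, (congrArg Subtype.val hb).trans (congrArg (· - y) (hK x))⟩

/-- A quasi-isomorphism on elements: injectivity. -/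
theorem exists_boundary_of_quasiIso {K L : DRing.Cx A} (f : K ⟶ L) [QuasiIso f] (n : ℤ) (x : K.X n)
    (hx : K.d n (n + 1) x = 0) (w : L.X (n - 1)) (hw : L.d (n - 1) n w = f.f n x) :
    ∃ a : K.X (n - 1), K.d (n - 1) n a = x := by
  have hq : QuasiIsoAt f n := inferInstance
  rw [quasiIsoAt_iff' f (n - 1) n (n + 1) (by simp) (by simp),
    ShortComplex.LeftHomologyMapData.quasiIso_iff
      (γ := (default : ShortComplex.LeftHomologyMapData
        ((HomologicalComplex.shortComplexFunctor' _ (ComplexShape.up ℤ) (n - 1) n (n + 1)).map f)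
        (ShortComplex.moduleCatLeftHomologyData _) (ShortComplex.moduleCatLeftHomologyData _))),
    ConcreteCategory.isIso_iff_bijective] at hq
  let γ : ShortComplex.LeftHomologyMapData
        ((HomologicalComplex.shortComplexFunctor' _ (ComplexShape.up ℤ) (n - 1) n (n + 1)).map f)
        (ShortComplex.moduleCatLeftHomologyData _) (ShortComplex.moduleCatLeftHomologyData _) := default
  have hK : ∀ x, ((γ.φK x).1 : L.X n) = f.f n x.1 := fun x => ConcreteCategory.congr_hom γ.commi x
  have h0 := (injective_iff_map_eq_zero _).1 hq.1 (Submodule.Quotient.mk ⟨x, hx⟩)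
    ((ConcreteCategory.congr_hom γ.commπ ⟨x, hx⟩).trans
      ((Submodule.Quotient.mk_eq_zero _).2 ⟨w, Subtype.ext (hw.trans (hK ⟨x, hx⟩).symm)⟩))
  obtain ⟨a, ha⟩ := (Submodule.Quotient.mk_eq_zero _).1 h0
  exact ⟨a, congrArg Subtype.val ha⟩

/-- **End of the coinduced dualizing complex.** -/
theorem bijective_toEnd_coI [IsNoetherianRing A] {ω : Dual.D A} (r : InjRep ω)
    (hfin : Module.Finite A ((ModuleCat.restrictScalars.{u} φ).obj (ModuleCat.of B B))) :
    Function.Bijective fun b : B => b • 𝟙 (DRing.toD (coI φ r.I)) := by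
  haveI := r.kInj
  haveI := isKInjective_coI φ r.I
  let M := (ModuleCat.restrictScalars.{u} φ).obj (ModuleCat.of B B)
  let η := singleObjXSelf (ComplexShape.up ℤ) 0 M
  haveI hq : QuasiIso (evI r.I (srcCx φ)) := isBidual_of_finite r.I r.vanish r.inj r.unit r.le (srcCx φ) fun i => by
    by_cases hi : i = 0
    · subst hi
      exact Module.Finite.equiv (((DerivedCategory.homologyFunctorFactors (ModuleCat.{u} A) 0).app _) ≪≫
        (HomologicalComplex.singleObjHomologySelfIso (ComplexShape.up ℤ) 0 M)).toLinearEquiv.symm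
    · haveI : Subsingleton (Dual.HD A (DRing.toD (srcCx φ)) i) :=
        (GrothLib.DR.subsingleton_iff_isZero _).2 ((isZero_homology_of_X (isZero_single_obj_X _ _ _ _ hi)).of_iso
          ((DerivedCategory.homologyFunctorFactors (ModuleCat.{u} A) i).app (srcCx φ)))
      exact Module.Finite.of_finite
  let D := DRing.homCx (srcCx φ) r.I
  have hc : ∀ x : (srcCx φ).X 0, δ 0 1 (evIFun r.I (srcCx φ) 0 x) = 0 := fun x => by
    have h := ConcreteCategory.congr_hom ((evI r.I (srcCx φ)).comm 0 1) x
    change δ 0 1 (evIFun r.I (srcCx φ) 0 x) = evIFun r.I (srcCx φ) 1 ((srcCx φ).d 0 1 x) at h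
    rw [h, HomologicalComplex.single_obj_d]
    exact map_zero _
  let Ψ : (srcCx φ).X 0 → (DRing.toD D ⟶ (DRing.toD r.I)⟦(0 : ℤ)⟧) := fun x =>
    GrothLib.DualRing.cocycleHom D r.I 0 (Cocycle.mk (evIFun r.I (srcCx φ) 0 x) 1 rfl (hc x))
  have hΨ : Function.Bijective Ψ := by
    refine ⟨fun x x' hx => ?_, fun t => ?_⟩
    · have h0 : GrothLib.DualRing.cocycleHom D r.I 0 (Cocycle.mk (evIFun r.I (srcCx φ) 0 x) 1 rfl (hc x) -
          Cocycle.mk (evIFun r.I (srcCx φ) 0 x') 1 rfl (hc x')) = 0 := by
        rw [GrothLib.DualRing.cocycleHom, map_sub, Functor.map_sub, Preadditive.sub_comp]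
        exact sub_eq_zero.2 hx
      obtain ⟨w, hw⟩ := (mem_coboundaries_iff _ (0 - 1) (by omega)).1
        ((GrothLib.DualRing.cocycleHom_eq_zero_iff D r.I 0 _).1 h0)
      have hd : ∀ z : (srcCx φ).X 0, (srcCx φ).d 0 (0 + 1) z = 0 := fun z => by
        rw [HomologicalComplex.single_obj_d]; rfl
      obtain ⟨a, ha⟩ := exists_boundary_of_quasiIso (evI r.I (srcCx φ)) 0 (x - x') (hd _) w
        (hw.trans (map_sub (evIFun r.I (srcCx φ) 0) x x').symm)
      rw [HomologicalComplex.single_obj_d] at ha
      exact sub_eq_zero.1 ha.symm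
    · obtain ⟨z, rfl⟩ := GrothLib.DualRing.cocycleHom_surjective D r.I 0 t
      obtain ⟨x, _, w, hw⟩ := exists_cycle_of_quasiIso (evI r.I (srcCx φ)) 0 z.1 (z.δ_eq_zero 1)
      have h0 : GrothLib.DualRing.cocycleHom D r.I 0 (Cocycle.mk (evIFun r.I (srcCx φ) 0 x) 1 rfl (hc x) - z) = 0 :=
        (GrothLib.DualRing.cocycleHom_eq_zero_iff D r.I 0 _).2
          ((mem_coboundaries_iff _ (0 - 1) (by omega)).2 ⟨w, hw⟩)
      rw [GrothLib.DualRing.cocycleHom, map_sub, Functor.map_sub, Preadditive.sub_comp] at h0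
      exact ⟨x, sub_eq_zero.1 h0⟩
  have hmul : ∀ (b : B) (x : (srcCx φ).X 0),
      DerivedCategory.Q.map (GrothLib.RH.homCxPre (srcMul φ b) r.I) ≫ Ψ x = Ψ ((srcMul φ b).f 0 x) := by
    intro b x
    have hz : Cocycle.mk (evIFun r.I (srcCx φ) 0 ((srcMul φ b).f 0 x)) 1 rfl (hc _) =
        (Cocycle.mk (evIFun r.I (srcCx φ) 0 x) 1 rfl (hc x)).precomp (GrothLib.RH.homCxPre (srcMul φ b) r.I) :=
      Subtype.ext (ConcreteCategory.congr_hom (congrArg (fun k => HomologicalComplex.Hom.f k 0)
        (evI_naturality r.I (srcMul φ b))) x)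
    change _ = GrothLib.DualRing.cocycleHom D r.I 0 _
    rw [hz, GrothLib.DualRing.cocycleHom, Cocycle.equivHomShift_symm_precomp, Functor.map_comp, Category.assoc]
    rfl
  let sh : (DRing.toD r.I)⟦(0 : ℤ)⟧ ≅ DRing.toD r.I := (shiftFunctorZero (Dual.D A) ℤ).app _
  let E : (DRing.toD (coI φ r.I) ⟶ DRing.toD (coI φ r.I)) → (DRing.toD D ⟶ (DRing.toD r.I)⟦(0 : ℤ)⟧) := fun h =>
    (resCoIsoD φ r.I).hom ≫ ((DRing.restrictD φ).map h ≫ coCounit φ r.I) ≫ sh.inv
  have hE : Function.Bijective E := by
    have : E = (fun t => (resCoIsoD φ r.I).hom ≫ t) ∘ (fun t => t ≫ sh.inv) ∘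
        fun h => (DRing.restrictD φ).map h ≫ coCounit φ r.I := rfl
    rw [this]
    exact (resCoIsoD φ r.I).symm.homFromEquiv.bijective.comp
      (sh.symm.homToEquiv.bijective.comp (coI_bijective φ r.I _))
  let Ψe := Equiv.ofBijective Ψ hΨ
  refine bijective_toEnd_of_equiv (fun h => (η.hom (Ψe.symm (E h)) : B)) ?_ fun b h => ?_
  · exact ((asIso η.hom).toLinearEquiv.bijective).comp (Ψe.symm.bijective.comp hE)
  · have hb : E (b • h) = DerivedCategory.Q.map (GrothLib.RH.homCxPre (srcMul φ b) r.I) ≫ E h := by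
      rw [show b • h = (b • 𝟙 (DRing.toD (coI φ r.I))) ≫ h by rw [Linear.smul_comp, Category.id_comp]]
      change (resCoIsoD φ r.I).hom ≫ ((DRing.restrictD φ).map _ ≫ coCounit φ r.I) ≫ sh.inv = _
      rw [Functor.map_comp, Category.assoc, Category.assoc, ← Category.assoc, resCoIsoD_smul]
      simp only [Category.assoc, E]
    have hx : Ψe.symm (E (b • h)) = (srcMul φ b).f 0 (Ψe.symm (E h)) := by
      apply Ψe.injective
      rw [Equiv.apply_symm_apply, hb]
      change _ = Ψ _
      rw [← hmul]
      exact (congrArg (fun t => DerivedCategory.Q.map (GrothLib.RH.homCxPre (srcMul φ b) r.I) ≫ t)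
        (Ψe.apply_symm_apply (E h))).symm
    change (η.hom (Ψe.symm (E (b • h))) : B) = @HMul.hMul B B B _ b (η.hom (Ψe.symm (E h)))
    rw [hx, srcMul, HomologicalComplex.single_map_f_self]
    change (η.hom (η.inv (b • (η.hom (Ψe.symm (E h)) : B) : M)) : B) = _
    exact ConcreteCategory.congr_hom η.inv_hom_id _

end GrothLib.DualCx22
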