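import Groth.Agent.Lib.DCxRHom.Rep
import Groth.Agent.Lib.DualRing.HomHD
import Groth.Agent.Lib.DualCx22.Coind

/-!
# Quasi-isomorphisms between complexes of homomorphisms, tested in the derived category
-/

set_option autoImplicit false
set_option linter.style.haveILetI false
universe u

open CategoryTheory CategoryTheory.Limits CochainComplex CochainComplex.HomComplex

attribute [local instance] HasDerivedCategory.standard

namespace GrothLib.DualCx22

variable {A : Type u} [CommRing A]

/-- Morphisms in the homotopy category into a shift of a K-injective complex. -/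
noncomputable def quotShiftEquiv (K L : DRing.Cx A) [L.IsKInjective] (n : ℤ) :
    ((HomotopyCategory.quotient _ (ComplexShape.up ℤ)).obj K ⟶
      (HomotopyCategory.quotient _ (ComplexShape.up ℤ)).obj (L⟦n⟧)) ≃
      (DRing.toD K ⟶ (DRing.toD L)⟦n⟧) :=
  (Equiv.ofBijective _ (CochainComplex.IsKInjective.Qh_map_bijective
      ((HomotopyCategory.quotient _ (ComplexShape.up ℤ)).obj K) (L⟦n⟧))).trans
    (Iso.homCongr ((DerivedCategory.quotientCompQhIso _).app K)
      ((DerivedCategory.quotientCompQhIso _).app (L⟦n⟧) ≪≫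
        ((DerivedCategory.Q (C := ModuleCat.{u} A)).commShiftIso n).app L))

theorem quotShiftEquiv_apply (K L : DRing.Cx A) [L.IsKInjective] (n : ℤ) (g) :
    quotShiftEquiv K L n g = (DerivedCategory.quotientCompQhIso (ModuleCat.{u} A)).inv.app K ≫
      DerivedCategory.Qh.map g ≫ (DerivedCategory.quotientCompQhIso _).hom.app (L⟦n⟧) ≫
        ((DerivedCategory.Q (C := ModuleCat.{u} A)).commShiftIso n).hom.app L := by
  rfl

theorem quotShiftEquiv_pre {K K' : DRing.Cx A} (f : K' ⟶ K) (L : DRing.Cx A) [L.IsKInjective] (n : ℤ) (g) :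
    quotShiftEquiv K' L n ((HomotopyCategory.quotient _ (ComplexShape.up ℤ)).map f ≫ g) =
      DerivedCategory.Q.map f ≫ quotShiftEquiv K L n g := by
  rw [quotShiftEquiv_apply, quotShiftEquiv_apply, Functor.map_comp, Category.assoc, ← Category.assoc,
    ← Category.assoc (DerivedCategory.Q.map f)]
  congr 1

theorem quotShiftEquiv_post (K : DRing.Cx A) {L L' : DRing.Cx A} (φ : L ⟶ L') [L.IsKInjective] [L'.IsKInjective]
    (n : ℤ) (g) :
    quotShiftEquiv K L' n (g ≫ (HomotopyCategory.quotient _ (ComplexShape.up ℤ)).map (φ⟦n⟧')) =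
      quotShiftEquiv K L n g ≫ (DerivedCategory.Q.map φ)⟦n⟧' := by
  rw [quotShiftEquiv_apply, quotShiftEquiv_apply, Functor.map_comp]
  simp only [Category.assoc]
  congr 2
  have h1 := (DerivedCategory.quotientCompQhIso (ModuleCat.{u} A)).hom.naturality (φ⟦n⟧')
  have h2 := ((DerivedCategory.Q (C := ModuleCat.{u} A)).commShiftIso n).hom.naturality φ
  exact ((Category.assoc _ _ _).symm.trans (congrArg (· ≫ _) h1)).trans
    ((Category.assoc _ _ _).trans (congrArg (_ ≫ ·) h2))

/-- Postcomposition induces a quasi-isomorphism if it does so on morphisms in the derived category. -/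
theorem quasiIso_homCxMap_of_D (K : DRing.Cx A) {L L' : DRing.Cx A} (φ : L ⟶ L') [L.IsKInjective]
    [L'.IsKInjective]
    (h : ∀ n : ℤ, Function.Bijective fun g : DRing.toD K ⟶ (DRing.toD L)⟦n⟧ => g ≫ (DerivedCategory.Q.map φ)⟦n⟧') :
    QuasiIso (DRing.homCxMap K φ) := by
  refine GrothLib.RH.quasiIso_homCxMap_of_bijective K φ fun n => ?_
  refine (Function.Bijective.of_comp_iff' (quotShiftEquiv K L' n).bijective _).1 ?_
  have he : (quotShiftEquiv K L' n ∘ fun g => g ≫ (HomotopyCategory.quotient _ (ComplexShape.up ℤ)).map (φ⟦n⟧')) =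
      (fun t => t ≫ (DerivedCategory.Q.map φ)⟦n⟧') ∘ quotShiftEquiv K L n :=
    funext fun g => quotShiftEquiv_post K φ n g
  rw [he]
  exact (h n).comp (quotShiftEquiv K L n).bijective

/-- Precomposition induces a quasi-isomorphism if it does so on morphisms in the derived category. -/
theorem quasiIso_homCxPre_of_D {K K' : DRing.Cx A} (f : K' ⟶ K) (I : DRing.Cx A) [I.IsKInjective]
    (h : ∀ n : ℤ, Function.Bijective fun g : DRing.toD K ⟶ (DRing.toD I)⟦n⟧ => DerivedCategory.Q.map f ≫ g) :
    QuasiIso (GrothLib.RH.homCxPre f I) := by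
  let q := HomotopyCategory.quotient (ModuleCat.{u} A) (ComplexShape.up ℤ)
  have hb : ∀ n : ℤ, Function.Bijective fun g : q.obj K ⟶ q.obj (I⟦n⟧) => q.map f ≫ g := fun n => by
    refine (Function.Bijective.of_comp_iff' (quotShiftEquiv K' I n).bijective _).1 ?_
    have he : (quotShiftEquiv K' I n ∘ fun g => q.map f ≫ g) =
        (fun t => DerivedCategory.Q.map f ≫ t) ∘ quotShiftEquiv K I n :=
      funext fun g => quotShiftEquiv_pre f I n g
    rw [he]
    exact (h n).comp (quotShiftEquiv K I n).bijective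
  have hnat : ∀ {n : ℤ} (z : Cocycle K I n), CohomologyClass.toHom (CohomologyClass.mk (z.precomp f)) =
      q.map f ≫ CohomologyClass.toHom (CohomologyClass.mk z) := by
    intro n z
    rw [CohomologyClass.toHom_mk, CohomologyClass.toHom_mk, Cocycle.equivHomShift_symm_precomp, Functor.map_comp]
  refine GrothLib.RH.quasiIso_of_elements _ (fun n x hx w hw => ?_) (fun n y hy => ?_)
  · let z : Cocycle K I n := Cocycle.mk x (n + 1) rfl hx
    have hz : z.precomp f ∈ coboundaries K' I n := (mem_coboundaries_iff _ (n - 1) (by omega)).2 ⟨w, hw⟩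
    rw [← CohomologyClass.mk_eq_zero_iff] at hz
    have h0 : CohomologyClass.toHom (CohomologyClass.mk z) = 0 := (hb n).1 (by
      change q.map f ≫ CohomologyClass.toHom (CohomologyClass.mk z) = q.map f ≫ 0
      rw [← hnat, hz, map_zero, comp_zero])
    obtain ⟨a, ha⟩ := (mem_coboundaries_iff _ (n - 1) (by omega)).1 ((CohomologyClass.toHom_mk_eq_zero_iff z).1 h0)
    exact ⟨a, ha⟩
  · let z' : Cocycle K' I n := Cocycle.mk y (n + 1) rfl hy
    obtain ⟨g, hg⟩ := (hb n).2 (CohomologyClass.toHom (CohomologyClass.mk z'))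
    obtain ⟨c, rfl⟩ := (CohomologyClass.toHom_bijective K I n).2 g
    obtain ⟨z, rfl⟩ := c.mk_surjective
    have hc : CohomologyClass.mk (z.precomp f) = CohomologyClass.mk z' :=
      (CohomologyClass.toHom_bijective K' I n).1 ((hnat z).trans hg)
    rw [← sub_eq_zero, ← CohomologyClass.mk_sub, CohomologyClass.mk_eq_zero_iff] at hc
    obtain ⟨b, hb⟩ := (mem_coboundaries_iff _ (n - 1) (by omega)).1 hc
    exact ⟨z.1, z.δ_eq_zero (n + 1), b, hb⟩

theorem cocycleHom_precomp {K K' : DRing.Cx A} (f : K' ⟶ K) (I : DRing.Cx A) (n : ℤ) (z : Cocycle K I n) :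
    GrothLib.DualRing.cocycleHom K' I n (z.precomp f) =
      DerivedCategory.Q.map f ≫ GrothLib.DualRing.cocycleHom K I n z := by
  rw [GrothLib.DualRing.cocycleHom, GrothLib.DualRing.cocycleHom, Cocycle.equivHomShift_symm_precomp,
    Functor.map_comp, Category.assoc]

/-- If precomposition is a quasi-isomorphism, it is bijective on morphisms in the derived category. -/
theorem bijective_precomp_of_quasiIso_homCxPre {K K' : DRing.Cx A} (f : K' ⟶ K) (I : DRing.Cx A) [I.IsKInjective]
    [QuasiIso (GrothLib.RH.homCxPre f I)] (n : ℤ) :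
    Function.Bijective fun g : DRing.toD K ⟶ (DRing.toD I)⟦n⟧ => DerivedCategory.Q.map f ≫ g := by
  refine ⟨fun a b hab => ?_, fun t => ?_⟩
  · obtain ⟨za, rfl⟩ := GrothLib.DualRing.cocycleHom_surjective K I n a
    obtain ⟨zb, rfl⟩ := GrothLib.DualRing.cocycleHom_surjective K I n b
    have hsub : GrothLib.DualRing.cocycleHom K I n (za - zb) =
        GrothLib.DualRing.cocycleHom K I n za - GrothLib.DualRing.cocycleHom K I n zb := by
      rw [GrothLib.DualRing.cocycleHom, map_sub, Functor.map_sub, Preadditive.sub_comp]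
      rfl
    have h0 : GrothLib.DualRing.cocycleHom K' I n ((za - zb).precomp f) = 0 := by
      rw [cocycleHom_precomp, hsub, Preadditive.comp_sub, sub_eq_zero]
      exact hab
    obtain ⟨w, hw⟩ := (mem_coboundaries_iff _ (n - 1) (by omega)).1
      ((GrothLib.DualRing.cocycleHom_eq_zero_iff K' I n _).1 h0)
    obtain ⟨c, hc⟩ := exists_boundary_of_quasiIso (GrothLib.RH.homCxPre f I) n (za - zb).1
      ((za - zb).δ_eq_zero (n + 1)) w hw
    have := (GrothLib.DualRing.cocycleHom_eq_zero_iff K I n (za - zb)).2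
      ((mem_coboundaries_iff _ (n - 1) (by omega)).2 ⟨c, hc⟩)
    rwa [hsub, sub_eq_zero] at this
  · obtain ⟨z, rfl⟩ := GrothLib.DualRing.cocycleHom_surjective K' I n t
    obtain ⟨x, hx, w, hw⟩ := exists_cycle_of_quasiIso (GrothLib.RH.homCxPre f I) n z.1 (z.δ_eq_zero (n + 1))
    refine ⟨GrothLib.DualRing.cocycleHom K I n (Cocycle.mk x (n + 1) rfl hx), ?_⟩
    change DerivedCategory.Q.map f ≫ _ = _
    rw [← cocycleHom_precomp, ← sub_eq_zero]
    have hsub : GrothLib.DualRing.cocycleHom K' I n ((Cocycle.mk x (n + 1) rfl hx).precomp f - z) =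
        GrothLib.DualRing.cocycleHom K' I n ((Cocycle.mk x (n + 1) rfl hx).precomp f) -
          GrothLib.DualRing.cocycleHom K' I n z := by
      rw [GrothLib.DualRing.cocycleHom, map_sub, Functor.map_sub, Preadditive.sub_comp]
      rfl
    rw [← hsub]
    exact (GrothLib.DualRing.cocycleHom_eq_zero_iff K' I n _).2
      ((mem_coboundaries_iff _ (n - 1) (by omega)).2 ⟨w, hw⟩)

end GrothLib.DualCx22
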