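import Groth.Agent.Lib.DualCx22.Coind

/-!
# Scalars and restriction in derived categories
-/

set_option autoImplicit false
set_option linter.style.haveILetI false
universe u

open CategoryTheory CategoryTheory.Limits CochainComplex CochainComplex.HomComplex HomologicalComplex

attribute [local instance] HasDerivedCategory.standard

namespace GrothLib.DualCx22

variable {A B : Type u} [CommRing A] [CommRing B] (φ : A →+* B)

theorem restrictD_map_smul_id (a : A) (X : Dual.D B) :
    (DRing.restrictD φ).map (φ a • 𝟙 X) = a • 𝟙 ((DRing.restrictD φ).obj X) := by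
  let e := DerivedCategory.Q.objObjPreimageIso X
  let P := DerivedCategory.Q.objPreimage X
  let F := (ModuleCat.restrictScalars.{u} φ).mapDerivedCategoryFactors
  let L := (ModuleCat.restrictScalars.{u} φ).mapHomologicalComplex (ComplexShape.up ℤ)
  have hL : L.map (φ a • 𝟙 P) = a • 𝟙 (L.obj P) :=
    HomologicalComplex.hom_ext _ _ fun n => ModuleCat.hom_ext (LinearMap.ext fun x => rfl)
  have hP : (DRing.restrictD φ).map (φ a • 𝟙 (DerivedCategory.Q.obj P)) =
      a • 𝟙 ((DRing.restrictD φ).obj (DerivedCategory.Q.obj P)) := by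
    have h1 : φ a • 𝟙 (DerivedCategory.Q.obj P) = DerivedCategory.Q.map (φ a • 𝟙 P) := by
      rw [Functor.map_smul, CategoryTheory.Functor.map_id]
    rw [h1]
    have hn := F.hom.naturality (φ a • 𝟙 P)
    refine (cancel_mono (F.hom.app P)).1 ?_
    refine hn.trans ?_
    change F.hom.app P ≫ DerivedCategory.Q.map (L.map (φ a • 𝟙 P)) = _
    rw [hL, Functor.map_smul, CategoryTheory.Functor.map_id, Linear.comp_smul, Linear.smul_comp]
    erw [Category.comp_id, Category.id_comp]
  have h : φ a • 𝟙 X = e.inv ≫ (φ a • 𝟙 (DerivedCategory.Q.obj P)) ≫ e.hom := by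
    rw [Linear.smul_comp, Category.id_comp, Linear.comp_smul, e.inv_hom_id]
  rw [h, Functor.map_comp, Functor.map_comp, hP, Linear.smul_comp, Category.id_comp, Linear.comp_smul,
    ← Functor.map_comp, e.inv_hom_id, CategoryTheory.Functor.map_id]

theorem restrictD_map_smul (a : A) {X Y : Dual.D B} (g : X ⟶ Y) :
    (DRing.restrictD φ).map (φ a • g) = a • (DRing.restrictD φ).map g := by
  have h : φ a • g = (φ a • 𝟙 X) ≫ g := by rw [Linear.smul_comp, Category.id_comp]
  rw [h, Functor.map_comp, restrictD_map_smul_id, Linear.smul_comp, Category.id_comp]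

theorem homEquivShift_smul {R : Dual.D A ⥤ Dual.D B} (adj : DRing.restrictD φ ⊣ R) (X : Dual.D B) (K : Dual.D A)
    (i : ℤ) (a : A) (f : X ⟶ (R.obj K)⟦i⟧) :
    homEquivShift φ adj X K i (φ a • f) = a • homEquivShift φ adj X K i f := by
  simp only [homEquivShift, Equiv.trans_apply, LinearEquiv.coe_toEquiv_symm, Iso.homFromEquiv_apply]
  have h1 : (homShiftLEquiv₀ X (R.obj K) (-i) i (by omega)).symm (φ a • f) =
      φ a • (homShiftLEquiv₀ X (R.obj K) (-i) i (by omega)).symm f := map_smul _ _ _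
  change homShiftLEquiv₀ _ _ _ _ _ (_ ≫ (adj.homEquiv _ _).symm ((homShiftLEquiv₀ X (R.obj K) (-i) i (by omega)).symm (φ a • f))) = _
  rw [h1, Adjunction.homEquiv_counit, restrictD_map_smul, Linear.smul_comp, Linear.comp_smul, map_smul]
  rfl

/-- The localized homomorphism modules of a quotient correspond. -/
theorem nontrivial_localized_rightAdjoint_iff (hs : Function.Surjective φ) {R : Dual.D A ⥤ Dual.D B}
    (adj : DRing.restrictD φ ⊣ R) (ω : Dual.D A) (q : PrimeSpectrum B) (i : ℤ) :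
    Nontrivial (LocalizedModule q.asIdeal.primeCompl (Dual.inD B (B ⧸ q.asIdeal) ⟶ (R.obj ω)⟦i⟧)) ↔
      Nontrivial (LocalizedModule (q.asIdeal.comap φ).primeCompl (Dual.inD A (A ⧸ q.asIdeal.comap φ) ⟶ ω⟦i⟧)) := by
  let g : A →ₗ[A] ((ModuleCat.restrictScalars.{u} φ).obj (ModuleCat.of B (B ⧸ q.asIdeal))) :=
    LinearMap.toSpanSingleton A ((ModuleCat.restrictScalars.{u} φ).obj (ModuleCat.of B (B ⧸ q.asIdeal)))
      (Ideal.Quotient.mk q.asIdeal 1)
  have hg : ∀ a, g a = Ideal.Quotient.mk q.asIdeal (φ a) := fun a => by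
    change φ a • (Ideal.Quotient.mk q.asIdeal 1) = _
    rw [Algebra.smul_def, map_one, mul_one]
    rfl
  have hk : q.asIdeal.comap φ = LinearMap.ker g := by
    ext a
    rw [LinearMap.mem_ker, hg, Ideal.mem_comap]
    exact (Ideal.Quotient.eq_zero_iff_mem).symm
  have hgs : Function.Surjective g := fun y => by
    obtain ⟨b, rfl⟩ := Ideal.Quotient.mk_surjective (I := q.asIdeal) y
    obtain ⟨a, rfl⟩ := hs b
    exact ⟨a, hg a⟩
  let eM := (Submodule.quotEquivOfEq _ _ hk).trans (LinearMap.quotKerEquivOfSurjective g hgs)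
  obtain ⟨e⟩ := nonempty_restrictD_inD φ (B ⧸ q.asIdeal)
  let Ψ : (Dual.inD B (B ⧸ q.asIdeal) ⟶ (R.obj ω)⟦i⟧) ≃ (Dual.inD A (A ⧸ q.asIdeal.comap φ) ⟶ ω⟦i⟧) :=
    (homEquivShift φ adj _ ω i).trans (Linear.homCongr A
      (e ≪≫ ((DerivedCategory.singleFunctor (ModuleCat.{u} A) 0).mapIso eM.toModuleIso).symm) (Iso.refl _)).toEquiv
  have hΨ : ∀ (a : A) f, Ψ (φ a • f) = a • Ψ f := fun a f => by
    simp only [Ψ, Equiv.trans_apply, LinearEquiv.coe_toEquiv]
    rw [homEquivShift_smul, map_smul]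
  rw [← not_subsingleton_iff_nontrivial, ← not_subsingleton_iff_nontrivial, not_iff_not,
    LocalizedModule.subsingleton_iff, LocalizedModule.subsingleton_iff]
  have h0 : Ψ 0 = 0 := by
    have h := hΨ 0 0
    rwa [map_zero, zero_smul, zero_smul] at h
  constructor
  · intro h t
    obtain ⟨s, hsq, hz⟩ := h (Ψ.symm t)
    obtain ⟨a, rfl⟩ := hs s
    refine ⟨a, hsq, ?_⟩
    rw [← Ψ.apply_symm_apply t, ← hΨ, hz, h0]
  · intro h f
    obtain ⟨a, ha, hz⟩ := h (Ψ f)
    exact ⟨φ a, ha, Ψ.injective (by rw [hΨ, hz, h0])⟩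

end GrothLib.DualCx22
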