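import Groth.Agent.Lib.DCxRing.FromSingle
import Groth.Agent.Lib.DerCat.HomologyDevissage
import Groth.Agent.Lib.DCxRing.DComplete.HomProj
import Mathlib.Algebra.Homology.DerivedCategory.Linear
import Mathlib.Algebra.Homology.DerivedCategory.SingleTriangle
import Mathlib.RingTheory.Noetherian.Basic

/-!
# Finiteness of morphism modules into complexes of finite injective dimension

Over a Noetherian ring, `Hom(K, L⟦i⟧)` is finite when the cohomology of `K` and `L` is finite and `L` has finite
injective dimension.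
-/

set_option autoImplicit false
set_option linter.style.haveILetI false
universe u

open CategoryTheory CategoryTheory.Limits CategoryTheory.Pretriangulated DerivedCategory

attribute [local instance] HasDerivedCategory.standard

namespace GrothLib.DualCx22

variable {A : Type u} [CommRing A]

local notation "𝒟" => Dual.D A

/-- A shift on the source moves to the target. -/
noncomputable def homShiftLEquiv (X Y : 𝒟) (m j i : ℤ) (h : i + m = j) :
    (X⟦m⟧ ⟶ Y⟦j⟧) ≃ₗ[A] (X ⟶ Y⟦i⟧) :=
  (Linear.homCongr A (Iso.refl (X⟦m⟧)) ((shiftFunctorAdd' 𝒟 i m j h).app Y)).trans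
    (LinearEquiv.ofBijective (Functor.mapLinearMap A (shiftFunctor 𝒟 m) (X := X) (Y := Y⟦i⟧))
      ⟨(shiftFunctor 𝒟 m).map_injective, (shiftFunctor 𝒟 m).map_surjective⟩).symm

/-- A shift on the source moves to the target, unshifted target. -/
noncomputable def homShiftLEquiv₀ (X Y : 𝒟) (m i : ℤ) (h : i + m = 0) :
    (X⟦m⟧ ⟶ Y) ≃ₗ[A] (X ⟶ Y⟦i⟧) :=
  (Linear.homCongr A (Iso.refl (X⟦m⟧)) ((shiftFunctorZero 𝒟 ℤ).app Y).symm).trans (homShiftLEquiv X Y m 0 i h)

/-- Finiteness at the middle of an exact sequence of morphism modules. -/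
theorem finite_hom_obj₂ [IsNoetherianRing A] (T : Triangle 𝒟) (hT : T ∈ distTriang _) (Y : 𝒟)
    (h₁ : Module.Finite A (T.obj₁ ⟶ Y)) (h₃ : Module.Finite A (T.obj₃ ⟶ Y)) :
    Module.Finite A (T.obj₂ ⟶ Y) := by
  let l : (T.obj₂ ⟶ Y) →ₗ[A] (T.obj₁ ⟶ Y) := Linear.leftComp A Y T.mor₁
  let r : (T.obj₃ ⟶ Y) →ₗ[A] (T.obj₂ ⟶ Y) := Linear.leftComp A Y T.mor₂
  have hk : LinearMap.ker l ≤ LinearMap.range r := fun f hf => by
    obtain ⟨g, hg⟩ := T.yoneda_exact₂ hT f hf
    exact ⟨g, hg.symm⟩
  haveI : IsNoetherian A (LinearMap.range r) := inferInstance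
  haveI : Module.Finite A (LinearMap.ker l) :=
    Module.Finite.of_injective (Submodule.inclusion hk) (Submodule.inclusion_injective hk)
  haveI : Module.Finite A (LinearMap.range l) := inferInstance
  haveI : Module.Finite A ((T.obj₂ ⟶ Y) ⧸ LinearMap.ker l) := Module.Finite.equiv l.quotKerEquivRange.symm
  exact Module.Finite.of_submodule_quotient (LinearMap.ker l)

/-- The effect on `H⁰` of maps out of a free module, linearly. -/
noncomputable def homHnLin (P : ModuleCat.{u} A) (K : 𝒟) (n : ℤ) :
    ((DerivedCategory.singleFunctor (ModuleCat.{u} A) 0).obj P ⟶ K⟦n⟧) →ₗ[A] (P →ₗ[A] Dual.HD A K n) where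
  toFun ξ := (DCpl.homHn P K n ξ).hom
  map_add' ξ η := by
    rw [← ModuleCat.hom_add]
    congr 1
    simp only [DCpl.homHn, DCpl.homH0_add, Preadditive.add_comp]
  map_smul' a ξ := by
    have e : a • ξ = (DerivedCategory.singleFunctor (ModuleCat.{u} A) 0).map (a • 𝟙 P) ≫ ξ := by
      rw [Functor.map_smul, CategoryTheory.Functor.map_id, Linear.smul_comp, Category.id_comp]
    rw [RingHom.id_apply, ← ModuleCat.hom_smul, e, DCpl.homHn_precomp, Linear.smul_comp, Category.id_comp]

theorem homHnLin_injective (P : ModuleCat.{u} A) [Projective P] (K : 𝒟) (n : ℤ) :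
    Function.Injective (homHnLin P K n) := fun _ _ h =>
  (DCpl.homHn_bijective P K n).1 (ModuleCat.hom_ext h)

variable [IsNoetherianRing A]

/-- Maps out of a finite free module. -/
theorem finite_hom_free (r : ℕ) (K : 𝒟) (n : ℤ) (hK : Module.Finite A (Dual.HD A K n)) :
    Module.Finite A ((DerivedCategory.singleFunctor (ModuleCat.{u} A) 0).obj (ModuleCat.of A (Fin r → A)) ⟶ K⟦n⟧) := by
  haveI : Projective (ModuleCat.of A (Fin r → A)) :=
    (IsProjective.iff_projective (R := A) (Fin r → A)).1 inferInstance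
  haveI := hK
  haveI : Module.Finite A ((Fin r → A) →ₗ[A] Dual.HD A K n) := inferInstance
  exact Module.Finite.of_injective (homHnLin (ModuleCat.of A (Fin r → A)) K n) (homHnLin_injective _ K n)

/-- Maps from finite modules into a bounded below complex with finite cohomology. -/
theorem finite_hom_inD (L : 𝒟) (hL : ∀ i, Module.Finite A (Dual.HD A L i)) (a : ℤ)
    (ha : ∀ (M : Type u) [AddCommGroup M] [Module A M] (i : ℤ), i < a → Subsingleton (Dual.inD A M ⟶ L⟦i⟧)) :
    ∀ (k : ℕ) (M : Type u) [AddCommGroup M] [Module A M] [Module.Finite A M] (i : ℤ),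
      i < a + k → Module.Finite A (Dual.inD A M ⟶ L⟦i⟧) := by
  intro k
  induction k with
  | zero =>
    intro M _ _ _ i hi
    haveI := ha M i (by simpa using hi)
    exact Module.Finite.of_finite
  | succ k ih =>
    intro M _ _ _ i hi
    obtain ⟨r, p, hp⟩ := Module.Finite.exists_fin' A M
    let S : ShortComplex (ModuleCat.{u} A) := ShortComplex.mk (ModuleCat.ofHom (LinearMap.ker p).subtype)
      (ModuleCat.ofHom p) (ModuleCat.hom_ext (LinearMap.ext fun x => x.2))
    have hS : S.ShortExact := by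
      haveI : Mono S.f := (ModuleCat.mono_iff_injective _).2 (Submodule.subtype_injective _)
      haveI : Epi S.g := (ModuleCat.epi_iff_surjective _).2 hp
      exact ShortComplex.ShortExact.mk' (ShortComplex.Exact.moduleCat_of_range_eq_ker _ _
        (by simp [S])) inferInstance inferInstance
    let T := hS.singleTriangle.rotate
    have hT : T ∈ distTriang _ := rot_of_distTriang _ hS.singleTriangle_distinguished
    refine finite_hom_obj₂ T hT (L⟦i⟧) (finite_hom_free r L i (hL i)) ?_
    haveI := ih (LinearMap.ker p) (i - 1) (by push_cast at hi; omega)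
    exact Module.Finite.equiv (homShiftLEquiv (Dual.inD A (LinearMap.ker p)) L 1 i (i - 1) (by omega)).symm

omit [IsNoetherianRing A] in
/-- No maps from objects far below. -/
theorem subsingleton_hom_of_isLE (L : 𝒟) (a : ℤ) [L.IsGE a] (X : 𝒟) (m i : ℤ) [X.IsLE m] (h : m + i < a) :
    Subsingleton (X ⟶ L⟦i⟧) := by
  haveI : (X⟦-i⟧).IsLE (m + i) := TStructure.t.isLE_shift X m (-i) (m + i) (by omega)
  haveI : Subsingleton (X⟦-i⟧ ⟶ L) := ⟨fun f g => by
    rw [TStructure.t.zero_of_isLE_of_isGE f (m + i) a h inferInstance inferInstance,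
      TStructure.t.zero_of_isLE_of_isGE g (m + i) a h inferInstance inferInstance]⟩
  exact (homShiftLEquiv₀ X L (-i) i (by omega)).toEquiv.symm.subsingleton

omit [IsNoetherianRing A] in
/-- No maps from objects far above into a bounded complex of injectives. -/
theorem subsingleton_hom_of_isGE (L : 𝒟) (a b : ℤ) (hL : DRing.HasInjAmplitudeIn A a b L) (X : 𝒟) (m i : ℤ)
    [X.IsGE m] (h : b < m + i) : Subsingleton (X ⟶ L⟦i⟧) := by
  obtain ⟨E, hv, hE, ⟨e⟩⟩ := hL
  haveI := DR.isKInjective_of_termwiseInjective (fun j hj => hv j (Or.inl hj)) hE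
  haveI : (X⟦-i⟧).IsGE (m + i) := TStructure.t.isGE_shift X m (-i) (m + i) (by omega)
  obtain ⟨Y, hY, ⟨eY⟩⟩ := DerivedCategory.exists_iso_Q_obj_of_isGE (X⟦-i⟧) (m + i)
  haveI : Subsingleton (DRing.toD Y ⟶ DRing.toD E) := ⟨fun f g => by
    have hz : ∀ φ : Y ⟶ E, φ = 0 := fun φ => by
      ext j : 1
      by_cases hj : j < m + i
      · exact (Y.isZero_of_isStrictlyGE (m + i) j hj).eq_of_src _ _
      · exact (hv j (Or.inr (by omega))).eq_of_tgt _ _
    obtain ⟨f, rfl⟩ := DR.exists_lift_inj f
    obtain ⟨g, rfl⟩ := DR.exists_lift_inj g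
    rw [hz f, hz g]⟩
  haveI : Subsingleton (X⟦-i⟧ ⟶ L) :=
    (Linear.homCongr A eY.symm e).toEquiv.symm.subsingleton
  exact (homShiftLEquiv₀ X L (-i) i (by omega)).toEquiv.symm.subsingleton

/-- **Finiteness of `Hom(K, L⟦i⟧)`.** -/
theorem finite_hom (K L : 𝒟) (hK : ∀ i, Module.Finite A (Dual.HD A K i))
    (hL : ∀ i, Module.Finite A (Dual.HD A L i)) (hLi : DRing.HasFiniteInjDim A L) (i : ℤ) :
    Module.Finite A (K ⟶ L⟦i⟧) := by
  obtain ⟨a, b, hab⟩ := hLi
  haveI : L.IsGE a := by
    rw [DerivedCategory.isGE_iff]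
    intro j hj
    exact (DR.subsingleton_iff_isZero _).1
      (DR.subsingleton_HD_of_hom_ring L j (DR.subsingleton_ext_of_injAmp hab A j (Or.inl hj)))
  have hM : ∀ (M : Type u) [AddCommGroup M] [Module A M] [Module.Finite A M] (j : ℤ),
      Module.Finite A (Dual.inD A M ⟶ L⟦j⟧) := fun M _ _ _ j =>
    finite_hom_inD L hL a (fun N _ _ q hq => DR.subsingleton_ext_of_injAmp hab N q (Or.inl hq))
      (j - a + 1).toNat M j (by omega)
  let c : ℤ := a - i
  let U : 𝒟 := ((TStructure.t (C := ModuleCat.{u} A)).truncGE c).obj K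
  let d : ℤ := max (b - i + 1) c
  let V : 𝒟 := ((TStructure.t (C := ModuleCat.{u} A)).truncLT d).obj U
  have hV : ∀ j : ℤ, Module.Finite A (V ⟶ L⟦j⟧) := by
    haveI : V.IsGE c := inferInstanceAs (TStructure.t.IsGE ((TStructure.t.truncLT d).obj U) c)
    haveI : V.IsLE (c + (d - c).toNat - 1) :=
      TStructure.t.isLE_of_le V (d - 1) _ (by omega)
    refine DerTrunc.prop_of_homology_zero (fun X : 𝒟 => ∀ j : ℤ, Module.Finite A (X ⟶ L⟦j⟧)) ?_ ?_ ?_ ?_
      (d - c).toNat V c inferInstance inferInstance ?_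
    · intro X Y e hX j
      haveI := hX j
      exact Module.Finite.equiv (Linear.homCongr A e (Iso.refl _))
    · intro X hX j
      haveI : Subsingleton (X ⟶ L⟦j⟧) := ⟨hX.eq_of_src⟩
      exact Module.Finite.of_finite
    · intro X n hX j
      haveI := hX (j - n)
      exact Module.Finite.equiv (homShiftLEquiv X L n j (j - n) (by omega)).symm
    · exact fun T hT h₁ h₃ j => finite_hom_obj₂ T hT _ (h₁ j) (h₃ j)
    · intro q j
      suffices Module.Finite A (Dual.HD A V q) from hM (Dual.HD A V q) j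
      by_cases hq : c ≤ q ∧ q < d
      · haveI := DerTrunc.isIso_homology_truncLTι U d q hq.2
        haveI := DerTrunc.isIso_homology_truncGEπ K c q hq.1
        haveI : Module.Finite A ((homologyFunctor (ModuleCat.{u} A) q).obj ((𝟭 𝒟).obj K)) := hK q
        exact Module.Finite.equiv
          ((asIso ((homologyFunctor (ModuleCat.{u} A) q).map ((TStructure.t.truncLTι d).app U))) ≪≫
            (asIso ((homologyFunctor (ModuleCat.{u} A) q).map ((TStructure.t.truncGEπ c).app K))).symm
            ).toLinearEquiv.symm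
      · haveI : Subsingleton (Dual.HD A V q) := (DR.subsingleton_iff_isZero _).2 (by
          rcases not_and_or.1 hq with h | h
          · exact DerivedCategory.isZero_of_isGE V c q (by omega)
          · exact DerTrunc.isZero_homology_truncLT U d q (by omega))
        exact Module.Finite.of_finite
  have hU : Module.Finite A (U ⟶ L⟦i⟧) := by
    refine finite_hom_obj₂ ((TStructure.t.triangleLTGE d).obj U) (TStructure.t.triangleLTGE_distinguished _ _) _
      (hV i) ?_
    haveI : ((TStructure.t.truncGE d).obj U).IsGE d :=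
      inferInstanceAs (TStructure.t.IsGE ((TStructure.t.truncGE d).obj U) d)
    haveI := subsingleton_hom_of_isGE L a b hab ((TStructure.t.truncGE d).obj U) d i (by omega)
    change Module.Finite A ((TStructure.t.truncGE d).obj U ⟶ L⟦i⟧)
    exact Module.Finite.of_finite
  refine finite_hom_obj₂ ((TStructure.t.triangleLTGE c).obj K) (TStructure.t.triangleLTGE_distinguished _ _) _
    ?_ hU
  haveI : ((TStructure.t.truncLT c).obj K).IsLE (c - 1) :=
    inferInstanceAs (TStructure.t.IsLE ((TStructure.t.truncLT c).obj K) (c - 1))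
  haveI := subsingleton_hom_of_isLE L a ((TStructure.t.truncLT c).obj K) (c - 1) i (by omega)
  change Module.Finite A ((TStructure.t.truncLT c).obj K ⟶ L⟦i⟧)
  exact Module.Finite.of_finite

end GrothLib.DualCx22
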