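import Groth.Agent.Lib.DualCx22.Bidual
import Groth.Agent.Lib.DualCx22.HomFinite

/-!
# Representatives of dualizing complexes and the duality on complexes with finite cohomology
-/

set_option autoImplicit false
set_option linter.style.haveILetI false
universe u

open CategoryTheory CategoryTheory.Limits CochainComplex CochainComplex.HomComplex

attribute [local instance] HasDerivedCategory.standard

namespace GrothLib.DualCx22

variable {A : Type u} [CommRing A]

/-- A bounded complex of injectives representing a dualizing complex, with all biduality data. -/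
structure InjRep (ω : Dual.D A) where
  /-- the complex -/
  I : DRing.Cx A
  a : ℤ
  b : ℤ
  le : a ≤ b
  vanish : ∀ t, (t < a ∨ b < t) → IsZero (I.X t)
  inj : ∀ t, Injective (I.X t)
  kInj : I.IsKInjective
  /-- the identification -/
  iso : DRing.toD I ≅ ω
  unit : QuasiIso (GrothLib.DualRing.unitMap I)

theorem nonempty_injRep {ω : Dual.D A} (hω : Dual.IsDualizing A ω) : Nonempty (InjRep ω) := by
  obtain ⟨a, b, hab⟩ := hω.finite_injective_dimension
  obtain ⟨E, hv, hE, ⟨e⟩⟩ := GrothLib.DR.hasInjAmplitudeIn_of_cyclic ω a b fun J i hi => hab (A ⧸ J) i hi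
  haveI := GrothLib.DR.isKInjective_of_termwiseInjective (fun j hj => hv j (Or.inl hj)) hE
  refine ⟨⟨E, a, max a b, le_max_left a b, fun t ht => hv t ?_, fun t => (Module.injective_iff_injective_object A (E.X t)).1 (hE t), inferInstance, e, ?_⟩⟩
  · rcases ht with h | h
    · exact Or.inl h
    · exact Or.inr (lt_of_le_of_lt (le_max_right a b) h)
  refine GrothLib.DualRing.quasiIso_unitMap E ?_ fun n hn => ?_
  · have h : (fun x : A => x • 𝟙 (DRing.toD E)) =
        (Linear.homCongr A e.symm e.symm) ∘ fun x : A => x • 𝟙 ω := by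
      funext x
      simp [Linear.homCongr_apply]
    rw [h]
    exact (Linear.homCongr A e.symm e.symm).bijective.comp hω.toEnd_bijective
  · haveI := hω.ext_self_subsingleton n hn
    exact (Linear.homCongr A e ((CategoryTheory.shiftFunctor (Dual.D A) n).mapIso e)).toEquiv.subsingleton

namespace InjRep

variable {ω : Dual.D A} (r : InjRep ω)

/-- The dual `RHom(K, ω)` of a complex. -/
noncomputable abbrev dual (K : DRing.Cx A) : DRing.Cx A := DRing.homCx K r.I

include r in
theorem nonempty_rHom_iso (K : DRing.Cx A) [DRing.HasRHomCx K] :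
    Nonempty ((DRing.RHomCx K).obj ω ≅ DRing.toD (r.dual K)) := by
  haveI := r.kInj
  exact ⟨(DRing.RHomCx K).mapIso r.iso.symm ≪≫ (GrothLib.RH.rHom_value K r.I).some⟩

/-- The cohomology of the dual. -/
theorem nonempty_HD_dual (K : DRing.Cx A) (i : ℤ) :
    Nonempty (Dual.HD A (DRing.toD (r.dual K)) i ≃ₗ[A] (DRing.toD K ⟶ ω⟦i⟧)) := by
  haveI := r.kInj
  exact ⟨(GrothLib.DualRing.exists_HD_homCx_equiv K r.I i).some.trans
    (Linear.homCongr A (Iso.refl _) ((CategoryTheory.shiftFunctor (Dual.D A) i).mapIso r.iso))⟩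

/-- The dual only depends on the object of the derived category. -/
theorem nonempty_dual_congr {K L : DRing.Cx A} (e : DRing.toD K ≅ DRing.toD L) :
    Nonempty (DRing.toD (r.dual L) ≅ DRing.toD (r.dual K)) := by
  haveI := r.kInj
  obtain ⟨K', s, hs, g, hg⟩ := DerivedCategory.right_fac e.hom
  haveI := hs
  haveI : IsIso (DerivedCategory.Q.map g) := by
    have : DerivedCategory.Q.map g = DerivedCategory.Q.map s ≫ e.hom := by rw [hg, IsIso.hom_inv_id_assoc]
    rw [this]
    infer_instance
  haveI := (DerivedCategory.isIso_Q_map_iff_quasiIso (C := ModuleCat.{u} A) s).1 hs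
  haveI := (DerivedCategory.isIso_Q_map_iff_quasiIso (C := ModuleCat.{u} A) g).1 inferInstance
  haveI := GrothLib.RH.quasiIso_homCxPre s r.I
  haveI := GrothLib.RH.quasiIso_homCxPre g r.I
  haveI := GrothLib.RH.quasiIso_Q (GrothLib.RH.homCxPre s r.I)
  haveI := GrothLib.RH.quasiIso_Q (GrothLib.RH.homCxPre g r.I)
  exact ⟨asIso (DerivedCategory.Q.map (GrothLib.RH.homCxPre g r.I)) ≪≫
    (asIso (DerivedCategory.Q.map (GrothLib.RH.homCxPre s r.I))).symm⟩

variable [IsNoetherianRing A]

/-- **Biduality.** -/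
theorem nonempty_bidual (K : DRing.Cx A) (hK : ∀ i, Module.Finite A (Dual.HD A (DRing.toD K) i)) :
    Nonempty (DRing.toD K ≅ DRing.toD (r.dual (r.dual K))) := by
  haveI := r.kInj
  haveI : QuasiIso (evI r.I K) := isBidual_of_finite r.I r.vanish r.inj r.unit r.le K hK
  haveI := GrothLib.RH.quasiIso_Q (evI r.I K)
  exact ⟨asIso (DerivedCategory.Q.map (evI r.I K))⟩

/-- **Biduality on morphism modules.** -/
theorem nonempty_hom_dual (K : DRing.Cx A) (hK : ∀ i, Module.Finite A (Dual.HD A (DRing.toD K) i)) (i : ℤ) :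
    Nonempty ((DRing.toD (r.dual K) ⟶ ω⟦i⟧) ≃ₗ[A] Dual.HD A (DRing.toD K) i) := by
  obtain ⟨e⟩ := r.nonempty_bidual K hK
  obtain ⟨e'⟩ := r.nonempty_HD_dual (r.dual K) i
  exact ⟨e'.symm.trans ((DerivedCategory.homologyFunctor (ModuleCat.{u} A) i).mapIso e.symm).toLinearEquiv⟩

end InjRep

end GrothLib.DualCx22
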