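import Groth.Agent.Lib.DualCx22.FlatHomCore
import Groth.Agent.Lib.DualCx22.HomFinite
import Groth.Agent.Lib.DerCat.MapAdj
import Groth.Agent.S12898
import Mathlib.RingTheory.Flat.FaithfullyFlat.Basic

/-!
# Flat base change of morphisms out of bounded above objects with finite cohomology
-/

set_option autoImplicit false
set_option linter.style.haveILetI false
universe u

open CategoryTheory CategoryTheory.Limits CategoryTheory.Pretriangulated DerivedCategory TensorProduct

attribute [local instance] HasDerivedCategory.standard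

namespace GrothLib.DualCx22

variable {A : Type u} [CommRing A] (B : Type u) [CommRing B] [Algebra A B]
  [PreservesFiniteLimits (bcMod (A := A) B)]

/-- Derived base change of a shift. -/
noncomputable abbrev shiftBc (X : Dual.D A) (n : ℤ) : (bcD B).obj (X⟦n⟧) ≅ ((bcD B).obj X)⟦n⟧ :=
  ((bcD (A := A) B).commShiftIso n).app X

theorem isBC_shift {X Y : Dual.D A} (n : ℤ) (h : IsBC B X Y) : IsBC B (X⟦n⟧) (Y⟦n⟧) := by
  let sA : (X ⟶ Y) ≃ₗ[A] (X⟦n⟧ ⟶ Y⟦n⟧) :=
    LinearEquiv.ofBijective (Functor.mapLinearMap A (shiftFunctor (Dual.D A) n) (X := X) (Y := Y))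
      ⟨(shiftFunctor (Dual.D A) n).map_injective, (shiftFunctor (Dual.D A) n).map_surjective⟩
  let E : ((bcD B).obj X ⟶ (bcD B).obj Y) ≃ ((bcD B).obj (X⟦n⟧) ⟶ (bcD B).obj (Y⟦n⟧)) :=
    ((Functor.FullyFaithful.ofFullyFaithful (shiftFunctor (Dual.D B) n)).homEquiv).trans
      ((shiftBc B X n).symm.homCongr (shiftBc B Y n).symm)
  have key : ∀ z, θ B (X⟦n⟧) (Y⟦n⟧) (sA.toLinearMap.lTensor B z) = E (θ B X Y z) := by
    intro z
    induction z using TensorProduct.induction_on with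
    | zero =>
      simp only [map_zero]
      simp [E, Iso.homCongr, Functor.FullyFaithful.homEquiv]
    | tmul b f =>
      rw [LinearMap.lTensor_tmul, θ_tmul, θ_tmul]
      have hn := (bcD (A := A) B).commShiftIso_hom_naturality f n
      simp only [E, Iso.homCongr, Equiv.trans_apply, Functor.FullyFaithful.homEquiv, Equiv.coe_fn_mk,
        Functor.map_smul, Linear.smul_comp, Linear.comp_smul, Iso.symm_inv, Iso.symm_hom]
      congr 1
      change (bcD B).map (f⟦n⟧') = (shiftBc B X n).hom ≫ ((bcD B).map f)⟦n⟧' ≫ (shiftBc B Y n).inv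
      rw [← Category.assoc, Iso.eq_comp_inv]
      exact hn
    | add x y hx hy =>
      rw [map_add, map_add, map_add, hx, hy]
      simp [E, Iso.homCongr, Functor.FullyFaithful.homEquiv, Preadditive.add_comp, Preadditive.comp_add]
  have hl : Function.Bijective (sA.toLinearMap.lTensor B) := (LinearEquiv.lTensor B sA).bijective
  have hc : Function.Bijective (θ B (X⟦n⟧) (Y⟦n⟧) ∘ sA.toLinearMap.lTensor B) := by
    rw [show θ B (X⟦n⟧) (Y⟦n⟧) ∘ sA.toLinearMap.lTensor B = E ∘ θ B X Y from funext key]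
    exact E.bijective.comp h
  refine ⟨fun a b hab => ?_, fun t => ?_⟩
  · obtain ⟨a, rfl⟩ := hl.2 a
    obtain ⟨b, rfl⟩ := hl.2 b
    rw [hc.1 hab]
  · obtain ⟨z, hz⟩ := hc.2 t
    exact ⟨_, hz⟩

theorem isBC_shift_all {X L : Dual.D A} (h : ∀ i : ℤ, IsBC B X (L⟦i⟧)) (n i : ℤ) : IsBC B (X⟦n⟧) (L⟦i⟧) :=
  isBC_of_iso B (Iso.refl _) ((shiftFunctorAdd' (Dual.D A) (i - n) n i (sub_add_cancel i n)).app L).symm
    (isBC_shift B n (h (i - n)))

theorem isGE_bcD (L : Dual.D A) (a : ℤ) [L.IsGE a] : ((bcD B).obj L).IsGE a :=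
  DerTrunc.isGE_mapDerivedCategory _ L a

theorem isLE_bcD (L : Dual.D A) (a : ℤ) [L.IsLE a] : ((bcD B).obj L).IsLE a :=
  DerTrunc.isLE_mapDerivedCategory _ L a

theorem isBC_of_isLE {X L : Dual.D A} (a m i : ℤ) [L.IsGE a] [X.IsLE m] (h : m + i < a) :
    IsBC B X (L⟦i⟧) := by
  haveI := isGE_bcD B L a
  haveI := isLE_bcD B X m
  haveI := subsingleton_hom_of_isLE ((bcD B).obj L) a ((bcD B).obj X) m i h
  exact isBC_of_subsingleton B _ _ (subsingleton_hom_of_isLE L a X m i h)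
    ((shiftBc B L i).homToEquiv (Z := (bcD B).obj X)).subsingleton

variable [IsNoetherianRing A] [Module.Flat A B]

/-- Finite modules. -/
theorem isBC_inD (L : Dual.D A) (a : ℤ) [L.IsGE a] : ∀ (k : ℕ) (M : Type u) [AddCommGroup M] [Module A M]
    [Module.Finite A M] (i : ℤ), i < a + k → IsBC B (Dual.inD A M) (L⟦i⟧) := by
  intro k
  induction k with
  | zero =>
    intro M _ _ _ i hi
    haveI : (Dual.inD A M).IsLE 0 := inferInstance
    exact isBC_of_isLE B a 0 i (by omega)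
  | succ k ih =>
    have tri : ∀ (M : Type u) [AddCommGroup M] [Module A M] [Module.Finite A M], ∃ (r : ℕ) (N : Submodule A (Fin r → A))
        (T : Triangle (Dual.D A)), T ∈ distTriang _ ∧ Nonempty (Dual.inD A (Fin r → A) ≅ T.obj₁) ∧
          Nonempty (Dual.inD A M ≅ T.obj₂) ∧ Nonempty ((Dual.inD A N)⟦(1 : ℤ)⟧ ≅ T.obj₃) := by
      intro M _ _ _
      obtain ⟨r, p, hp⟩ := Module.Finite.exists_fin' A M
      let S : ShortComplex (ModuleCat.{u} A) := ShortComplex.mk (ModuleCat.ofHom (LinearMap.ker p).subtype)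
        (ModuleCat.ofHom p) (ModuleCat.hom_ext (LinearMap.ext fun x => x.2))
      have hS : S.ShortExact := by
        haveI : Mono S.f := (ModuleCat.mono_iff_injective _).2 (Submodule.subtype_injective _)
        haveI : Epi S.g := (ModuleCat.epi_iff_surjective _).2 hp
        exact ShortComplex.ShortExact.mk' (ShortComplex.Exact.moduleCat_of_range_eq_ker _ _
          (by simp [S])) inferInstance inferInstance
      exact ⟨r, LinearMap.ker p, hS.singleTriangle.rotate, rot_of_distTriang _ hS.singleTriangle_distinguished,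
        ⟨Iso.refl _⟩, ⟨Iso.refl _⟩, ⟨Iso.refl _⟩⟩
    have hfree : ∀ (r : ℕ) (n j : ℤ), IsBC B ((Dual.inD A (Fin r → A))⟦n⟧) (L⟦j⟧) := fun r n j =>
      isBC_shift_all B (fun j => isBC_free B r (L⟦j⟧)) n j
    have hinj : ∀ (M : Type u) [AddCommGroup M] [Module A M] [Module.Finite A M] (i : ℤ),
        i < a + (k + 1 : ℕ) → Function.Injective (θ B (Dual.inD A M) (L⟦i⟧)) ∧ ∀ (T : Triangle (Dual.D A)),
          Nonempty ((Dual.inD A M)⟦(1 : ℤ)⟧ ≅ T.obj₃) → IsBC B T.obj₃ (L⟦(i : ℤ)⟧) := by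
      intro M _ _ _ i hi
      have h3 : ∀ (N : Type u) [AddCommGroup N] [Module A N] [Module.Finite A N],
          IsBC B ((Dual.inD A N)⟦(1 : ℤ)⟧) (L⟦i⟧) := fun N _ _ _ =>
        isBC_of_iso B (Iso.refl _) ((shiftFunctorAdd' (Dual.D A) (i - 1) 1 i (sub_add_cancel i 1)).app L).symm
          (isBC_shift B 1 (ih N (i - 1) (by push_cast at hi; omega)))
      refine ⟨?_, fun T ⟨e⟩ => isBC_of_iso B e (Iso.refl _) (h3 M)⟩
      obtain ⟨r, N, T, hT, ⟨e₁⟩, ⟨e₂⟩, ⟨e₃⟩⟩ := tri M
      have h1 : IsBC B T.obj₁ (L⟦i⟧) :=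
        isBC_of_iso B (((shiftFunctorZero (Dual.D A) ℤ).app _) ≪≫ e₁) (Iso.refl _) (hfree r 0 i)
      have h1' : IsBC B (T.obj₁⟦(1 : ℤ)⟧) (L⟦i⟧) :=
        isBC_of_iso B ((shiftFunctor (Dual.D A) (1 : ℤ)).mapIso e₁) (Iso.refl _) (hfree r 1 i)
      have := injective_obj₂ B T hT (L⟦i⟧) h1.1 (isBC_of_iso B e₃ (Iso.refl _) (h3 N)).1 h1'.2
      let E : ((bcD B).obj T.obj₂ ⟶ (bcD B).obj (L⟦i⟧)) → ((bcD B).obj (Dual.inD A M) ⟶ (bcD B).obj (L⟦i⟧)) :=
        fun f => (bcD B).map e₂.hom ≫ f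
      rw [injective_iff_map_eq_zero] at this ⊢
      intro z hz
      have hz' : z = (Linear.leftComp A (L⟦i⟧) e₂.hom).lTensor B ((Linear.leftComp A (L⟦i⟧) e₂.inv).lTensor B z) := by
        rw [← LinearMap.comp_apply, ← LinearMap.lTensor_comp]
        have : (Linear.leftComp A (L⟦i⟧) e₂.hom).comp (Linear.leftComp A (L⟦i⟧) e₂.inv) = LinearMap.id := by
          ext f
          exact e₂.hom_inv_id_assoc f
        rw [this, LinearMap.lTensor_id, LinearMap.id_apply]
      have h0 := this ((Linear.leftComp A (L⟦i⟧) e₂.inv).lTensor B z) (by rw [θ_precomp, hz, comp_zero])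
      rw [hz', h0, map_zero]
    intro M _ _ _ i hi
    refine ⟨(hinj M i hi).1, ?_⟩
    obtain ⟨r, N, T, hT, ⟨e₁⟩, ⟨e₂⟩, ⟨e₃⟩⟩ := tri M
    have h1 : IsBC B T.obj₁ (L⟦i⟧) :=
      isBC_of_iso B (((shiftFunctorZero (Dual.D A) ℤ).app _) ≪≫ e₁) (Iso.refl _) (hfree r 0 i)
    have h3 : IsBC B T.obj₃ (L⟦i⟧) := (hinj N i hi).2 T ⟨e₃⟩
    have h3' : Function.Injective (θ B (T.obj₃⟦(-1 : ℤ)⟧) (L⟦i⟧)) := by
      have e : Dual.inD A N ≅ T.obj₃⟦(-1 : ℤ)⟧ :=
        ((shiftFunctorCompIsoId (Dual.D A) (1 : ℤ) (-1) (by omega)).app _).symm ≪≫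
          (shiftFunctor (Dual.D A) (-1 : ℤ)).mapIso e₃
      intro x y hxy
      have hinjN := (hinj N i hi).1
      have hl : ∀ z, θ B (Dual.inD A N) (L⟦i⟧) ((Linear.leftComp A (L⟦i⟧) e.hom).lTensor B z) =
          (bcD B).map e.hom ≫ θ B (T.obj₃⟦(-1 : ℤ)⟧) (L⟦i⟧) z := fun z => θ_precomp B e.hom z
      have h' := hinjN (show θ B (Dual.inD A N) (L⟦i⟧) ((Linear.leftComp A (L⟦i⟧) e.hom).lTensor B x) =
        θ B (Dual.inD A N) (L⟦i⟧) ((Linear.leftComp A (L⟦i⟧) e.hom).lTensor B y) by rw [hl, hl, hxy])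
      exact (LinearEquiv.lTensor B (Linear.homCongr A e.symm (Iso.refl (L⟦i⟧)))).injective (by
        change (Linear.homCongr A e.symm (Iso.refl (L⟦i⟧))).toLinearMap.lTensor B x =
          (Linear.homCongr A e.symm (Iso.refl (L⟦i⟧))).toLinearMap.lTensor B y
        rw [show (Linear.homCongr A e.symm (Iso.refl (L⟦i⟧))).toLinearMap = Linear.leftComp A (L⟦i⟧) e.hom from
          LinearMap.ext fun f => by simp [Linear.homCongr]]
        exact h')
    have := surjective_obj₂ B T hT (L⟦i⟧) h1.2 h3.2 h3'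
    intro t
    obtain ⟨z, hz⟩ := this ((bcD B).map e₂.inv ≫ t)
    refine ⟨(Linear.leftComp A (L⟦i⟧) e₂.hom).lTensor B z, ?_⟩
    rw [θ_precomp, hz, ← Category.assoc, ← Functor.map_comp, e₂.hom_inv_id, CategoryTheory.Functor.map_id,
      Category.id_comp]

/-- **Bounded above objects with finite cohomology.** -/
theorem isBC_of_finite (X L : Dual.D A) (a b : ℤ) [L.IsGE a] [X.IsLE b]
    (hX : ∀ q, Module.Finite A (Dual.HD A X q)) (i : ℤ) : IsBC B X (L⟦i⟧) := by
  have hM : ∀ (M : Type u) [AddCommGroup M] [Module A M] [Module.Finite A M] (j : ℤ),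
      IsBC B (Dual.inD A M) (L⟦j⟧) := fun M _ _ _ j => isBC_inD B L a (j - a + 1).toNat M j (by omega)
  let Q : Dual.D A → Prop := fun V => ∀ j : ℤ, IsBC B V (L⟦j⟧)
  let c : ℤ := a - i
  let U : Dual.D A := ((TStructure.t (C := ModuleCat.{u} A)).truncGE c).obj X
  let d : ℤ := max b (c - 1)
  have hU : Q U := by
    haveI : U.IsGE c := inferInstanceAs (TStructure.t.IsGE ((TStructure.t.truncGE c).obj X) c)
    haveI : U.IsLE b := inferInstanceAs (TStructure.t.IsLE ((TStructure.t.truncGE c).obj X) b)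
    haveI : U.IsLE (c + (d + 1 - c).toNat - 1) := TStructure.t.isLE_of_le U b _ (by omega)
    refine DerTrunc.prop_of_homology_zero Q ?_ ?_ ?_ ?_ (d + 1 - c).toNat U c inferInstance inferInstance ?_
    · exact fun e h j => isBC_of_iso B e (Iso.refl _) (h j)
    · intro V hV j
      exact isBC_of_subsingleton B _ _ ⟨hV.eq_of_src⟩ ⟨((bcD B).map_isZero hV).eq_of_src⟩
    · exact fun V n h j => isBC_shift_all B h n j
    · exact fun T hT h₁ h₃ j =>
        isBC_obj₂ B T hT _ (h₁ j) (h₃ j) (isBC_shift_all B h₁ 1 j) (isBC_shift_all B h₃ (-1) j)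
    · intro q j
      suffices Module.Finite A (Dual.HD A U q) from hM (Dual.HD A U q) j
      by_cases hq : c ≤ q
      · haveI := DerTrunc.isIso_homology_truncGEπ X c q hq
        haveI : Module.Finite A ((homologyFunctor (ModuleCat.{u} A) q).obj ((𝟭 (Dual.D A)).obj X)) := hX q
        exact Module.Finite.equiv
          (asIso ((homologyFunctor (ModuleCat.{u} A) q).map ((TStructure.t.truncGEπ c).app X))).toLinearEquiv
      · haveI : Subsingleton (Dual.HD A U q) := (DR.subsingleton_iff_isZero _).2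
          (DerivedCategory.isZero_of_isGE U c q (by omega))
        exact Module.Finite.of_finite
  let T := ((TStructure.t (C := ModuleCat.{u} A)).triangleLTGE c).obj X
  have hT : T ∈ distTriang _ := TStructure.t.triangleLTGE_distinguished _ _
  haveI h1LE : T.obj₁.IsLE (c - 1) :=
    inferInstanceAs (TStructure.t.IsLE ((TStructure.t.truncLT c).obj X) (c - 1))
  haveI : (T.obj₁⟦(1 : ℤ)⟧).IsLE (c - 2) := TStructure.t.isLE_shift T.obj₁ (c - 1) 1 (c - 2) (by omega)
  exact isBC_obj₂ B T hT _ (isBC_of_isLE B a (c - 1) i (by omega)) (hU i)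
    (isBC_of_isLE B a (c - 2) i (by omega)) (isBC_shift_all B hU (-1) i)

/-- The same, unshifted. -/
theorem isBC_of_finite₀ (X L : Dual.D A) (a b : ℤ) [L.IsGE a] [X.IsLE b]
    (hX : ∀ q, Module.Finite A (Dual.HD A X q)) : IsBC B X L :=
  isBC_of_iso B (Iso.refl _) ((shiftFunctorZero (Dual.D A) ℤ).app L) (isBC_of_finite B X L a b hX 0)

theorem subsingleton_bcD_hom {X L : Dual.D A} {i : ℤ} (h : IsBC B X (L⟦i⟧))
    (hs : Subsingleton (X ⟶ L⟦i⟧)) : Subsingleton ((bcD B).obj X ⟶ ((bcD B).obj L)⟦i⟧) := by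
  haveI : Subsingleton (B ⊗[A] (X ⟶ L⟦i⟧)) := by
    refine subsingleton_of_forall_eq 0 fun z => ?_
    induction z using TensorProduct.induction_on with
    | zero => rfl
    | tmul b f => rw [Subsingleton.elim f 0, TensorProduct.tmul_zero]
    | add x y hx hy => rw [hx, hy, add_zero]
  haveI := h.2.subsingleton
  exact ((shiftBc B L i).homToEquiv (Z := (bcD B).obj X)).symm.subsingleton

theorem subsingleton_of_bcD_hom [Module.FaithfullyFlat A B] {X L : Dual.D A} {i : ℤ} (h : IsBC B X (L⟦i⟧))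
    (hs : Subsingleton ((bcD B).obj X ⟶ ((bcD B).obj L)⟦i⟧)) : Subsingleton (X ⟶ L⟦i⟧) := by
  haveI := ((shiftBc B L i).homToEquiv (Z := (bcD B).obj X)).subsingleton
  haveI : Subsingleton (B ⊗[A] (X ⟶ L⟦i⟧)) := h.1.subsingleton
  exact Module.FaithfullyFlat.lTensor_reflects_triviality A B (X ⟶ L⟦i⟧)

/-- `End` after base change. -/
theorem bijective_toEnd_bcD {X : Dual.D A} (h : IsBC B X X)
    (hA : Function.Bijective (fun a : A => a • 𝟙 X)) :
    Function.Bijective (fun b : B => b • 𝟙 ((bcD B).obj X)) := by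
  let e : A ≃ₗ[A] (X ⟶ X) := LinearEquiv.ofBijective (LinearMap.toSpanSingleton A (X ⟶ X) (𝟙 X)) hA
  have : (fun b : B => b • 𝟙 ((bcD B).obj X)) =
      θ B X X ∘ (LinearEquiv.lTensor B e) ∘ (TensorProduct.rid A B).symm := by
    funext b
    simp [e, θ_tmul]
  rw [this]
  exact h.comp ((LinearEquiv.lTensor B e).bijective.comp (TensorProduct.rid A B).symm.bijective)

/-- Descent of `End`. -/
theorem bijective_toEnd_of_bcD [Module.FaithfullyFlat A B] {X : Dual.D A} (h : IsBC B X X)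
    (hB : Function.Bijective (fun b : B => b • 𝟙 ((bcD B).obj X))) :
    Function.Bijective (fun a : A => a • 𝟙 X) := by
  let l : A →ₗ[A] (X ⟶ X) := LinearMap.toSpanSingleton A (X ⟶ X) (𝟙 X)
  have he : (fun b : B => b • 𝟙 ((bcD B).obj X)) = θ B X X ∘ l.lTensor B ∘ (TensorProduct.rid A B).symm := by
    funext b
    simp [l, θ_tmul]
  rw [he] at hB
  have hl : Function.Bijective (l.lTensor B) := by
    refine ⟨fun x y hxy => ?_, fun z => ?_⟩
    · obtain ⟨x, rfl⟩ := (TensorProduct.rid A B).symm.surjective x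
      obtain ⟨y, rfl⟩ := (TensorProduct.rid A B).symm.surjective y
      rw [hB.1 (congrArg (θ B X X) hxy)]
    · obtain ⟨b, hb⟩ := hB.2 (θ B X X z)
      exact ⟨_, h.1 hb⟩
  exact ⟨(Module.FaithfullyFlat.lTensor_injective_iff_injective A B l).1 hl.1,
    (Module.FaithfullyFlat.lTensor_surjective_iff_surjective A B l).1 hl.2⟩

omit [IsNoetherianRing A] [Module.Flat A B] in
/-- Derived base change is `bcD`. -/
theorem nonempty_lBase_iso_bcD [DRing.HasLBaseChange (algebraMap A B)] :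
    Nonempty (DRing.LBaseChange (algebraMap A B) ≅ bcD (A := A) B) := by
  obtain ⟨adj⟩ := Groth.Agent.S12898.result (algebraMap A B)
  exact ⟨adj.leftAdjointUniq (DerCat.mapDerivedAdj (ModuleCat.extendRestrictScalarsAdj (algebraMap A B)))⟩

omit [IsNoetherianRing A] [Module.Flat A B] in
/-- Cohomology of the base change. -/
theorem finite_HD_bcD (X : Dual.D A) (i : ℤ) (h : Module.Finite A (Dual.HD A X i)) :
    Module.Finite B (Dual.HD B ((bcD B).obj X) i) := by
  suffices key : ∀ (inst : Algebra A B) (φ : A →+* B), inst = φ.toAlgebra →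
      Module.Finite B ((ModuleCat.extendScalars.{u, u, u} φ).obj
        ((homologyFunctor (ModuleCat.{u} A) i).obj X)) by
    haveI : Module.Finite B (((homologyFunctor (ModuleCat.{u} A) i) ⋙ bcMod (A := A) B).obj X) :=
      key ‹Algebra A B› (algebraMap A B) (Algebra.algebra_ext _ _ fun _ => rfl)
    exact Module.Finite.equiv ((DerTrunc.homologyMapIso (bcMod (A := A) B) i).app X).toLinearEquiv.symm
  intro inst φ hφ
  letI := φ.toAlgebra
  exact inferInstanceAs (Module.Finite B (B ⊗[A] Dual.HD A X i))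

end GrothLib.DualCx22
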