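import Groth.Agent.Lib.DualRing.HomHD
import Groth.Agent.Lib.DCxRing.FromSingle
import Mathlib.Algebra.Homology.HomotopyCategory.HomComplexSingle

/-!
# Morphisms into an injective module placed in degree zero
-/

set_option autoImplicit false
set_option linter.style.haveILetI false
universe u

open CategoryTheory CategoryTheory.Limits CochainComplex CochainComplex.HomComplex

attribute [local instance] HasDerivedCategory.standard

namespace GrothLib.DualCx22

variable {A : Type u} [CommRing A]

/-- The dual of `Hᵖ(L)` computes the cohomology of `Hom(L, E)`. -/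
theorem nonempty_homCx_single_homology (L : DRing.Cx A) (E : ModuleCat.{u} A) (hE : Module.Injective A E)
    (n p : ℤ) (h : p + n = 0) :
    Nonempty (Dual.HD A (DRing.toD (DRing.homCx L ((CochainComplex.singleFunctor (ModuleCat.{u} A) 0).obj E))) n
      ≃ₗ[A] (Dual.HD A (DRing.toD L) p →ₗ[A] E)) := by
  let J : DRing.Cx A := (CochainComplex.singleFunctor (ModuleCat.{u} A) 0).obj E
  let S := (DRing.homCx L J).sc' (n - 1) n (n + 1)
  let T := L.sc' (p - 1) p (p + 1)
  let ev : ∀ (k q : ℤ) (hk : q + k = 0), Cochain L J k →ₗ[A] (L.X q →ₗ[A] E) := fun k q hk =>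
    { toFun := fun z => (Cochain.toSingleEquiv hk z).hom
      map_add' := fun z w => by rw [map_add, ModuleCat.hom_add]
      map_smul' := fun a z => by
        rw [RingHom.id_apply, ← ModuleCat.hom_smul]
        refine congrArg ModuleCat.Hom.hom ?_
        change (a • z).v q 0 hk ≫ _ = a • (z.v q 0 hk ≫ _)
        rw [Cochain.smul_v, Linear.smul_comp] }
  have ev_bij : ∀ (k q : ℤ) (hk : q + k = 0), Function.Bijective (ev k q hk) := fun k q hk =>
    ⟨fun z w e => (Cochain.toSingleEquiv hk).injective (ModuleCat.hom_ext e), fun f =>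
      ⟨(Cochain.toSingleEquiv hk).symm (ModuleCat.ofHom f),
        congrArg ModuleCat.Hom.hom ((Cochain.toSingleEquiv hk).apply_symm_apply (ModuleCat.ofHom f))⟩⟩
  have evδ : ∀ (k k' q q' : ℤ) (hk : q + k = 0) (hk' : q' + k' = 0) (z : Cochain L J k),
      ev k' q' hk' (δ k k' z) = (k'.negOnePow : ℤ) • (ev k q hk z ∘ₗ (L.d q' q).hom) := by
    intro k k' q q' hk hk' z
    obtain ⟨f, rfl⟩ := (Cochain.toSingleEquiv hk).symm.surjective z
    change (Cochain.toSingleEquiv hk' (δ k k' (Cochain.toSingleMk f hk))).hom =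
      _ • ((Cochain.toSingleEquiv hk (Cochain.toSingleMk f hk)).hom ∘ₗ _)
    rw [Cochain.δ_toSingleMk f hk k' q' hk', Cochain.toSingleEquiv_toSingleMk, Units.smul_def, map_zsmul,
      Cochain.toSingleEquiv_toSingleMk, ModuleCat.hom_zsmul, ModuleCat.hom_comp]
  have hsign : ∀ k : ℤ, ((k.negOnePow : ℤ) * (k.negOnePow : ℤ)) = 1 := fun k => by
    rcases Int.units_eq_one_or k.negOnePow with e | e <;> simp [e]
  have hcoc : ∀ z : Cochain L J n, δ n (n + 1) z = 0 → ev n p h z ∘ₗ (L.d (p - 1) p).hom = 0 := by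
    intro z hz
    have e := evδ n (n + 1) p (p - 1) h (by omega) z
    rw [hz, map_zero] at e
    calc ev n p h z ∘ₗ (L.d (p - 1) p).hom
        = (((n + 1).negOnePow : ℤ) * ((n + 1).negOnePow : ℤ)) • (ev n p h z ∘ₗ (L.d (p - 1) p).hom) := by
          rw [hsign, one_smul]
      _ = 0 := by rw [mul_smul, ← e, smul_zero]
  have hrange : ∀ z : LinearMap.ker S.g.hom,
      LinearMap.range T.moduleCatToCycles ≤
        LinearMap.ker (ev n p h z.1 ∘ₗ (LinearMap.ker T.g.hom).subtype) := by
    rintro z _ ⟨x, rfl⟩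
    exact LinearMap.congr_fun (hcoc z.1 z.2) x
  let Ψ : LinearMap.ker S.g.hom →ₗ[A]
      ((LinearMap.ker T.g.hom ⧸ LinearMap.range T.moduleCatToCycles) →ₗ[A] E) :=
    { toFun := fun z => (LinearMap.range T.moduleCatToCycles).liftQ _ (hrange z)
      map_add' := fun z w => Submodule.linearMap_qext _ (LinearMap.ext fun x =>
        LinearMap.congr_fun ((ev n p h).map_add z.1 w.1) x.1)
      map_smul' := fun a z => Submodule.linearMap_qext _ (LinearMap.ext fun x =>
        LinearMap.congr_fun ((ev n p h).map_smul a z.1) x.1) }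
  have hsurj : Function.Surjective Ψ := fun ψ => by
    obtain ⟨f, hf⟩ := hE.out (LinearMap.ker T.g.hom).subtype Subtype.val_injective
      (ψ ∘ₗ (LinearMap.range T.moduleCatToCycles).mkQ)
    obtain ⟨z, hz⟩ := (ev_bij n p h).2 f
    have h0 : f ∘ₗ (L.d (p - 1) p).hom = 0 := LinearMap.ext fun x => by
      rw [LinearMap.comp_apply, LinearMap.zero_apply]
      refine (hf (T.moduleCatToCycles x)).trans ?_
      exact (congrArg ψ ((Submodule.Quotient.mk_eq_zero _).2 (LinearMap.mem_range_self _ x))).trans (map_zero ψ)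
    have hz0 : δ n (n + 1) z = 0 := (ev_bij (n + 1) (p - 1) (by omega)).1 (by
      rw [evδ n (n + 1) p (p - 1) h (by omega) z, hz]
      exact ((congrArg _ h0).trans (smul_zero _)).trans (map_zero _).symm)
    refine ⟨⟨z, hz0⟩, Submodule.linearMap_qext _ (LinearMap.ext fun x => ?_)⟩
    change ev n p h z x.1 = _
    rw [hz]
    exact hf x
  have hker : LinearMap.range S.moduleCatToCycles = LinearMap.ker Ψ := by
    ext z
    constructor
    · rintro ⟨b, rfl⟩
      refine LinearMap.mem_ker.2 (Submodule.linearMap_qext _ (LinearMap.ext fun x => ?_))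
      change ev n p h (δ (n - 1) n b) x.1 = 0
      rw [evδ (n - 1) n (p + 1) p (by omega) h b, LinearMap.smul_apply, LinearMap.comp_apply,
        show (L.d p (p + 1)).hom x.1 = 0 from x.2, map_zero, smul_zero]
    · intro hz
      let f := ev n p h z.1
      have hf : LinearMap.ker (L.d p (p + 1)).hom ≤ LinearMap.ker f := fun x hx =>
        LinearMap.congr_fun (LinearMap.mem_ker.1 hz) (Submodule.Quotient.mk ⟨x, hx⟩)
      let j : (L.X p ⧸ LinearMap.ker (L.d p (p + 1)).hom) →ₗ[A] L.X (p + 1) :=
        Submodule.liftQ _ (L.d p (p + 1)).hom le_rfl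
      obtain ⟨g, hg⟩ := hE.out j (LinearMap.ker_eq_bot.1 (Submodule.ker_liftQ_eq_bot _ _ _ le_rfl))
        (Submodule.liftQ _ f hf)
      obtain ⟨b, hb⟩ := (ev_bij (n - 1) (p + 1) (by omega)).2 ((n.negOnePow : ℤ) • g)
      refine ⟨b, Subtype.ext ((ev_bij n p h).1 ?_)⟩
      change ev n p h (δ (n - 1) n b) = f
      rw [evδ (n - 1) n (p + 1) p (by omega) h b, hb, LinearMap.smul_comp, smul_smul, hsign, one_smul]
      exact LinearMap.ext fun x => hg (Submodule.Quotient.mk x)
  exact ⟨(((GrothLib.DR.homologyIso (DRing.homCx L J) n ≪≫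
      ShortComplex.homologyMapIso ((DRing.homCx L J).isoSc' (n - 1) n (n + 1) (by simp) (by simp)) ≪≫
      S.moduleCatHomologyIso).toLinearEquiv).trans
    ((Submodule.quotEquivOfEq _ _ hker).trans (Ψ.quotKerEquivOfSurjective hsurj))).trans
    (LinearEquiv.arrowCongr ((GrothLib.DR.homologyIso L p ≪≫
      ShortComplex.homologyMapIso (L.isoSc' (p - 1) p (p + 1) (by simp) (by simp)) ≪≫
      T.moduleCatHomologyIso).toLinearEquiv).symm (LinearEquiv.refl A E))⟩

/-- **Morphisms into an injective module.** -/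
theorem nonempty_hom_inD_injective (L : DRing.Cx A) (E : Type u) [AddCommGroup E] [Module A E]
    (hE : Module.Injective A E) (n p : ℤ) (h : p + n = 0) :
    Nonempty ((DRing.toD L ⟶ (Dual.inD A E)⟦n⟧) ≃ₗ[A] (Dual.HD A (DRing.toD L) p →ₗ[A] E)) := by
  let J : DRing.Cx A := (CochainComplex.singleFunctor (ModuleCat.{u} A) 0).obj (ModuleCat.of A E)
  haveI : CategoryTheory.Injective (ModuleCat.of A E) := (Module.injective_iff_injective_object A E).1 hE
  haveI hinj : ∀ k, CategoryTheory.Injective (J.X k) := fun k => by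
    by_cases hk : k = 0
    · subst hk
      exact Injective.of_iso (HomologicalComplex.singleObjXSelf (ComplexShape.up ℤ) 0 (ModuleCat.of A E)).symm
        inferInstance
    · exact (HomologicalComplex.isZero_single_obj_X _ _ _ _ hk).injective
  haveI : J.IsKInjective := CochainComplex.isKInjective_of_injective J 0
  obtain ⟨e₁⟩ := GrothLib.DualRing.exists_HD_homCx_equiv L J n
  obtain ⟨e₂⟩ := nonempty_homCx_single_homology L (ModuleCat.of A E) hE n p h
  exact ⟨(Linear.homCongr A (Iso.refl _) ((CategoryTheory.shiftFunctor (Dual.D A) n).mapIso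
    (GrothLib.DCpl.eSingle (ModuleCat.of A E)))).trans (e₁.symm.trans e₂)⟩

end GrothLib.DualCx22
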