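import Groth.Agent.Lib.DualCx22.DualRep
import Groth.Agent.Lib.DualCx22.HomInjective
import Groth.Agent.Lib.DualRing.Local
import Groth.Agent.Lib.RGamma.HDI
import Groth.Agent.Lib.RGamma.Noeth
import Groth.Agent.Lib.InjMod.SocleHull
import Groth.Agent.Lib.InjMod.MatlisCompl
import Groth.Agent.Lib.LC.Torsion
import Groth.Agent.Lib.DCxKFlat.Resolution
import Groth.Agent.Lib.DCxRHom.Rep

/-!
# Grothendieck local duality

For a normalized dualizing complex `ω` and a complex `K` with finite cohomology the local cohomology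
`Hⁱ_m(K)` is the Matlis dual of `Hom(K, ω⟦-i⟧)`.
-/

set_option autoImplicit false
set_option linter.style.haveILetI false
universe u v

open CategoryTheory CategoryTheory.Limits CochainComplex CochainComplex.HomComplex Opposite

attribute [local instance] HasDerivedCategory.standard

namespace GrothLib.DualCx22

variable {A : Type u} [CommRing A]

theorem hasRgammaI (J : Ideal A) : DRing.HasRgammaI J :=
  GrothLib.KInj.hasRightDerivedFunctor (DRing.gammaIKh J)

/-- `Γ_J Hom(L, Γ_J I) = Γ_J Hom(L, I)`. -/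
theorem isIso_gamma_homCxMap_incl (J : Ideal A) (L I : DRing.Cx A) :
    IsIso (((DRing.gammaI J).mapHomologicalComplex (ComplexShape.up ℤ)).map
      (DRing.homCxMap L (GrothLib.RGamma.incl J I))) := by
  haveI : ∀ n, IsIso ((((DRing.gammaI J).mapHomologicalComplex (ComplexShape.up ℤ)).map
      (DRing.homCxMap L (GrothLib.RGamma.incl J I))).f n) := fun n => by
    rw [ConcreteCategory.isIso_iff_bijective]
    constructor
    · intro x y h
      refine Subtype.ext (Cochain.ext _ _ fun p q hpq => ?_)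
      have e : (x.1.comp (Cochain.ofHom (GrothLib.RGamma.incl J I)) (add_zero n)).v p q hpq =
          (y.1.comp (Cochain.ofHom (GrothLib.RGamma.incl J I)) (add_zero n)).v p q hpq :=
        congrArg (fun z => z.v p q hpq) (congrArg Subtype.val h)
      rw [Cochain.comp_zero_cochain_v, Cochain.comp_zero_cochain_v, Cochain.ofHom_v] at e
      exact ModuleCat.hom_ext (LinearMap.ext fun t => Subtype.ext (ConcreteCategory.congr_hom e t))
    · rintro ⟨x, k, hk⟩
      have hx : ∀ (p q : ℤ) (hpq : p + n = q) (t : L.X p),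
          (Cochain.v x p q hpq).hom t ∈ DRing.torsionSub J (I.X q) := fun p q hpq t =>
        ⟨k, fun a ha => by
          have e : Cochain.v (a • x : Cochain L I n) p q hpq = Cochain.v (0 : Cochain L I n) p q hpq :=
            congrArg (fun z : Cochain L I n => z.v p q hpq) (hk a ha)
          erw [Cochain.smul_v, Cochain.zero_v] at e
          exact ConcreteCategory.congr_hom e t⟩
      let y : Cochain L (GrothLib.RGamma.gammaCx J I) n := Cochain.mk fun p q hpq =>
        ModuleCat.ofHom (LinearMap.codRestrict (DRing.torsionSub J (I.X q)) (Cochain.v x p q hpq).hom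
          (hx p q hpq))
      refine ⟨⟨y, k, fun a ha => Cochain.ext _ _ fun p q hpq => ?_⟩, Subtype.ext (Cochain.ext _ _ fun p q hpq => ?_)⟩
      · erw [Cochain.smul_v, Cochain.zero_v]
        refine ModuleCat.hom_ext (LinearMap.ext fun t => Subtype.ext ?_)
        have e : Cochain.v (a • x : Cochain L I n) p q hpq = Cochain.v (0 : Cochain L I n) p q hpq :=
          congrArg (fun z : Cochain L I n => z.v p q hpq) (hk a ha)
        erw [Cochain.smul_v, Cochain.zero_v] at e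
        exact ConcreteCategory.congr_hom e t
      · change (y.comp (Cochain.ofHom (GrothLib.RGamma.incl J I)) (add_zero n)).v p q hpq = _
        rw [Cochain.comp_zero_cochain_v, Cochain.ofHom_v]
        rfl
  exact HomologicalComplex.Hom.isIso_of_components _

/-- Over a local ring the length at the maximal ideal is the length. -/
theorem len_maximal [IsLocalRing A] (M : Type v) [AddCommGroup M] [Module A M] :
    GrothLib.DualRing.len (IsLocalRing.maximalIdeal A) M = Module.length A M := by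
  let m := IsLocalRing.maximalIdeal A
  let S := m.primeCompl
  have hu : ∀ s : S, IsUnit (s : A) := fun s => IsLocalRing.notMem_maximalIdeal.1 s.2
  have hs : Function.Surjective (algebraMap A (Localization.AtPrime m)) := fun z => by
    obtain ⟨⟨a, s⟩, hz⟩ := IsLocalization.surj S z
    obtain ⟨v, hv⟩ := hu s
    refine ⟨a * ↑v⁻¹, ?_⟩
    rw [← ((hu s).map (algebraMap A (Localization.AtPrime m))).mul_left_inj, hz, ← map_mul, ← hv,
      Units.inv_mul_cancel_right]
  have hb : Function.Bijective (LocalizedModule.mkLinearMap S M) := by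
    refine ⟨(injective_iff_map_eq_zero _).2 fun x hx => ?_, fun z => ?_⟩
    · obtain ⟨s, hs⟩ := (IsLocalizedModule.eq_zero_iff S _).1 hx
      exact (hu s).smul_eq_zero.1 hs
    · obtain ⟨⟨x, s⟩, hz⟩ := IsLocalizedModule.surj S (LocalizedModule.mkLinearMap S M) z
      obtain ⟨v, hv⟩ := hu s
      refine ⟨(↑v⁻¹ : A) • x, ?_⟩
      rw [map_smul, ← hz, Submonoid.smul_def, smul_smul, ← hv, Units.inv_mul, one_smul]
  rw [GrothLib.DualRing.len, ← Module.length_eq_of_surjective hs]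
  exact ((LinearEquiv.ofBijective _ hb).length_eq).symm

variable [IsLocalRing A] [IsNoetherianRing A]

local notation "𝔪" => IsLocalRing.maximalIdeal A

/-- `Hom(N, ω⟦i⟧)` for modules of finite length. -/
theorem hom_finiteLength {ω : Dual.D A} (hω : Dual.IsDualizing A ω) (hn : Dual.IsNormalized A ω)
    (N : Type u) [AddCommGroup N] [Module A N] [Module.Finite A N] (hN : IsFiniteLength A N) :
    (∀ i : ℤ, i ≠ 0 → Subsingleton (Dual.inD A N ⟶ ω⟦i⟧)) ∧
      Module.length A (Dual.inD A N ⟶ ω⟦(0 : ℤ)⟧) = Module.length A N := by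
  have hd := GrothLib.DualRing.deg_maximal hω hn
  have hmu : ∀ i : ℤ, i ≠ 0 → GrothLib.DualRing.mu ω 𝔪 i = 0 := fun i hi =>
    GrothLib.DualRing.mu_ne_deg hω 𝔪 (by rwa [hd])
  have h1 : GrothLib.DualRing.mu ω 𝔪 0 = 1 := hd ▸ GrothLib.DualRing.mu_deg hω 𝔪
  have hfl : GrothLib.DualRing.len 𝔪 N ≠ ⊤ := by
    rw [len_maximal]
    exact Module.length_ne_top_iff.2 hN
  refine ⟨fun i hi => GrothLib.DualRing.subsingleton_of_len_maximal
    (GrothLib.DualRing.len_EH_eq_zero N (hmu i hi) hfl), ?_⟩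
  have h := GrothLib.DualRing.len_EH_eq (ω := ω) (p := 𝔪) N hmu hfl
  rw [h1, one_mul, len_maximal, len_maximal] at h
  exact h

theorem isFiniteLength_quotient_pow (n : ℕ) : IsFiniteLength A (A ⧸ 𝔪 ^ n) := by
  haveI : IsArtinian A (A ⧸ 𝔪 ^ n) :=
    (GrothLib.LC.finite_iff_isArtinian_of_pow_smul 𝔪 (N := n) fun a ha x => by
      obtain ⟨x, rfl⟩ := Ideal.Quotient.mk_surjective x
      exact Ideal.Quotient.eq_zero_iff_mem.2 (Ideal.mul_mem_right x _ ha)).1 inferInstance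
  exact isFiniteLength_iff_isNoetherian_isArtinian.2 ⟨inferInstance, inferInstance⟩

theorem isPowerTorsion_hom_finite {E : Type u} [AddCommGroup E] [Module A E] (hE : LocCoh.IsPowerTorsion 𝔪 E)
    (N : Type u) [AddCommGroup N] [Module A N] [Module.Finite A N] :
    LocCoh.IsPowerTorsion 𝔪 (N →ₗ[A] E) := fun φ => by
  classical
  obtain ⟨r, π, hπ⟩ := Module.Finite.exists_fin' A N
  choose k hk using fun j : Fin r => hE (φ (π (Pi.single j 1)))
  refine ⟨Finset.univ.sup k, fun a ha => ?_⟩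
  refine (LinearMap.cancel_right hπ).1 (LinearMap.pi_ext' fun j => LinearMap.ext_ring ?_)
  change a • φ (π (Pi.single j 1)) = (0 : E)
  exact hk j a (Ideal.pow_le_pow_right (Finset.le_sup (Finset.mem_univ j)) ha)

namespace InjRep

variable {ω : Dual.D A} (r : InjRep ω)

/-- `Γ_m` of the representative. -/
noncomputable abbrev gammaI : DRing.Cx A := GrothLib.RGamma.gammaCx 𝔪 r.I

theorem gammaI_kInj : r.gammaI.IsKInjective := by
  refine GrothLib.DR.isKInjective_of_termwiseInjective (a := r.a) (fun t ht => ?_) fun t => ?_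
  · haveI := ModuleCat.subsingleton_of_isZero (r.vanish t (Or.inl ht))
    exact ModuleCat.isZero_of_subsingleton (ModuleCat.of A (DRing.torsionSub 𝔪 (r.I.X t)))
  · haveI : Module.Injective A (r.I.X t) := (Module.injective_iff_injective_object A (r.I.X t)).2 (r.inj t)
    exact GrothLib.LC.injective_torsionSub 𝔪 (r.I.X t)

theorem nonempty_rgamma_iso [DRing.HasRgammaI 𝔪] :
    Nonempty ((DRing.RgammaI 𝔪).obj ω ≅ DRing.toD r.gammaI) := by
  haveI := r.kInj
  obtain ⟨e, -⟩ := GrothLib.RGamma.exists_iso 𝔪 r.I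
  exact ⟨(DRing.RgammaI 𝔪).mapIso r.iso.symm ≪≫ e⟩

include r in
theorem subsingleton_HDI (hω : Dual.IsDualizing A ω) (hn : Dual.IsNormalized A ω) (j : ℤ) (hj : j ≠ 0) :
    Subsingleton (Dual2.HDI A 𝔪 ω j) := by
  refine subsingleton_of_forall_eq 0 fun z => ?_
  obtain ⟨i, φ, rfl⟩ := Concrete.colimit_exists_rep _ z
  haveI : Subsingleton (Dual.inD A (A ⧸ 𝔪 ^ i.unop.unop) ⟶ ω⟦j⟧) :=
    (hom_finiteLength hω hn _ (isFiniteLength_quotient_pow _)).1 j hj
  rw [Subsingleton.elim (α := Dual.inD A (A ⧸ 𝔪 ^ i.unop.unop) ⟶ ω⟦j⟧) φ 0]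
  exact map_zero _

/-- **`Γ_m ω = E`.** -/
theorem nonempty_gammaI_iso (hω : Dual.IsDualizing A ω) (hn : Dual.IsNormalized A ω) {E : Type u}
    [AddCommGroup E] [Module A E] {f : IsLocalRing.ResidueField A →ₗ[A] E} (hf : InjHull.IsInjectiveHull f) :
    Nonempty (DRing.toD r.gammaI ≅ Dual.inD A E) := by
  haveI := hasRgammaI 𝔪
  obtain ⟨eω⟩ := r.nonempty_rgamma_iso
  have hvan : ∀ j : ℤ, j ≠ 0 →
      IsZero ((DerivedCategory.homologyFunctor (ModuleCat.{u} A) j).obj (DRing.toD r.gammaI)) := fun j hj => by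
    haveI := r.subsingleton_HDI hω hn j hj
    obtain ⟨e⟩ := GrothLib.RGamma.nonempty_HD_equiv_HDI 𝔪 ω j
    refine (GrothLib.DR.subsingleton_iff_isZero _).1 ?_
    exact ((GrothLib.RGamma.hdIso eω j).symm.trans e).toEquiv.subsingleton
  haveI : DerivedCategory.IsGE (DRing.toD r.gammaI) 0 := by
    rw [DerivedCategory.isGE_iff]
    exact fun j hj => hvan j hj.ne
  haveI : DerivedCategory.IsLE (DRing.toD r.gammaI) 0 := by
    rw [DerivedCategory.isLE_iff]
    exact fun j hj => hvan j hj.ne'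
  obtain ⟨H, ⟨eH⟩⟩ := DerivedCategory.exists_iso_singleFunctor_obj_of_isGE_of_isLE (DRing.toD r.gammaI) 0
  let eωH : (DRing.RgammaI 𝔪).obj ω ≅ Dual.inD A H := eω ≪≫ eH
  have htor : LocCoh.IsPowerTorsion 𝔪 H :=
    GrothLib.RGamma.isPowerTorsion_of_linearEquiv 𝔪
      ((GrothLib.RGamma.hdIso eωH 0).trans (GrothLib.DR.inDHomologyIso H).toLinearEquiv)
      (GrothLib.RGamma.isPowerTorsion_HD 𝔪 ω 0)
  have hhom : ∀ (N : Type u) [AddCommGroup N] [Module A N], LocCoh.IsPowerTorsion 𝔪 N →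
      Nonempty ((N →ₗ[A] H) ≃ₗ[A] (Dual.inD A N ⟶ ω⟦(0 : ℤ)⟧)) := by
    intro N _ _ hN
    have hL : ∀ i, LocCoh.IsPowerTorsion 𝔪 (Dual.HD A (Dual.inD A N) i) := fun i => by
      by_cases hi : i = 0
      · subst hi
        exact GrothLib.RGamma.isPowerTorsion_of_linearEquiv 𝔪 (GrothLib.DR.inDHomologyIso N).toLinearEquiv.symm hN
      · haveI := GrothLib.DR.subsingleton_HD_inD (A := A) N i hi
        exact fun x => ⟨0, fun a _ => Subsingleton.elim _ _⟩
    let F := DerivedCategory.singleFunctor (ModuleCat.{u} A) 0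
    let e₁ : (N →ₗ[A] H) ≃ₗ[A] (Dual.inD A N ⟶ Dual.inD A H) :=
      (ModuleCat.homLinearEquiv (S := A) (M := ModuleCat.of A N) (N := H)).symm.trans
        (LinearEquiv.ofBijective (Functor.mapLinearMap A F)
          ⟨F.map_injective, F.map_surjective⟩)
    let e₂ : (Dual.inD A N ⟶ (DRing.RgammaI 𝔪).obj ω) ≃ₗ[A] (Dual.inD A N ⟶ ω) :=
      LinearEquiv.ofBijective (Linear.rightComp A (Dual.inD A N) ((DRing.RgammaIε 𝔪).app ω))
        (GrothLib.RGamma.hom_bijective 𝔪 _ ω hL)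
    exact ⟨((e₁.trans (Linear.homCongr A (Iso.refl _) eωH.symm)).trans e₂).trans
      (Linear.homCongr A (Iso.refl _) ((shiftFunctorZero (Dual.D A) ℤ).app ω).symm)⟩
  have hquot : ∀ n : ℕ, LocCoh.IsPowerTorsion 𝔪 (A ⧸ 𝔪 ^ n) := fun n x => ⟨n, fun a ha => by
    obtain ⟨x, rfl⟩ := Ideal.Quotient.mk_surjective x
    exact Ideal.Quotient.eq_zero_iff_mem.2 (Ideal.mul_mem_right x _ ha)⟩
  obtain ⟨e₁⟩ := hhom (A ⧸ 𝔪) fun x => ⟨1, fun a ha => by
    obtain ⟨x, rfl⟩ := Ideal.Quotient.mk_surjective x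
    exact Ideal.Quotient.eq_zero_iff_mem.2 (Ideal.mul_mem_right x _ (by rwa [pow_one] at ha))⟩
  have h1 : GrothLib.DualRing.len 𝔪 (Dual.inD A (A ⧸ 𝔪) ⟶ ω⟦(0 : ℤ)⟧) = 1 :=
    GrothLib.DualRing.deg_maximal hω hn ▸ GrothLib.DualRing.mu_deg hω 𝔪
  obtain ⟨e₂⟩ := GrothLib.DualRing.nonempty_equiv_of_len_eq_one 𝔪 (GrothLib.DualRing.smul_EH_quotient 𝔪 0) h1
  obtain ⟨g, hg⟩ := GrothLib.InjMod.exists_isInjectiveHull_of_length htor (e₁.trans e₂) (fun n => 𝔪 ^ n)
    (fun n => ⟨n, le_rfl⟩) (fun n => ⟨n, le_rfl⟩) fun n => by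
      obtain ⟨e⟩ := hhom _ (hquot n)
      exact ((hom_finiteLength hω hn _ (isFiniteLength_quotient_pow n)).2).symm.trans e.length_eq.symm
  obtain ⟨e, -⟩ := GrothLib.InjMod.hull_unique hg hf
  exact ⟨eH ≪≫ (DerivedCategory.singleFunctor (ModuleCat.{u} A) 0).mapIso e.toModuleIso⟩

include r in
/-- **Local duality.** -/
theorem nonempty_HDI_dual (hω : Dual.IsDualizing A ω) (hn : Dual.IsNormalized A ω) {E : Type u}
    [AddCommGroup E] [Module A E] {f : IsLocalRing.ResidueField A →ₗ[A] E} (hf : InjHull.IsInjectiveHull f)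
    (K : DRing.Cx A) (hK : ∀ i, Module.Finite A (Dual.HD A (DRing.toD K) i)) (i : ℤ) :
    Nonempty (Dual2.HDI A 𝔪 (DRing.toD K) i ≃ₗ[A] ((DRing.toD K ⟶ ω⟦-i⟧) →ₗ[A] E)) := by
  haveI := hasRgammaI 𝔪
  haveI := r.kInj
  haveI := r.gammaI_kInj
  have hdual : ∀ p : ℤ, Module.Finite A (Dual.HD A (DRing.toD (r.dual K)) p) := fun p => by
    obtain ⟨e⟩ := r.nonempty_HD_dual K p
    haveI := finite_hom (DRing.toD K) ω hK hω.finite_cohomology
      (show DRing.HasFiniteInjDim A ω from ⟨r.a, r.b, r.I, r.vanish, fun t =>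
        (Module.injective_iff_injective_object A (r.I.X t)).2 (r.inj t), ⟨r.iso⟩⟩) p
    exact Module.Finite.equiv e.symm
  obtain ⟨L, q, hL, -, hq, -⟩ := GrothLib.KF.exists_kflat_resolution (r.dual K)
  haveI := hq
  haveI := GrothLib.RH.quasiIso_homCxPre q r.I
  haveI := GrothLib.RH.quasiIso_Q (GrothLib.RH.homCxPre q r.I)
  haveI := GrothLib.RH.quasiIso_Q q
  obtain ⟨eK⟩ := r.nonempty_bidual K hK
  let eK' : DRing.toD K ≅ DRing.toD (DRing.homCx L r.I) :=
    eK ≪≫ asIso (DerivedCategory.Q.map (GrothLib.RH.homCxPre q r.I))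
  haveI := GrothLib.RH.isKInjective_homCx L r.I hL
  haveI := GrothLib.RH.isKInjective_homCx L r.gammaI hL
  obtain ⟨g⟩ := r.nonempty_gammaI_iso hω hn hf
  have hH : ∀ n : ℤ, Nonempty (Dual.HD A (DRing.toD (DRing.homCx L r.gammaI)) n ≃ₗ[A]
      ((DRing.toD K ⟶ ω⟦-n⟧) →ₗ[A] E)) := fun n => by
    obtain ⟨e₁⟩ := GrothLib.DualRing.exists_HD_homCx_equiv L r.gammaI n
    obtain ⟨e₂⟩ := nonempty_hom_inD_injective L E hf.isInjective n (-n) (neg_add_cancel n)
    obtain ⟨e₃⟩ := r.nonempty_HD_dual K (-n)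
    exact ⟨((e₁.trans (Linear.homCongr A (Iso.refl _) ((CategoryTheory.shiftFunctor (Dual.D A) n).mapIso g))).trans
      e₂).trans (((GrothLib.RGamma.hdIso (asIso (DerivedCategory.Q.map q)) (-n)).trans e₃).congrLeft E A)⟩
  have htor : ∀ n : ℤ, LocCoh.IsPowerTorsion 𝔪 (Dual.HD A (DRing.toD (DRing.homCx L r.gammaI)) n) := fun n => by
    obtain ⟨e₁⟩ := GrothLib.DualRing.exists_HD_homCx_equiv L r.gammaI n
    obtain ⟨e₂⟩ := nonempty_hom_inD_injective L E hf.isInjective n (-n) (neg_add_cancel n)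
    haveI : Module.Finite A (Dual.HD A (DRing.toD L) (-n)) :=
      haveI := hdual (-n)
      Module.Finite.equiv (GrothLib.RGamma.hdIso (asIso (DerivedCategory.Q.map q)) (-n)).symm
    exact GrothLib.RGamma.isPowerTorsion_of_linearEquiv 𝔪
      ((e₁.trans (Linear.homCongr A (Iso.refl _) ((CategoryTheory.shiftFunctor (Dual.D A) n).mapIso g))).trans
        e₂).symm
      (isPowerTorsion_hom_finite (GrothLib.Matlis.isPowerTorsion_of_hull hf) _)
  haveI := isIso_gamma_homCxMap_incl 𝔪 L r.I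
  obtain ⟨c₁, -⟩ := GrothLib.RGamma.exists_iso 𝔪 (DRing.homCx L r.gammaI)
  obtain ⟨c₂, -⟩ := GrothLib.RGamma.exists_iso 𝔪 (DRing.homCx L r.I)
  haveI := GrothLib.RGamma.isIso_ε 𝔪 (DRing.toD (DRing.homCx L r.gammaI)) htor
  let eR : (DRing.RgammaI 𝔪).obj (DRing.toD K) ≅ DRing.toD (DRing.homCx L r.gammaI) :=
    (DRing.RgammaI 𝔪).mapIso eK' ≪≫ c₂ ≪≫
      (DerivedCategory.Q.mapIso (asIso (((DRing.gammaI 𝔪).mapHomologicalComplex (ComplexShape.up ℤ)).map
        (DRing.homCxMap L (GrothLib.RGamma.incl 𝔪 r.I))))).symm ≪≫ c₁.symm ≪≫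
      asIso ((DRing.RgammaIε 𝔪).app (DRing.toD (DRing.homCx L r.gammaI)))
  obtain ⟨e₀⟩ := GrothLib.RGamma.nonempty_HD_equiv_HDI 𝔪 (DRing.toD K) i
  obtain ⟨eh⟩ := hH i
  exact ⟨e₀.symm.trans ((GrothLib.RGamma.hdIso eR i).trans eh)⟩

end InjRep

/-- Local duality on the derived category. -/
theorem nonempty_local_duality {ω : Dual.D A} (hω : Dual.IsDualizing A ω) (hn : Dual.IsNormalized A ω)
    {E : Type u} [AddCommGroup E] [Module A E] {f : IsLocalRing.ResidueField A →ₗ[A] E}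
    (hf : InjHull.IsInjectiveHull f) (X : Dual.D A) (hX : ∀ i, Module.Finite A (Dual.HD A X i)) (i : ℤ) :
    Nonempty (Dual2.HDI A 𝔪 X i ≃ₗ[A] ((X ⟶ ω⟦-i⟧) →ₗ[A] E)) := by
  obtain ⟨r⟩ := nonempty_injRep hω
  haveI := hasRgammaI (A := A) 𝔪
  obtain ⟨C, hC, ⟨eC⟩⟩ := GrothLib.RH.exists_kInjective_rep X
  obtain ⟨e₁⟩ := r.nonempty_HDI_dual hω hn hf C
    (fun j => haveI := hX j; Module.Finite.equiv (GrothLib.RGamma.hdIso eC j)) i
  obtain ⟨a⟩ := GrothLib.RGamma.nonempty_HD_equiv_HDI 𝔪 X i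
  obtain ⟨b⟩ := GrothLib.RGamma.nonempty_HD_equiv_HDI 𝔪 (DRing.toD C) i
  exact ⟨((a.symm.trans (GrothLib.RGamma.hdIso ((DRing.RgammaI 𝔪).mapIso eC) i)).trans (b.trans e₁)).trans
    ((Linear.homCongr A eC.symm (Iso.refl _)).congrLeft E A)⟩

end GrothLib.DualCx22
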