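import Groth.Agent.Lib.DualCx22.Coind
import Groth.Agent.Lib.DualCx22.LocalDual
import Groth.Agent.Lib.DCxRHom.Cech
import Groth.Agent.Lib.DCxRHom.HomHtpy
import Mathlib.Algebra.Homology.DerivedCategory.ShortExact

/-!
# The triangle `RHom(A/J, ω) → ω → Hom(J, E)` for an ideal of finite length
-/

set_option autoImplicit false
set_option linter.style.haveILetI false
universe u

open CategoryTheory CategoryTheory.Limits CategoryTheory.Pretriangulated CochainComplex CochainComplex.HomComplex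
  HomologicalComplex

attribute [local instance] HasDerivedCategory.standard

namespace GrothLib.DualCx22

variable {A B : Type u} [CommRing A] [CommRing B]

/-- A module in degree zero. -/
noncomputable abbrev sgl (M : ModuleCat.{u} A) : DRing.Cx A :=
  (HomologicalComplex.single (ModuleCat.{u} A) (ComplexShape.up ℤ) 0).obj M

/-- A morphism of modules in degree zero. -/
noncomputable abbrev sglMap {M N : ModuleCat.{u} A} (f : M ⟶ N) : sgl M ⟶ sgl N :=
  (HomologicalComplex.single (ModuleCat.{u} A) (ComplexShape.up ℤ) 0).map f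

theorem homCxPre_apply {K K' : DRing.Cx A} (f : K' ⟶ K) (L : DRing.Cx A) {n : ℤ} (z : Cochain K L n) (p q : ℤ)
    (hpq : p + n = q) :
    ((show Cochain K' L n from (GrothLib.RH.homCxPre f L).f n z)).v p q hpq = f.f p ≫ z.v p q hpq := by
  change ((Cochain.ofHom f).comp z (zero_add n)).v p q hpq = _
  rw [Cochain.zero_cochain_comp_v, Cochain.ofHom_v]

/-- Cochains out of a module in degree zero. -/
theorem cochain_sgl_ext {M : ModuleCat.{u} A} {L : DRing.Cx A} {n : ℤ} {z w : Cochain (sgl M) L n}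
    (h : z.v 0 n (zero_add n) = w.v 0 n (zero_add n)) : z = w := by
  refine Cochain.ext _ _ fun p q hpq => ?_
  by_cases hp : p = 0
  · subst hp
    obtain rfl : n = q := by omega
    exact h
  · exact (isZero_single_obj_X _ _ _ _ hp).eq_of_src _ _

/-- A cochain out of a module in degree zero from a map. -/
theorem exists_cochain_sgl {M : ModuleCat.{u} A} {L : DRing.Cx A} (n : ℤ)
    (k : M ⟶ L.X n) : ∃ z : Cochain (sgl M) L n,
      z.v 0 n (zero_add n) = (singleObjXSelf (ComplexShape.up ℤ) 0 M).hom ≫ k :=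
  ⟨Cochain.fromSingleMk (X := M) (p := 0) k (zero_add n), Cochain.fromSingleMk_v k (zero_add n)⟩

theorem homCxPre_sglMap_zero {S : ShortComplex (ModuleCat.{u} A)} (L : DRing.Cx A) :
    GrothLib.RH.homCxPre (sglMap S.g) L ≫ GrothLib.RH.homCxPre (sglMap S.f) L = 0 := by
  refine HomologicalComplex.hom_ext _ _ fun n => ModuleCat.hom_ext (LinearMap.ext fun (z : Cochain (sgl S.X₃) L n) => ?_)
  refine cochain_sgl_ext ?_
  change ((show Cochain (sgl S.X₁) L n from (GrothLib.RH.homCxPre (sglMap S.f) L).f n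
    ((GrothLib.RH.homCxPre (sglMap S.g) L).f n z))).v 0 n (zero_add n) = 0
  rw [homCxPre_apply, homCxPre_apply, ← Category.assoc, ← HomologicalComplex.comp_f, ← Functor.map_comp, S.zero,
    Functor.map_zero, HomologicalComplex.zero_f, zero_comp]

/-- **Maps into a complex of injectives turn short exact sequences of modules into short exact sequences.** -/
theorem shortExact_homCxPre_single {S : ShortComplex (ModuleCat.{u} A)} (hS : S.ShortExact) (L : DRing.Cx A)
    (hL : ∀ n, Injective (L.X n)) :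
    (ShortComplex.mk (GrothLib.RH.homCxPre (sglMap S.g) L) (GrothLib.RH.homCxPre (sglMap S.f) L)
      (homCxPre_sglMap_zero L)).ShortExact := by
  haveI := hS.mono_f
  haveI := hS.epi_g
  refine HomologicalComplex.shortExact_of_degreewise_shortExact _ fun n => ?_
  haveI := hL n
  let η := fun M => singleObjXSelf (ComplexShape.up ℤ) 0 (M : ModuleCat.{u} A)
  have hf : ∀ (k : (sgl S.X₂).X 0 ⟶ L.X n), (sglMap S.f).f 0 ≫ k = (η _).hom ≫ S.f ≫ (η _).inv ≫ k := fun k => by
    rw [sglMap, single_map_f_self]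
    simp only [Category.assoc, η]
  have hg : ∀ (k : (sgl S.X₃).X 0 ⟶ L.X n), (sglMap S.g).f 0 ≫ k = (η _).hom ≫ S.g ≫ (η _).inv ≫ k := fun k => by
    rw [sglMap, single_map_f_self]
    simp only [Category.assoc, η]
  refine { exact := ?_, mono_f := ?_, epi_g := ?_ }
  · rw [ShortComplex.moduleCat_exact_iff]
    intro (z : Cochain (sgl S.X₂) L n) hz
    have h0 : (sglMap S.f).f 0 ≫ z.v 0 n (zero_add n) = 0 :=
      (homCxPre_apply _ L z 0 n (zero_add n)).symm.trans (congrArg (fun w : Cochain (sgl S.X₁) L n => w.v 0 n (zero_add n)) hz)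
    rw [hf] at h0
    obtain ⟨k, hk⟩ : ∃ k, S.g ≫ k = (η _).inv ≫ z.v 0 n (zero_add n) :=
      ⟨hS.exact.desc _ ((cancel_epi (η S.X₁).hom).1 (h0.trans comp_zero.symm)), hS.exact.g_desc _ _⟩
    obtain ⟨w, hw⟩ := exists_cochain_sgl n k
    refine ⟨w, cochain_sgl_ext (M := S.X₂) ((homCxPre_apply _ L w 0 n (zero_add n)).trans ?_)⟩
    rw [hw, hg, Iso.inv_hom_id_assoc, hk, Iso.hom_inv_id_assoc]
  · refine (ModuleCat.mono_iff_injective _).2 ?_
    intro (z : Cochain (sgl S.X₃) L n) (w : Cochain (sgl S.X₃) L n) hzw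
    refine cochain_sgl_ext ?_
    have h0 : (sglMap S.g).f 0 ≫ z.v 0 n (zero_add n) = (sglMap S.g).f 0 ≫ w.v 0 n (zero_add n) :=
      (homCxPre_apply _ L z 0 n (zero_add n)).symm.trans
        ((congrArg (fun t : Cochain (sgl S.X₂) L n => t.v 0 n (zero_add n)) hzw).trans
          (homCxPre_apply _ L w 0 n (zero_add n)))
    rw [hg, hg, cancel_epi, cancel_epi, cancel_epi] at h0
    exact h0
  · refine (ModuleCat.epi_iff_surjective _).2 ?_
    intro (z : Cochain (sgl S.X₁) L n)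
    obtain ⟨w, hw⟩ := exists_cochain_sgl n (Injective.factorThru ((η S.X₁).inv ≫ z.v 0 n (zero_add n)) S.f)
    refine ⟨w, cochain_sgl_ext (M := S.X₁) ((homCxPre_apply _ L w 0 n (zero_add n)).trans ?_)⟩
    rw [hw, hf, Iso.inv_hom_id_assoc, Injective.comp_factorThru, Iso.hom_inv_id_assoc]

variable [IsLocalRing A] [IsNoetherianRing A]

local notation "𝔪" => IsLocalRing.maximalIdeal A

omit [IsNoetherianRing A] in
theorem isPowerTorsion_of_isFiniteLength {M : Type u} [AddCommGroup M] [Module A M] (h : IsFiniteLength A M) :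
    LocCoh.IsPowerTorsion 𝔪 M := by
  suffices key : ∃ L : ℕ, ∀ a ∈ 𝔪 ^ L, ∀ x : M, a • x = 0 by
    obtain ⟨L, hL⟩ := key
    exact fun x => ⟨L, fun a ha => hL a ha x⟩
  induction h with
  | of_subsingleton => exact ⟨0, fun a _ x => Subsingleton.elim _ _⟩
  | @of_simple_quotient M _ _ N _ _ ih =>
    obtain ⟨L, hL⟩ := ih
    refine ⟨L + 1, fun a ha x => ?_⟩
    have hann : 𝔪 ≤ Module.annihilator A (M ⧸ N) :=
      (IsLocalRing.eq_maximalIdeal (IsSimpleModule.annihilator_isMaximal (R := A) (M := M ⧸ N))).ge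
    rw [pow_succ] at ha
    refine Submodule.mul_induction_on ha (fun b hb c hc => ?_) fun b c hb hc => by rw [add_smul, hb, hc, add_zero]
    have hcx : c • x ∈ N := by
      rw [← Submodule.Quotient.mk_eq_zero, Submodule.Quotient.mk_smul]
      exact Module.mem_annihilator.1 (hann hc) _
    rw [mul_smul]
    exact congrArg Subtype.val (hL b hb ⟨c • x, hcx⟩)

/-- Morphisms from a torsion module into a normalized dualizing complex. -/
theorem nonempty_hom_torsion {ω : Dual.D A} (hω : Dual.IsDualizing A ω) (hn : Dual.IsNormalized A ω) {E : Type u}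
    [AddCommGroup E] [Module A E] {f : IsLocalRing.ResidueField A →ₗ[A] E} (hf : InjHull.IsInjectiveHull f)
    (N : Type u) [AddCommGroup N] [Module A N] (hN : LocCoh.IsPowerTorsion 𝔪 N) :
    Nonempty ((N →ₗ[A] E) ≃ₗ[A] (Dual.inD A N ⟶ ω⟦(0 : ℤ)⟧)) := by
  haveI := hasRgammaI (A := A) 𝔪
  obtain ⟨r⟩ := nonempty_injRep hω
  obtain ⟨a⟩ := r.nonempty_rgamma_iso
  obtain ⟨b⟩ := r.nonempty_gammaI_iso hω hn hf
  have hL : ∀ i, LocCoh.IsPowerTorsion 𝔪 (Dual.HD A (Dual.inD A N) i) := fun i => by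
    by_cases hi : i = 0
    · subst hi
      exact GrothLib.RGamma.isPowerTorsion_of_linearEquiv 𝔪 (GrothLib.DR.inDHomologyIso N).toLinearEquiv.symm hN
    · haveI := GrothLib.DR.subsingleton_HD_inD (A := A) N i hi
      exact fun x => ⟨0, fun a _ => Subsingleton.elim _ _⟩
  let F := DerivedCategory.singleFunctor (ModuleCat.{u} A) 0
  let e₁ : (N →ₗ[A] E) ≃ₗ[A] (Dual.inD A N ⟶ Dual.inD A E) :=
    (ModuleCat.homLinearEquiv (S := A) (M := ModuleCat.of A N) (N := ModuleCat.of A E)).symm.trans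
      (LinearEquiv.ofBijective (Functor.mapLinearMap A F) ⟨F.map_injective, F.map_surjective⟩)
  let e₂ : (Dual.inD A N ⟶ (DRing.RgammaI 𝔪).obj ω) ≃ₗ[A] (Dual.inD A N ⟶ ω) :=
    LinearEquiv.ofBijective (Linear.rightComp A (Dual.inD A N) ((DRing.RgammaIε 𝔪).app ω))
      (GrothLib.RGamma.hom_bijective 𝔪 _ ω hL)
  exact ⟨((e₁.trans (Linear.homCongr A (Iso.refl _) (a ≪≫ b).symm)).trans e₂).trans
    (Linear.homCongr A (Iso.refl _) ((shiftFunctorZero (Dual.D A) ℤ).app ω).symm)⟩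

/-- The dual of a module of finite length is its Matlis dual. -/
theorem nonempty_dual_finiteLength {ω : Dual.D A} (hω : Dual.IsDualizing A ω) (hn : Dual.IsNormalized A ω)
    (r : InjRep ω) {E : Type u} [AddCommGroup E] [Module A E] {f : IsLocalRing.ResidueField A →ₗ[A] E}
    (hf : InjHull.IsInjectiveHull f) (N : Type u) [AddCommGroup N] [Module A N] [Module.Finite A N]
    (hN : IsFiniteLength A N) :
    Nonempty (DRing.toD (r.dual (sgl (ModuleCat.of A N))) ≅ Dual.inD A (N →ₗ[A] E)) := by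
  let eN : DRing.toD (sgl (ModuleCat.of A N)) ≅ Dual.inD A N :=
    GrothLib.DR.toDSingleIso 0 _ ≪≫ (CategoryTheory.shiftFunctorZero' (Dual.D A) (-(0 : ℤ)) neg_zero).app _
  let D := DRing.toD (r.dual (sgl (ModuleCat.of A N)))
  have hHD : ∀ i : ℤ, Nonempty (Dual.HD A D i ≃ₗ[A] (Dual.inD A N ⟶ ω⟦i⟧)) := fun i => by
    obtain ⟨e⟩ := r.nonempty_HD_dual (sgl (ModuleCat.of A N)) i
    exact ⟨e.trans (Linear.homCongr A eN (Iso.refl _))⟩
  have hvan : ∀ j : ℤ, j ≠ 0 → IsZero ((DerivedCategory.homologyFunctor (ModuleCat.{u} A) j).obj D) := fun j hj => by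
    obtain ⟨e⟩ := hHD j
    haveI := (hom_finiteLength hω hn N hN).1 j hj
    exact (GrothLib.DR.subsingleton_iff_isZero _).1 e.toEquiv.subsingleton
  haveI : DerivedCategory.IsGE D 0 := by
    rw [DerivedCategory.isGE_iff]
    exact fun j hj => hvan j hj.ne
  haveI : DerivedCategory.IsLE D 0 := by
    rw [DerivedCategory.isLE_iff]
    exact fun j hj => hvan j hj.ne'
  obtain ⟨H, ⟨eH⟩⟩ := DerivedCategory.exists_iso_singleFunctor_obj_of_isGE_of_isLE D 0
  obtain ⟨e₁⟩ := hHD 0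
  obtain ⟨e₂⟩ := nonempty_hom_torsion hω hn hf N (isPowerTorsion_of_isFiniteLength hN)
  let e₃ : H ≃ₗ[A] (N →ₗ[A] E) :=
    ((GrothLib.DR.inDHomologyIso (A := A) H).toLinearEquiv.symm.trans
      (GrothLib.RGamma.hdIso eH 0).symm).trans (e₁.trans e₂.symm)
  exact ⟨eH ≪≫ (DerivedCategory.singleFunctor (ModuleCat.{u} A) 0).mapIso e₃.toModuleIso⟩

/-- **The triangle of an ideal of finite length.** -/
theorem exists_triangle_finiteLength (φ : A →+* B) (hs : Function.Surjective φ) {ω : Dual.D A}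
    (hω : Dual.IsDualizing A ω) (hn : Dual.IsNormalized A ω) (J : Ideal A) (hJ : ∀ a, φ a = 0 ↔ a ∈ J)
    (hfl : IsFiniteLength A J) {E : Type u} [AddCommGroup E] [Module A E] {f : IsLocalRing.ResidueField A →ₗ[A] E}
    (hf : InjHull.IsInjectiveHull f) (R : Dual.D A ⥤ Dual.D B) (adj : DRing.restrictD φ ⊣ R) :
    ∃ (u : (DRing.restrictD φ).obj (R.obj ω) ⟶ ω) (v : ω ⟶ Dual.inD A (J →ₗ[A] E))
      (w : Dual.inD A (J →ₗ[A] E) ⟶ ((DRing.restrictD φ).obj (R.obj ω))⟦(1 : ℤ)⟧),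
      Triangle.mk u v w ∈ distinguishedTriangles := by
  obtain ⟨r⟩ := nonempty_injRep hω
  haveI := r.kInj
  let p : A →ₗ[A] ((ModuleCat.restrictScalars.{u} φ).obj (ModuleCat.of B B)) :=
    { toFun := fun a => φ a
      map_add' := fun a b => map_add φ a b
      map_smul' := fun a b => map_mul φ a b }
  let S : ShortComplex (ModuleCat.{u} A) :=
    ShortComplex.mk (ModuleCat.ofHom J.subtype)
      (ModuleCat.ofHom (X := A) (Y := ((ModuleCat.restrictScalars.{u} φ).obj (ModuleCat.of B B) : Type u)) p)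
      (ModuleCat.hom_ext (LinearMap.ext fun x => (hJ x.1).2 x.2))
  have hS : S.ShortExact :=
    { exact := (ShortComplex.moduleCat_exact_iff _).2 fun x hx => ⟨⟨x, (hJ x).1 (hx :)⟩, rfl⟩
      mono_f := (ModuleCat.mono_iff_injective _).2 Subtype.val_injective
      epi_g := (ModuleCat.epi_iff_surjective _).2 fun y => (hs y :) }
  have hT := shortExact_homCxPre_single hS r.I r.inj
  obtain ⟨c⟩ := nonempty_coI_iso φ r.I R adj
  obtain ⟨e₃⟩ := nonempty_dual_finiteLength hω hn r hf J hfl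
  let e₁ : DRing.toD (DRing.homCx (srcCx φ) r.I) ≅ (DRing.restrictD φ).obj (R.obj ω) :=
    resCoIsoD φ r.I ≪≫ (DRing.restrictD φ).mapIso (c ≪≫ R.mapIso r.iso)
  let e₂ : DRing.toD (DRing.homCx (sgl (ModuleCat.of A A)) r.I) ≅ ω :=
    DerivedCategory.Q.mapIso (GrothLib.RH.homCxOneIso r.I) ≪≫ r.iso
  refine ⟨e₁.inv ≫ DerivedCategory.Q.map (GrothLib.RH.homCxPre (sglMap S.g) r.I) ≫ e₂.hom,
    e₂.inv ≫ DerivedCategory.Q.map (GrothLib.RH.homCxPre (sglMap S.f) r.I) ≫ e₃.hom,
    e₃.inv ≫ DerivedCategory.triangleOfSESδ hT ≫ e₁.hom⟦(1 : ℤ)⟧', ?_⟩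
  refine Pretriangulated.isomorphic_distinguished _ (DerivedCategory.triangleOfSES_distinguished hT) _
    (Triangle.isoMk _ _ e₁.symm e₂.symm e₃.symm ?_ ?_ ?_)
  · change (e₁.inv ≫ DerivedCategory.Q.map (GrothLib.RH.homCxPre (sglMap S.g) r.I) ≫ e₂.hom) ≫ e₂.inv =
      e₁.inv ≫ DerivedCategory.Q.map (GrothLib.RH.homCxPre (sglMap S.g) r.I)
    rw [Category.assoc, Category.assoc, e₂.hom_inv_id]
    exact congrArg (e₁.inv ≫ ·) (Category.comp_id _)
  · change (e₂.inv ≫ DerivedCategory.Q.map (GrothLib.RH.homCxPre (sglMap S.f) r.I) ≫ e₃.hom) ≫ e₃.inv =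
      e₂.inv ≫ DerivedCategory.Q.map (GrothLib.RH.homCxPre (sglMap S.f) r.I)
    rw [Category.assoc, Category.assoc, e₃.hom_inv_id]
    exact congrArg (e₂.inv ≫ ·) (Category.comp_id _)
  · change (e₃.inv ≫ DerivedCategory.triangleOfSESδ hT ≫ e₁.hom⟦(1 : ℤ)⟧') ≫ e₁.inv⟦(1 : ℤ)⟧' =
      e₃.inv ≫ DerivedCategory.triangleOfSESδ hT
    rw [Category.assoc, Category.assoc, ← Functor.map_comp, e₁.hom_inv_id, CategoryTheory.Functor.map_id]
    exact congrArg (e₃.inv ≫ ·) (Category.comp_id _)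

end GrothLib.DualCx22
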