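import Groth.Agent.Lib.DualCx22.Coind
import Groth.Agent.Lib.DCxRing.Stupid

/-!
# Finite maps: finiteness and duality for the right adjoint of restriction
-/

set_option autoImplicit false
set_option linter.style.haveILetI false
universe u

open CategoryTheory CategoryTheory.Limits CochainComplex CochainComplex.HomComplex HomologicalComplex

attribute [local instance] HasDerivedCategory.standard

namespace GrothLib.DualCx22

variable {A B : Type u} [CommRing A] [CommRing B]

/-- `B` as a restricted module. -/
theorem finite_restrict_self [Algebra A B] [Module.Finite A B] :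
    Module.Finite A ((ModuleCat.restrictScalars.{u} (algebraMap A B)).obj (ModuleCat.of B B)) := by
  suffices key : ∀ (φ : A →+* B), (∀ a, algebraMap A B a = φ a) →
      Module.Finite A ((ModuleCat.restrictScalars.{u} φ).obj (ModuleCat.of B B)) from key _ fun _ => rfl
  intro φ hφ
  let e : B →ₗ[A] ((ModuleCat.restrictScalars.{u} φ).obj (ModuleCat.of B B)) :=
    { toFun := fun x => x
      map_add' := fun _ _ => rfl
      map_smul' := fun a x => by rw [Algebra.smul_def, hφ, RingHom.id_apply]; rfl }
  exact Module.Finite.of_surjective e fun y => ⟨y, rfl⟩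

/-- `B[0]` in the derived category of `A`. -/
noncomputable def srcIso (φ : A →+* B) :
    DRing.toD (srcCx φ) ≅ Dual.inD A ((ModuleCat.restrictScalars.{u} φ).obj (ModuleCat.of B B)) :=
  GrothLib.DR.toDSingleIso 0 _ ≪≫ (CategoryTheory.shiftFunctorZero' (Dual.D A) (-(0 : ℤ)) neg_zero).app _

/-- Finiteness of the cohomology of the right adjoint. -/
theorem finite_HD_rightAdjoint [IsNoetherianRing A] [Algebra A B] [Module.Finite A B] (R : Dual.D A ⥤ Dual.D B)
    (adj : DRing.restrictD (algebraMap A B) ⊣ R) (K : Dual.D A) (a : ℤ) [K.IsGE a]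
    (hK : ∀ i, Module.Finite A (Dual.HD A K i)) (i : ℤ) : Module.Finite B (Dual.HD B (R.obj K) i) := by
  obtain ⟨I, hI, ⟨e⟩⟩ := GrothLib.RH.exists_kInjective_rep K
  haveI := hI
  obtain ⟨c⟩ := nonempty_coI_iso (algebraMap A B) I R adj
  suffices h : Module.Finite A ((ModuleCat.restrictScalars.{u} (algebraMap A B)).obj
      ((DerivedCategory.homologyFunctor (ModuleCat.{u} B) i).obj (DRing.toD (coI (algebraMap A B) I)))) by
    haveI : Module.Finite B (Dual.HD B (DRing.toD (coI (algebraMap A B) I)) i) := finite_of_restrictScalars _ _ h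
    exact Module.Finite.equiv
      ((DerivedCategory.homologyFunctor (ModuleCat.{u} B) i).mapIso (c ≪≫ R.mapIso e.symm)).toLinearEquiv
  haveI := finite_restrict_self (A := A) (B := B)
  have hh : Module.Finite A (DRing.toD (srcCx (algebraMap A B)) ⟶ (DRing.toD I)⟦i⟧) := by
    have h0 := finite_hom_inD K hK a (fun M _ _ q hq => by
      haveI : (Dual.inD A M).IsLE 0 := inferInstance
      exact subsingleton_hom_of_isLE K a _ 0 q (by omega)) (i - a + 1).toNat
      ((ModuleCat.restrictScalars.{u} (algebraMap A B)).obj (ModuleCat.of B B)) i (by omega)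
    exact Module.Finite.equiv (Linear.homCongr A (srcIso (algebraMap A B)).symm
      ((CategoryTheory.shiftFunctor (Dual.D A) i).mapIso e))
  obtain ⟨d⟩ := GrothLib.DualRing.exists_HD_homCx_equiv (srcCx (algebraMap A B)) I i
  haveI : Module.Finite A (Dual.HD A (DRing.toD (DRing.homCx (srcCx (algebraMap A B)) I)) i) :=
    Module.Finite.equiv d.symm
  exact Module.Finite.equiv ((DerivedCategory.homologyFunctor (ModuleCat.{u} A) i).mapIso (resCoIsoD (algebraMap A B) I)
    ≪≫ (DerTrunc.homologyMapIso (ModuleCat.restrictScalars.{u} (algebraMap A B)) i).app _).toLinearEquiv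

/-- Restriction of finite injective dimension along the adjunction. -/
theorem subsingleton_hom_rightAdjoint (φ : A →+* B) {R : Dual.D A ⥤ Dual.D B} (adj : DRing.restrictD φ ⊣ R)
    (K : Dual.D A) (M : Type u) [AddCommGroup M] [Module B M] (i : ℤ)
    (h : Subsingleton (Dual.inD A ((ModuleCat.restrictScalars.{u} φ).obj (ModuleCat.of B M)) ⟶ K⟦i⟧)) :
    Subsingleton (Dual.inD B M ⟶ (R.obj K)⟦i⟧) := by
  obtain ⟨e⟩ := nonempty_restrictD_inD φ M
  haveI := (e.homFromEquiv (Z := K⟦i⟧)).subsingleton
  exact (homEquivShift φ adj (Dual.inD B M) K i).subsingleton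

/-- **The right adjoint of restriction along a finite map preserves dualizing complexes.** -/
theorem isDualizing_rightAdjoint [IsNoetherianRing A] [IsNoetherianRing B] [Algebra A B] [Module.Finite A B]
    (R : Dual.D A ⥤ Dual.D B) (adj : DRing.restrictD (algebraMap A B) ⊣ R) {ω : Dual.D A}
    (hω : Dual.IsDualizing A ω) : Dual.IsDualizing B (R.obj ω) := by
  obtain ⟨r⟩ := nonempty_injRep hω
  haveI := r.kInj
  obtain ⟨a, b, hab⟩ := hω.finite_injective_dimension
  haveI : ω.IsGE a := isGE_of_hom_ring ω a fun i hi => hab A i (Or.inl hi)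
  obtain ⟨c⟩ := nonempty_coI_iso (algebraMap A B) r.I R adj
  let e : DRing.toD (coI (algebraMap A B) r.I) ≅ R.obj ω := c ≪≫ R.mapIso r.iso
  haveI := finite_restrict_self (A := A) (B := B)
  refine
    { isNoetherianRing := inferInstance
      finite_injective_dimension := ⟨a, b, fun M _ _ i hi =>
        subsingleton_hom_rightAdjoint _ adj ω M i (hab _ i hi)⟩
      finite_cohomology := finite_HD_rightAdjoint R adj ω a hω.finite_cohomology
      toEnd_bijective := ?_
      ext_self_subsingleton := fun i hi => ?_ }
  · have h : (fun x : B => x • 𝟙 (R.obj ω)) =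
        (Linear.homCongr B e e) ∘ fun x : B => x • 𝟙 (DRing.toD (coI (algebraMap A B) r.I)) := by
      funext x
      simp [Linear.homCongr_apply]
    rw [h]
    exact (Linear.homCongr B e e).bijective.comp (bijective_toEnd_coI (algebraMap A B) r inferInstance)
  · let M := srcCx (algebraMap A B)
    have hM : ∀ q, Module.Finite A (Dual.HD A (DRing.toD M) q) := fun q => by
      by_cases hq : q = 0
      · subst hq
        exact Module.Finite.equiv (((DerivedCategory.homologyFunctorFactors (ModuleCat.{u} A) 0).app _) ≪≫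
          (HomologicalComplex.singleObjHomologySelfIso (ComplexShape.up ℤ) 0 _)).toLinearEquiv.symm
      · haveI : Subsingleton (Dual.HD A (DRing.toD M) q) :=
          (GrothLib.DR.subsingleton_iff_isZero _).2 ((isZero_homology_of_X (isZero_single_obj_X _ _ _ _ hq)).of_iso
            ((DerivedCategory.homologyFunctorFactors (ModuleCat.{u} A) q).app M))
        exact Module.Finite.of_finite
    obtain ⟨d⟩ := r.nonempty_hom_dual M hM i
    haveI : Subsingleton (Dual.HD A (DRing.toD M) i) :=
      (GrothLib.DR.subsingleton_iff_isZero _).2 ((isZero_homology_of_X (isZero_single_obj_X _ _ _ _ hi)).of_iso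
        ((DerivedCategory.homologyFunctorFactors (ModuleCat.{u} A) i).app M))
    haveI : Subsingleton (DRing.toD (r.dual M) ⟶ ω⟦i⟧) := d.toEquiv.subsingleton
    haveI : Subsingleton ((DRing.restrictD (algebraMap A B)).obj (R.obj ω) ⟶ ω⟦i⟧) :=
      (((DRing.restrictD (algebraMap A B)).mapIso e).symm ≪≫ (resCoIsoD (algebraMap A B) r.I).symm).homFromEquiv
        (Z := ω⟦i⟧) |>.subsingleton
    exact (homEquivShift _ adj (R.obj ω) ω i).subsingleton

/-- Maps out of a finite power. -/
theorem subsingleton_hom_pi {ι : Type} [Fintype ι] [DecidableEq ι] (N : Type u) [AddCommGroup N] [Module A N]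
    (Y : Dual.D A) (h : Subsingleton (Dual.inD A N ⟶ Y)) : Subsingleton (Dual.inD A (ι → N) ⟶ Y) := by
  let P := ModuleCat.of A (ι → N)
  have hid : 𝟙 P = ∑ j : ι, (ModuleCat.ofHom (LinearMap.proj j : (ι → N) →ₗ[A] N) : P ⟶ ModuleCat.of A N) ≫
      ModuleCat.ofHom (LinearMap.single A (fun _ : ι => N) j) := by
    refine ModuleCat.hom_ext (LinearMap.ext fun x => ?_)
    rw [ModuleCat.hom_sum]
    simp only [LinearMap.sum_apply]
    exact (Finset.univ_sum_single x).symm
  refine subsingleton_of_forall_eq 0 fun f => ?_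
  have : f = (DerivedCategory.singleFunctor (ModuleCat.{u} A) 0).map (𝟙 P) ≫ f := by
    rw [CategoryTheory.Functor.map_id, Category.id_comp]
  rw [this, hid, Functor.map_sum, Preadditive.sum_comp]
  refine Finset.sum_eq_zero fun j _ => ?_
  rw [Functor.map_comp, Category.assoc,
    Subsingleton.elim (α := Dual.inD A N ⟶ Y) ((DerivedCategory.singleFunctor (ModuleCat.{u} A) 0).map
      (ModuleCat.ofHom (LinearMap.single A (fun _ : ι => N) j)) ≫ f) 0]
  exact comp_zero

/-- Restricted residue field of a finite local extension. -/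
theorem subsingleton_hom_restrict_residue [IsLocalRing A] [IsLocalRing B] [Algebra A B] [IsLocalHom (algebraMap A B)]
    [Module.Finite A B] (Y : Dual.D A) (h : Subsingleton (Dual.inD A (IsLocalRing.ResidueField A) ⟶ Y)) :
    Subsingleton (Dual.inD A ((ModuleCat.restrictScalars.{u} (algebraMap A B)).obj
      (ModuleCat.of B (IsLocalRing.ResidueField B))) ⟶ Y) := by
  suffices key : ∀ (φ : A →+* B), (∀ a, algebraMap A B a = φ a) →
      Subsingleton (Dual.inD A ((ModuleCat.restrictScalars.{u} φ).obj
        (ModuleCat.of B (IsLocalRing.ResidueField B))) ⟶ Y) from key _ fun _ => rfl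
  intro φ hφ
  let κ := IsLocalRing.ResidueField A
  let bκ := Module.finBasis κ (IsLocalRing.ResidueField B)
  let e₀ : IsLocalRing.ResidueField B →ₗ[A] ((ModuleCat.restrictScalars.{u} φ).obj
      (ModuleCat.of B (IsLocalRing.ResidueField B))) :=
    { toFun := fun x => x
      map_add' := fun _ _ => rfl
      map_smul' := fun a x => by rw [RingHom.id_apply, algebra_compatible_smul B a x, hφ]; rfl }
  let e : (Fin (Module.finrank κ (IsLocalRing.ResidueField B)) → κ) ≃ₗ[A]
      ((ModuleCat.restrictScalars.{u} φ).obj (ModuleCat.of B (IsLocalRing.ResidueField B))) :=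
    ((bκ.equivFun.symm).restrictScalars A).trans (LinearEquiv.ofBijective e₀ ⟨fun _ _ h => h, fun y => ⟨y, rfl⟩⟩)
  haveI := subsingleton_hom_pi (A := A) (ι := Fin (Module.finrank κ (IsLocalRing.ResidueField B))) κ Y h
  exact (((DerivedCategory.singleFunctor (ModuleCat.{u} A) 0).mapIso e.toModuleIso).homFromEquiv (Z := Y)).symm.subsingleton

end GrothLib.DualCx22
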