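import Groth.Agent.Lib.DualCx22.FlatHom
import Groth.Agent.Lib.DualCx22.EssFT
import Groth.Agent.Lib.DualRing.Bottom
import Groth.Agent.Lib.DualRing.Hom
import Mathlib.RingTheory.Ideal.AssociatedPrime.Finiteness
import Mathlib.Algebra.Homology.DerivedCategory.HomologySequence

/-!
# Eventual vanishing of `Hom(M, R[i])` for pointwise finite injective dimension

For every prime `q` the groups `Hom(M, R[i])` vanish at `q` for large `i`; to get one bound for `M = A/p` we compare
with an iterated cone of a system of generators of `p` on `A`, whose lowest cohomology at `p` sees the top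
nonvanishing degree.
-/

set_option autoImplicit false
set_option linter.style.haveILetI false
universe u

open CategoryTheory CategoryTheory.Limits CategoryTheory.Pretriangulated DerivedCategory

attribute [local instance] HasDerivedCategory.standard

namespace GrothLib.DualCx22.Evz

variable {A : Type u} [CommRing A] (R : Dual.D A)

/-- `Hom(X, R[i])` vanishes at `q`. -/
def VH (q : Ideal A) (X : Dual.D A) (i : ℤ) : Prop := ∀ f : X ⟶ R⟦i⟧, ∃ t ∉ q, t • f = 0

variable {R} {q : Ideal A}

theorem vh_of_subsingleton [hq : q.IsPrime] {X : Dual.D A} {i : ℤ} (h : Subsingleton (X ⟶ R⟦i⟧)) : VH R q X i :=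
  fun f => ⟨1, hq.one_notMem, by rw [one_smul]; exact Subsingleton.elim f 0⟩

theorem vh_iso {X Y : Dual.D A} (e : X ≅ Y) {i : ℤ} (h : VH R q X i) : VH R q Y i := fun f => by
  obtain ⟨t, ht, h0⟩ := h (e.hom ≫ f)
  exact ⟨t, ht, by rw [← cancel_epi e.hom, Linear.comp_smul, h0, comp_zero]⟩

theorem vh_mid [hq : q.IsPrime] (T : Triangle (Dual.D A)) (hT : T ∈ distTriang _) {i : ℤ}
    (h₁ : VH R q T.obj₁ i) (h₃ : VH R q T.obj₃ i) : VH R q T.obj₂ i := fun f => by
  obtain ⟨t, ht, h0⟩ := h₁ (T.mor₁ ≫ f)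
  obtain ⟨g, hg⟩ := Triangle.yoneda_exact₂ T hT (t • f) (by rw [Linear.comp_smul, h0])
  obtain ⟨s, hs, h0'⟩ := h₃ g
  refine ⟨s * t, hq.mul_notMem hs ht, ?_⟩
  rw [mul_smul, hg, ← Linear.comp_smul, h0', comp_zero]

theorem vh_shift {X : Dual.D A} (n i j : ℤ) (h : j + n = i) (hX : VH R q X j) : VH R q (X⟦n⟧) i := fun f => by
  obtain ⟨t, ht, h0⟩ := hX (DualRing.shiftLeft R X n i j h f)
  exact ⟨t, ht, (DualRing.shiftLeft R X n i j h).injective (by rw [map_smul, h0, map_zero])⟩

theorem vh_of_shift {X : Dual.D A} (n i j : ℤ) (h : j + n = i) (hX : VH R q (X⟦n⟧) i) : VH R q X j := fun f => by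
  obtain ⟨t, ht, h0⟩ := hX ((DualRing.shiftLeft R X n i j h).symm f)
  exact ⟨t, ht, (DualRing.shiftLeft R X n i j h).symm.injective (by rw [map_smul, h0, map_zero])⟩

theorem vh_fst [q.IsPrime] (T : Triangle (Dual.D A)) (hT : T ∈ distTriang _) {i : ℤ}
    (h₂ : VH R q T.obj₂ i) (h₃ : VH R q T.obj₃ (i + 1)) : VH R q T.obj₁ i :=
  vh_mid T.invRotate (inv_rot_of_distTriang _ hT) (vh_shift (-1) i (i + 1) (by omega) h₃) h₂

theorem vh_trd [q.IsPrime] (T : Triangle (Dual.D A)) (hT : T ∈ distTriang _) {i : ℤ}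
    (h₂ : VH R q T.obj₂ i) (h₁ : VH R q T.obj₁ (i - 1)) : VH R q T.obj₃ i :=
  vh_mid T.rotate (rot_of_distTriang _ hT) h₂ (vh_shift 1 i (i - 1) (by omega) h₁)

section Module

variable [IsNoetherianRing A] [q.IsPrime]

theorem vh_congr {M N : Type u} [AddCommGroup M] [Module A M] [AddCommGroup N] [Module A N] (e : M ≃ₗ[A] N)
    {i : ℤ} (h : VH R q (Dual.inD A M) i) : VH R q (Dual.inD A N) i :=
  vh_iso ((DerivedCategory.singleFunctor (ModuleCat.{u} A) 0).mapIso e.toModuleIso) h

/-- Devissage: a bound for the primes of the support is a bound for the module. -/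
theorem vh_devissage (M : Type u) [AddCommGroup M] [Module A M] [Module.Finite A M] (s : ℤ)
    (h : ∀ (p : PrimeSpectrum A), p ∈ Module.support A M → ∀ i, s < i → VH R q (Dual.inD A (A ⧸ p.asIdeal)) i) :
    ∀ i, s < i → VH R q (Dual.inD A M) i := by
  refine IsNoetherianRing.induction_on_isQuotientEquivQuotientPrime A
    (motive := fun N _ _ _ => (∀ (p : PrimeSpectrum A), p ∈ Module.support A N → ∀ i, s < i →
      VH R q (Dual.inD A (A ⧸ p.asIdeal)) i) → ∀ i, s < i → VH R q (Dual.inD A N) i) inferInstance ?_ ?_ ?_ h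
  · intro N _ _ _ _ _ i _
    refine vh_of_subsingleton ⟨fun a b => ?_⟩
    have hz : IsZero (Dual.inD A N) := Functor.map_isZero _ (ModuleCat.isZero_of_subsingleton (ModuleCat.of A N))
    exact hz.eq_of_src a b
  · intro N _ _ _ p e hp i hi
    refine vh_congr e.symm (hp p ?_ i hi)
    rw [e.support_eq, Module.support_eq_zeroLocus, PrimeSpectrum.mem_zeroLocus, Ideal.annihilator_quotient]
  · intro N₁ _ _ _ N₂ _ _ _ N₃ _ _ _ f g hf hg hfg h₁ h₃ hp i hi
    obtain ⟨T, hT, e₁, e₂, e₃⟩ := DualRing.exists_triangle hf hg hfg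
    rw [← e₂]
    refine vh_mid T hT ?_ ?_
    · rw [e₁]; exact h₁ (fun p hp' => hp p (Module.support_subset_of_injective f hf hp')) i hi
    · rw [e₃]; exact h₃ (fun p hp' => hp p (Module.support_subset_of_surjective g hg hp')) i hi

end Module

/-- Cohomology is linear. -/
theorem homologyMap_smul_id (x : A) (X : Dual.D A) (i : ℤ) :
    (homologyFunctor (ModuleCat.{u} A) i).map (x • 𝟙 X) = x • 𝟙 _ := by
  haveI : (HomologicalComplex.homologyFunctor (ModuleCat.{u} A) (ComplexShape.up ℤ) i).Linear A :=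
    ⟨fun {K L} f r => by
      have h : (HomologicalComplex.shortComplexFunctor (ModuleCat.{u} A) (ComplexShape.up ℤ) i).map (r • f) =
          r • (HomologicalComplex.shortComplexFunctor (ModuleCat.{u} A) (ComplexShape.up ℤ) i).map f := by
        ext : 1 <;> rfl
      change ShortComplex.homologyMap _ = r • ShortComplex.homologyMap _
      rw [h, ShortComplex.homologyMap_smul]
      rfl⟩
  haveI : Localization.Lifting DerivedCategory.Q (HomologicalComplex.quasiIso (ModuleCat.{u} A) (ComplexShape.up ℤ))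
      (HomologicalComplex.homologyFunctor (ModuleCat.{u} A) (ComplexShape.up ℤ) i)
      (homologyFunctor (ModuleCat.{u} A) i) := ⟨homologyFunctorFactors (ModuleCat.{u} A) i⟩
  haveI := (Localization.functor_linear_iff DerivedCategory.Q
    (HomologicalComplex.quasiIso (ModuleCat.{u} A) (ComplexShape.up ℤ)) A
    (HomologicalComplex.homologyFunctor (ModuleCat.{u} A) (ComplexShape.up ℤ) i)
    (homologyFunctor (ModuleCat.{u} A) i)).1 inferInstance
  rw [Functor.map_smul, CategoryTheory.Functor.map_id]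

/-- An iterated cone on generators of an ideal inside `p`. -/
theorem exists_cone [IsNoetherianRing A] (p : Ideal A) (b : ℤ) (hb : ∀ i, b < i → Subsingleton (Dual.inD A A ⟶ R⟦i⟧))
    (G : Finset A) : (G : Set A) ⊆ p → ∃ (X : Dual.D A) (m : ℕ), (∀ i, Module.Finite A (Dual.HD A X i)) ∧
      X.IsGE (-(m : ℤ)) ∧ X.IsLE 0 ∧ (∀ i, b + m < i → Subsingleton (X ⟶ R⟦i⟧)) ∧
      (∀ a ∈ G, ∀ i, ∀ z : Dual.HD A X i, ∃ k : ℕ, a ^ k • z = 0) ∧
      ∃ φ : Dual.HD A X 0 →ₗ[A] A ⧸ p, Function.Surjective φ := by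
  classical
  induction G using Finset.induction with
  | empty =>
    intro _
    refine ⟨Dual.inD A A, 0, fun i => ?_, (inferInstance : (Dual.inD A A).IsGE 0), inferInstance,
      fun i hi => hb i (by simpa using hi), fun a ha => absurd ha (Finset.notMem_empty a), ⟨(Submodule.mkQ p).comp
        (DR.inDHomologyIso A).toLinearEquiv.toLinearMap,
        (Submodule.mkQ_surjective p).comp (DR.inDHomologyIso A).toLinearEquiv.surjective⟩⟩
    by_cases hi : i = 0
    · subst hi
      exact Module.Finite.equiv (DR.inDHomologyIso A).toLinearEquiv.symm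
    · haveI := DR.subsingleton_HD_inD (A := A) A i hi
      infer_instance
  | insert x G hx ih =>
    intro hG
    rw [Finset.coe_insert, Set.insert_subset_iff] at hG
    obtain ⟨X, m, hfin, hge, hle, hv, hk, φ, hφ⟩ := ih hG.2
    obtain ⟨C, g, d, hT⟩ := distinguished_cocone_triangle (x • 𝟙 X)
    let H : ℤ → Dual.D A ⥤ ModuleCat.{u} A := fun i => homologyFunctor (ModuleCat.{u} A) i
    let T := Triangle.mk (x • 𝟙 X) g d
    have hf : ∀ i, ∀ z : (H i).obj X, (H i).map (x • 𝟙 X) z = x • z := fun i z => by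
      rw [homologyMap_smul_id]
      rfl
    have e2 : ∀ i, Function.Exact ((H i).map T.mor₁) ((H i).map T.mor₂) := fun i =>
      (ShortComplex.ShortExact.moduleCat_exact_iff_function_exact _).1 (HomologySequence.exact₂ T hT i)
    have e3 : ∀ i, Function.Exact ((H i).map T.mor₂) (HomologySequence.δ T i (i + 1) rfl) := fun i =>
      (ShortComplex.ShortExact.moduleCat_exact_iff_function_exact _).1 (HomologySequence.exact₃ T hT i (i + 1) rfl)
    have e1 : ∀ i, Function.Exact (HomologySequence.δ T i (i + 1) rfl) ((H (i + 1)).map T.mor₁) := fun i =>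
      (ShortComplex.ShortExact.moduleCat_exact_iff_function_exact _).1 (HomologySequence.exact₁ T hT i (i + 1) rfl)
    have hsub : ∀ i, (i < -((m + 1 : ℕ) : ℤ) ∨ 0 < i) → Subsingleton ((H i).obj C) := fun i hi => by
      haveI : Subsingleton ((H i).obj X) := (DR.subsingleton_iff_isZero _).2 (by
        rcases hi with hi | hi
        · exact X.isZero_of_isGE (-(m : ℤ)) i (by omega)
        · exact X.isZero_of_isLE 0 i hi)
      haveI : Subsingleton ((H (i + 1)).obj X) := (DR.subsingleton_iff_isZero _).2 (by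
        rcases hi with hi | hi
        · exact X.isZero_of_isGE (-(m : ℤ)) (i + 1) (by omega)
        · exact X.isZero_of_isLE 0 (i + 1) (by omega))
      refine subsingleton_of_forall_eq 0 fun z => ?_
      obtain ⟨y, hy⟩ := (e3 i z).1 (Subsingleton.elim (α := (H (i + 1)).obj X) _ _)
      rw [← hy, show y = 0 from Subsingleton.elim (α := (H i).obj X) y 0]
      exact map_zero ((H i).map T.mor₂).hom
    refine ⟨C, m + 1, fun i => ?_, ?_, ?_, fun i hi => ?_, fun a ha i z => ?_, ?_⟩
    · haveI : Module.Finite A ((H i).obj X) := hfin i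
      haveI : Module.Finite A ((H (i + 1)).obj X) := hfin (i + 1)
      haveI : IsNoetherian A ((H i).obj T.obj₂) := inferInstanceAs (IsNoetherian A ((H i).obj X))
      haveI : IsNoetherian A ((H (i + 1)).obj T.obj₁) := inferInstanceAs (IsNoetherian A ((H (i + 1)).obj X))
      haveI : IsNoetherian A ((H i).obj T.obj₃) := isNoetherian_of_range_eq_ker ((H i).map T.mor₂).hom
        (HomologySequence.δ T i (i + 1) rfl).hom (LinearMap.exact_iff.1 (e3 i)).symm
      exact (inferInstance : Module.Finite A ((H i).obj T.obj₃))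
    · rw [DerivedCategory.isGE_iff]
      exact fun i hi => (DR.subsingleton_iff_isZero _).1 (hsub i (Or.inl hi))
    · rw [DerivedCategory.isLE_iff]
      exact fun i hi => (DR.subsingleton_iff_isZero _).1 (hsub i (Or.inr hi))
    · refine subsingleton_of_forall_eq 0 fun f => ?_
      obtain ⟨f', hf'⟩ := Triangle.yoneda_exact₂ T.rotate (rot_of_distTriang _ hT) f
        ((hv i (by push_cast at hi; omega)).elim _ _)
      haveI := hv (i - 1) (by push_cast at hi; omega)
      haveI : Subsingleton (X⟦(1 : ℤ)⟧ ⟶ R⟦i⟧) :=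
        (DualRing.shiftLeft R X 1 i (i - 1) (by omega)).toEquiv.subsingleton
      rw [hf', Subsingleton.elim (α := X⟦(1 : ℤ)⟧ ⟶ R⟦i⟧) f' 0]
      exact comp_zero
    · obtain ⟨k₁, hk₁⟩ : ∃ k, a ^ k • (HomologySequence.δ T i (i + 1) rfl) z = 0 := by
        rcases Finset.mem_insert.1 ha with rfl | ha
        · refine ⟨1, ?_⟩
          rw [pow_one]
          exact (hf (i + 1) _).symm.trans ((e1 i).apply_apply_eq_zero z)
        · exact hk a ha (i + 1) _
      obtain ⟨y, hy⟩ := (e3 i (a ^ k₁ • z)).1 ((map_smul _ _ _).trans hk₁)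
      obtain ⟨k₂, hk₂⟩ : ∃ k, (H i).map T.mor₂ (a ^ k • y) = 0 := by
        rcases Finset.mem_insert.1 ha with rfl | ha
        · refine ⟨1, ?_⟩
          rw [pow_one]
          exact (congrArg ((H i).map T.mor₂) (hf i y).symm).trans ((e2 i).apply_apply_eq_zero y)
        · obtain ⟨k, hk⟩ := hk a ha i y
          exact ⟨k, (congrArg ((H i).map T.mor₂) hk).trans (map_zero _)⟩
      refine ⟨k₂ + k₁, ?_⟩
      rw [pow_add, mul_smul]
      refine (congrArg (a ^ k₂ • ·) hy).symm.trans ?_
      exact (map_smul ((H i).map T.mor₂).hom _ _).symm.trans hk₂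
    · have hsurj : Function.Surjective ((H 0).map T.mor₂).hom := fun z => by
        haveI : Subsingleton ((H (0 + 1)).obj X) :=
          (DR.subsingleton_iff_isZero _).2 (X.isZero_of_isLE 0 (0 + 1) (by omega))
        exact (e3 0 z).1 (Subsingleton.elim (α := (H (0 + 1)).obj X) _ _)
      have hker : LinearMap.ker ((H 0).map T.mor₂).hom ≤ LinearMap.ker φ := fun z hz => by
        obtain ⟨w, rfl⟩ := (e2 0 z).1 hz
        change φ ((H 0).map (x • 𝟙 X) w) = 0
        refine (congrArg φ (hf 0 w)).trans ?_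
        refine (map_smul φ x w).trans ?_
        obtain ⟨c, hc⟩ := Submodule.Quotient.mk_surjective p (φ w)
        change x • φ w = 0
        rw [← hc, ← Submodule.Quotient.mk_smul, Submodule.Quotient.mk_eq_zero, smul_eq_mul]
        exact p.mul_mem_right c hG.1
      refine ⟨(Submodule.liftQ _ φ hker).comp (((H 0).map T.mor₂).hom.quotKerEquivOfSurjective hsurj).symm.toLinearMap,
        fun v => ?_⟩
      obtain ⟨w, rfl⟩ := hφ v
      refine ⟨((H 0).map T.mor₂).hom w, ?_⟩
      rw [LinearMap.comp_apply]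
      erw [LinearEquiv.coe_coe]
      erw [show (((H 0).map T.mor₂).hom.quotKerEquivOfSurjective hsurj).symm (((H 0).map T.mor₂).hom w) =
        Submodule.Quotient.mk w from (LinearEquiv.symm_apply_eq _).2 rfl]
      rfl

/-- Above the bottom cohomology the third object of the bottom triangle has the same cohomology. -/
theorem nonempty_homology_top_iso {M : Type u} [AddCommGroup M] [Module A M] (T : Triangle (Dual.D A))
    (hT : T ∈ distTriang _) (c j : ℤ) (e₁ : T.obj₁ ≅ (Dual.inD A M)⟦-c⟧) (hj : c + 1 ≤ j) :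
    Nonempty (Dual.HD A T.obj₂ j ≃ₗ[A] Dual.HD A T.obj₃ j) := by
  have hz : ∀ l, c < l → IsZero ((homologyFunctor (ModuleCat.{u} A) l).obj T.obj₁) := fun l hl => by
    haveI : ((Dual.inD A M)⟦-c⟧).IsLE c := TStructure.t.isLE_shift (Dual.inD A M) 0 (-c) c (by omega)
    haveI : T.obj₁.IsLE c := TStructure.t.isLE_of_iso e₁.symm c
    exact T.obj₁.isZero_of_isLE c l hl
  haveI := (HomologySequence.mono_homologyMap_mor₂_iff T hT j).2 ((hz j (by omega)).eq_of_src _ _)
  haveI := (HomologySequence.epi_homologyMap_mor₂_iff T hT j (j + 1) rfl).2 ((hz (j + 1) (by omega)).eq_of_tgt _ _)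
  haveI := isIso_of_mono_of_epi ((homologyFunctor (ModuleCat.{u} A) j).map T.mor₂)
  exact ⟨(asIso ((homologyFunctor (ModuleCat.{u} A) j).map T.mor₂)).toLinearEquiv⟩

/-- An object in degrees `[c, c + n)` all whose cohomology vanishes beyond `L` vanishes beyond `L - c`. -/
theorem vh_of_homology [q.IsPrime] : ∀ (n : ℕ) (U : Dual.D A) (c L : ℤ),
    (∀ j, (j < c ∨ c + n ≤ j) → Subsingleton (Dual.HD A U j)) →
    (∀ j l, L < l → VH R q (Dual.inD A (Dual.HD A U j)) l) → ∀ l, L - c < l → VH R q U l := by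
  intro n
  induction n with
  | zero =>
    intro U c L h0 _ l _
    refine vh_of_subsingleton ⟨fun u v => IsZero.eq_of_src ?_ u v⟩
    haveI : U.IsLE (c - 1) :=
      (DerivedCategory.isLE_iff _ _).2 fun j hj => (DR.subsingleton_iff_isZero _).1 (h0 j (by omega))
    haveI : U.IsGE c := (DerivedCategory.isGE_iff _ _).2 fun j hj => (DR.subsingleton_iff_isZero _).1 (h0 j (by omega))
    exact TStructure.t.isZero U (c - 1) c (by omega)
  | succ n ih =>
    intro U c L h0 hv l hl
    obtain ⟨T, hT, rfl, ⟨e₁⟩, hge⟩ := DualRing.exists_bottom_triangle U c fun j hj => h0 j (Or.inl hj)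
    refine vh_mid T hT (vh_iso e₁.symm (vh_shift (-c) l (l + c) (by omega) (hv c _ (by omega)))) ?_
    have hlow : ∀ j, j < c + 1 → Subsingleton (Dual.HD A T.obj₃ j) := fun j hj =>
      (DR.subsingleton_iff_isZero _).2 (T.obj₃.isZero_of_isGE (c + 1) j hj)
    refine ih T.obj₃ (c + 1) L (fun j hj => ?_) (fun j l hl => ?_) l (by omega)
    · by_cases hjc : j < c + 1
      · exact hlow j hjc
      · obtain ⟨e⟩ := nonempty_homology_top_iso T hT c j e₁ (by omega)
        haveI := h0 j (by push_cast; omega)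
        exact e.symm.toEquiv.subsingleton
    · by_cases hjc : j < c + 1
      · haveI := hlow j hjc
        exact vh_of_subsingleton ⟨fun u v => IsZero.eq_of_src
          (Functor.map_isZero _ (ModuleCat.isZero_of_subsingleton (ModuleCat.of A (Dual.HD A T.obj₃ j)))) u v⟩
      · obtain ⟨e⟩ := nonempty_homology_top_iso T hT c j e₁ (by omega)
        exact fun f => by
          obtain ⟨t, ht, h⟩ := (vh_iso ((DerivedCategory.singleFunctor (ModuleCat.{u} A) 0).mapIso e.toModuleIso)
            (hv j l hl)) f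
          exact ⟨t, ht, h⟩

section Main

variable [IsNoetherianRing A]

theorem vh_global {X : Dual.D A} {i : ℤ} (h : ∀ p : PrimeSpectrum A, VH R p.asIdeal X i) :
    Subsingleton (X ⟶ R⟦i⟧) := by
  refine subsingleton_of_forall_eq 0 fun f => ?_
  by_contra hne
  obtain ⟨M, hM, hle⟩ := Ideal.exists_le_maximal (LinearMap.ker (LinearMap.toSpanSingleton A (X ⟶ R⟦i⟧) f))
    (fun htop => hne (by
      have := htop ▸ (Submodule.mem_top (x := (1 : A)))
      simpa using this))
  obtain ⟨t, ht, h0⟩ := h ⟨M, hM.isPrime⟩ f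
  exact ht (hle h0)

/-- The bound at each prime, for all modules. -/
theorem exists_vh_bound (hbdd : ∃ a : ℤ, R.IsGE a) (q : PrimeSpectrum A)
    [DRing.HasLBaseChange (algebraMap A (Localization.AtPrime q.asIdeal))]
    (hpw : DRing.HasFiniteInjDim (Localization.AtPrime q.asIdeal)
      ((DRing.LBaseChange (algebraMap A (Localization.AtPrime q.asIdeal))).obj R)) :
    ∃ c : ℤ, ∀ (M : Type u) [AddCommGroup M] [Module A M] [Module.Finite A M] (i : ℤ), c < i →
      VH R q.asIdeal (Dual.inD A M) i := by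
  let S := Localization.AtPrime q.asIdeal
  haveI : Module.Flat A S := IsLocalization.flat S q.asIdeal.primeCompl
  haveI := GrothLib.DR.preservesFiniteLimits_extendScalars (algebraMap A S) GrothLib.DR.flat_algebraMap
  obtain ⟨a, ha⟩ := hbdd
  obtain ⟨eb⟩ := nonempty_lBase_iso_bcD (A := A) S
  obtain ⟨a', b', hab⟩ := hpw
  refine ⟨b', fun M _ _ _ i hi f => ?_⟩
  haveI h1 : Subsingleton (Dual.inD S (TensorProduct A S M) ⟶
      ((DRing.LBaseChange (algebraMap A S)).obj R)⟦i⟧) := DR.subsingleton_ext_of_injAmp hab _ i (Or.inr hi)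
  haveI : Subsingleton (Dual.inD S (TensorProduct A S M) ⟶ ((bcD S).obj R)⟦i⟧) :=
    (((shiftFunctor (Dual.D S) i).mapIso (eb.app R)).homToEquiv (Z := Dual.inD S (TensorProduct A S M))).symm.subsingleton
  obtain ⟨e⟩ := nonempty_bcD_inD (A := A) S M
  haveI : Subsingleton ((bcD S).obj (Dual.inD A M) ⟶ ((bcD S).obj R)⟦i⟧) :=
    (e.homFromEquiv (Z := ((bcD S).obj R)⟦i⟧)).subsingleton
  haveI := ((shiftBc S R i).homToEquiv (Z := (bcD S).obj (Dual.inD A M))).subsingleton
  haveI : Subsingleton (TensorProduct A S (Dual.inD A M ⟶ R⟦i⟧)) :=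
    (isBC_inD S R a (i - a + 1).toNat M i (by omega)).1.subsingleton
  exact (IsLocalizedModule.eq_zero_iff q.asIdeal.primeCompl
    (TensorProduct.mk A S (Dual.inD A M ⟶ R⟦i⟧) 1) (m := f)).1 (Subsingleton.elim _ _) |>.elim
      fun c hc => ⟨c, c.2, hc⟩

/-- A uniform bound for the modules supported in a set of primes with uniform bounds. -/
theorem exists_finite_bound {ι : Type*} (s : Finset ι) (f : ι → ℤ → Prop) (h : ∀ j ∈ s, ∃ N, ∀ i, N < i → f j i) :
    ∃ N, ∀ j ∈ s, ∀ i, N < i → f j i := by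
  classical
  induction s using Finset.induction with
  | empty => exact ⟨0, by simp⟩
  | insert j s hj ih =>
    obtain ⟨N, hN⟩ := ih fun k hk => h k (Finset.mem_insert_of_mem hk)
    obtain ⟨M, hM⟩ := h j (Finset.mem_insert_self j s)
    exact ⟨max N M, fun k hk i hi => by
      rcases Finset.mem_insert.1 hk with rfl | hk
      · exact hM i (lt_of_le_of_lt (le_max_right _ _) hi)
      · exact hN k hk i (lt_of_le_of_lt (le_max_left _ _) hi)⟩

/-- **Eventual vanishing.** -/
theorem exists_bound (a b : ℤ) [R.IsGE a] (hb : ∀ i, b < i → Subsingleton (Dual.inD A A ⟶ R⟦i⟧))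
    (hpw : ∀ q : PrimeSpectrum A, ∃ c : ℤ, ∀ (M : Type u) [AddCommGroup M] [Module A M] [Module.Finite A M]
      (i : ℤ), c < i → VH R q.asIdeal (Dual.inD A M) i) (p : Ideal A) :
    p.IsPrime → ∃ N : ℤ, ∀ i, N < i → Subsingleton (Dual.inD A (A ⧸ p) ⟶ R⟦i⟧) := by
  induction p using IsNoetherian.induction with
  | hgt p ih =>
  intro hp
  classical
  obtain ⟨G, hG'⟩ := IsNoetherian.noetherian p
  have hG : (G : Set A) ⊆ p ∧ Ideal.span (G : Set A) = p := ⟨hG' ▸ Ideal.subset_span, hG'⟩
  obtain ⟨X, m, hfin, hge, hle, hv, hk, φ, hφ⟩ := exists_cone (R := R) p b hb G hG.1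
  let J := Finset.Icc (-(m : ℤ)) 0
  have hsupp : ∀ j, ∀ r : PrimeSpectrum A, r ∈ Module.support A (Dual.HD A X j) → p ≤ r.asIdeal := by
    intro j r hr
    rw [Module.mem_support_iff'] at hr
    obtain ⟨z, hz⟩ := hr
    refine hG.2 ▸ Ideal.span_le.2 fun g hg => ?_
    obtain ⟨k, hk'⟩ := hk g hg j z
    exact r.2.mem_of_pow_mem k (not_not.1 fun hgk => hz _ hgk hk')
  -- finitely many strictly bigger primes through which the cohomology is built
  have hdev : ∀ (M : Type u) [AddCommGroup M] [Module A M] [Module.Finite A M],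
      (∀ r : PrimeSpectrum A, r ∈ Module.support A M → p ≤ r.asIdeal) →
      ∃ N : ℤ, (∀ (q : PrimeSpectrum A) (s i : ℤ), N ≤ s →
          (∀ j, s < j → VH R q.asIdeal (Dual.inD A (A ⧸ p)) j) → s < i → VH R q.asIdeal (Dual.inD A M) i) ∧
        ((⟨p, hp⟩ : PrimeSpectrum A) ∉ Module.support A M →
          ∀ (q : PrimeSpectrum A) (i : ℤ), N < i → VH R q.asIdeal (Dual.inD A M) i) := by
    intro M _ _ _ hM
    refine IsNoetherianRing.induction_on_isQuotientEquivQuotientPrime A
      (motive := fun N' _ _ _ => (∀ r : PrimeSpectrum A, r ∈ Module.support A N' → p ≤ r.asIdeal) →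
        ∃ N : ℤ, (∀ (q : PrimeSpectrum A) (s i : ℤ), N ≤ s →
          (∀ j, s < j → VH R q.asIdeal (Dual.inD A (A ⧸ p)) j) → s < i → VH R q.asIdeal (Dual.inD A N') i) ∧
        ((⟨p, hp⟩ : PrimeSpectrum A) ∉ Module.support A N' →
          ∀ (q : PrimeSpectrum A) (i : ℤ), N < i → VH R q.asIdeal (Dual.inD A N') i)) inferInstance ?_ ?_ ?_ hM
    · intro N' _ _ _ _ _
      have hs : ∀ i : ℤ, Subsingleton (Dual.inD A N' ⟶ R⟦i⟧) := fun i => ⟨fun x y => IsZero.eq_of_src
        (Functor.map_isZero _ (ModuleCat.isZero_of_subsingleton (ModuleCat.of A N'))) x y⟩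
      exact ⟨0, fun q s i _ _ _ => vh_of_subsingleton (hs i), fun _ q i _ => vh_of_subsingleton (hs i)⟩
    · intro N' _ _ _ r e hr
      have hmem : r ∈ Module.support A N' := by
        rw [e.support_eq, Module.support_eq_zeroLocus, PrimeSpectrum.mem_zeroLocus, Ideal.annihilator_quotient]
      rcases eq_or_lt_of_le (hr r hmem) with heq | hlt
      · refine ⟨0, fun q s i _ hq hi => vh_congr e.symm ?_, fun h => absurd ?_ h⟩
        · rw [← heq]; exact hq i hi
        · rwa [show (⟨p, hp⟩ : PrimeSpectrum A) = r from PrimeSpectrum.ext heq]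
      · obtain ⟨N, hN⟩ := ih r.asIdeal hlt r.2
        exact ⟨N, fun q s i hs _ hi => vh_congr e.symm (vh_of_subsingleton (hN i (by omega))),
          fun _ q i hi => vh_congr e.symm (vh_of_subsingleton (hN i hi))⟩
    · intro N₁ _ _ _ N₂ _ _ _ N₃ _ _ _ f g hf hg hfg h₁ h₃ hr
      obtain ⟨T, hT, e₁, e₂, e₃⟩ := DualRing.exists_triangle hf hg hfg
      obtain ⟨M₁, ha₁, hb₁⟩ := h₁ fun r hr' => hr r (Module.support_subset_of_injective f hf hr')
      obtain ⟨M₃, ha₃, hb₃⟩ := h₃ fun r hr' => hr r (Module.support_subset_of_surjective g hg hr')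
      refine ⟨max M₁ M₃, fun q s i hs hq hi => ?_, fun hns q i hi => ?_⟩
      · rw [← e₂]
        refine vh_mid T hT ?_ ?_
        · rw [e₁]; exact ha₁ q s i (le_trans (le_max_left _ _) hs) hq hi
        · rw [e₃]; exact ha₃ q s i (le_trans (le_max_right _ _) hs) hq hi
      · rw [← e₂]
        refine vh_mid T hT ?_ ?_
        · rw [e₁]
          exact hb₁ (fun h => hns (Module.support_subset_of_injective f hf h)) q i
            (lt_of_le_of_lt (le_max_left _ _) hi)
        · rw [e₃]
          exact hb₃ (fun h => hns (Module.support_subset_of_surjective g hg h)) q i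
            (lt_of_le_of_lt (le_max_right _ _) hi)
  -- an element of the cohomology with annihilator `p` and its cokernel
  have hne : (⟨p, hp⟩ : PrimeSpectrum A) ∈ Module.support A (Dual.HD A X 0) := by
    refine Module.support_subset_of_surjective φ hφ ?_
    haveI := hfin 0
    rw [Module.support_eq_zeroLocus, PrimeSpectrum.mem_zeroLocus, Ideal.annihilator_quotient]
  have hlow : ∃ k : ℕ, (⟨p, hp⟩ : PrimeSpectrum A) ∈ Module.support A (Dual.HD A X ((k : ℤ) - m)) :=
    ⟨m, by rw [sub_self]; exact hne⟩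
  let k : ℤ := (Nat.find hlow : ℤ) - m
  haveI := hfin k
  have hk0 : (⟨p, hp⟩ : PrimeSpectrum A) ∈ Module.support A (Dual.HD A X k) := Nat.find_spec hlow
  have hkle : k ≤ 0 := by
    have : Nat.find hlow ≤ m := Nat.find_le (by rw [sub_self]; exact hne)
    omega
  have hbelow : ∀ j, j < k → (⟨p, hp⟩ : PrimeSpectrum A) ∉ Module.support A (Dual.HD A X j) := by
    intro j hj hmem
    by_cases hjm : j < -(m : ℤ)
    · haveI : Subsingleton (Dual.HD A X j) := (DR.subsingleton_iff_isZero _).2 (X.isZero_of_isGE (-(m : ℤ)) j hjm)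
      rw [Module.support_eq_empty] at hmem
      exact hmem
    · exact Nat.find_min hlow (m := (j + m).toNat) (by omega)
        (by rw [show (((j + m).toNat : ℕ) : ℤ) - m = j by omega]; exact hmem)
  have hass : p ∈ associatedPrimes A (Dual.HD A X k) :=
    Module.associatedPrimes.minimalPrimes_annihilator_subset_associatedPrimes A _
      ⟨⟨hp, Module.mem_support_iff_of_finite.1 hk0⟩, fun r hr hrp =>
        hsupp k ⟨r, hr.1⟩ (Module.mem_support_iff_of_finite.2 hr.2)⟩
  obtain ⟨-, x, hx⟩ := (isAssociatedPrime_iff_exists_injective_linearMap p (Dual.HD A X k)).1 hass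
  let Cm := Dual.HD A X k ⧸ LinearMap.range x
  haveI : Module.Finite A Cm := inferInstance
  obtain ⟨T₀, hT₀, f₁, f₂, f₃⟩ := DualRing.exists_triangle hx (Submodule.mkQ_surjective (LinearMap.range x))
    (LinearMap.exact_map_mkQ_range x)
  obtain ⟨NC, hNC, -⟩ := hdev Cm fun r hr =>
    hsupp k r (Module.support_subset_of_surjective _ (Submodule.mkQ_surjective (LinearMap.range x)) hr)
  obtain ⟨NJ, hNJ⟩ := exists_finite_bound J (fun j i => (∀ (q : PrimeSpectrum A) (s : ℤ), i ≤ s →
      (∀ l, s < l → VH R q.asIdeal (Dual.inD A (A ⧸ p)) l) → ∀ l, s < l →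
        VH R q.asIdeal (Dual.inD A (Dual.HD A X j)) l) ∧
      ((⟨p, hp⟩ : PrimeSpectrum A) ∉ Module.support A (Dual.HD A X j) →
        ∀ (q : PrimeSpectrum A) (l : ℤ), i ≤ l → VH R q.asIdeal (Dual.inD A (Dual.HD A X j)) l)) fun j _ => by
    haveI : Module.Finite A (Dual.HD A X j) := hfin j
    obtain ⟨N, hN1, hN2⟩ := hdev (Dual.HD A X j) (hsupp j)
    exact ⟨N, fun i hi => ⟨fun q s hs hq l hl => hN1 q s l (by omega) hq hl,
      fun hns q l hl => hN2 hns q l (by omega)⟩⟩
  refine ⟨max (max NC (NJ + m + 2)) (b + m) + m + 1, fun i hi => vh_global fun q => ?_⟩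
  by_contra hbad
  obtain ⟨c, hc⟩ := hpw q
  obtain ⟨s, hs, hsmax⟩ := Int.exists_greatest_of_bdd (P := fun l => ¬ VH R q.asIdeal (Dual.inD A (A ⧸ p)) l)
    ⟨c, fun l hl => not_lt.1 fun hcl => hl (hc (A ⧸ p) l hcl)⟩ ⟨i, hbad⟩
  have hsi : i ≤ s := hsmax i hbad
  have htop : ∀ l, s < l → VH R q.asIdeal (Dual.inD A (A ⧸ p)) l := fun l hl =>
    not_not.1 fun h => absurd (hsmax l h) (not_le.2 hl)
  have hJmem : ∀ j, -(m : ℤ) ≤ j → j ≤ 0 → j ∈ J := fun j h1 h2 => Finset.mem_Icc.2 ⟨h1, h2⟩
  have htop' : ∀ (j : ℤ), ∀ l, s < l → VH R q.asIdeal (Dual.inD A (Dual.HD A X j)) l := by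
    intro j l hl
    by_cases hj : j < -(m : ℤ) ∨ 0 < j
    · haveI : Subsingleton (Dual.HD A X j) := (DR.subsingleton_iff_isZero _).2 (by
        rcases hj with hj | hj
        · exact X.isZero_of_isGE (-(m : ℤ)) j hj
        · exact X.isZero_of_isLE 0 j hj)
      exact vh_of_subsingleton ⟨fun u v => IsZero.eq_of_src
        (Functor.map_isZero _ (ModuleCat.isZero_of_subsingleton (ModuleCat.of A (Dual.HD A X j)))) u v⟩
    · exact (hNJ j (hJmem j (by omega) (by omega)) (NJ + 1) (by omega)).1 q s (by omega) htop l hl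
  have hlowvh : ∀ j, j < k → ∀ l, NJ + 1 ≤ l → VH R q.asIdeal (Dual.inD A (Dual.HD A X j)) l := by
    intro j hj l hl
    by_cases hjm : j < -(m : ℤ)
    · haveI : Subsingleton (Dual.HD A X j) := (DR.subsingleton_iff_isZero _).2 (X.isZero_of_isGE (-(m : ℤ)) j hjm)
      exact vh_of_subsingleton ⟨fun u v => IsZero.eq_of_src
        (Functor.map_isZero _ (ModuleCat.isZero_of_subsingleton (ModuleCat.of A (Dual.HD A X j)))) u v⟩
    · exact (hNJ j (hJmem j (by omega) (by omega)) (NJ + 1) (by omega)).2 (hbelow j hj) q l hl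
  have hbm : b + m < s - k := by omega
  let t : Triangulated.TStructure (Dual.D A) := DerivedCategory.TStructure.t
  let H : ℤ → Dual.D A ⥤ ModuleCat.{u} A := fun i => homologyFunctor (ModuleCat.{u} A) i
  have hT := t.triangleLTGE_distinguished k X
  let W := (t.truncLT k).obj X
  let U := (t.truncGE k).obj X
  have hUiso : ∀ j, k ≤ j → Nonempty (Dual.HD A U j ≃ₗ[A] Dual.HD A X j) := fun j hj => by
    haveI := GrothLib.DerTrunc.isIso_homology_truncGEπ X k j hj
    exact ⟨(asIso ((H j).map ((t.truncGEπ k).app X))).toLinearEquiv.symm⟩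
  have hWiso : ∀ j, j < k → Nonempty (Dual.HD A W j ≃ₗ[A] Dual.HD A X j) := fun j hj => by
    haveI := GrothLib.DerTrunc.isIso_homology_truncLTι X k j hj
    exact ⟨(asIso ((H j).map ((t.truncLTι k).app X))).toLinearEquiv⟩
  have hWtop : ∀ j, k ≤ j → Subsingleton (Dual.HD A W j) := fun j hj =>
    (DR.subsingleton_iff_isZero _).2 (GrothLib.DerTrunc.isZero_homology_truncLT X k j hj)
  have hXz : ∀ j, (j < -(m : ℤ) ∨ 0 < j) → Subsingleton (Dual.HD A X j) := fun j hj =>
    (DR.subsingleton_iff_isZero _).2 (by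
      rcases hj with hj | hj
      · exact X.isZero_of_isGE (-(m : ℤ)) j hj
      · exact X.isZero_of_isLE 0 j hj)
  have hW : VH R q.asIdeal W (s - k - 1) := by
    refine vh_of_homology (m + 1) W (-(m : ℤ)) (NJ + 1) (fun j hj => ?_) (fun j l hl => ?_) _ (by omega)
    · by_cases hjk : j < k
      · haveI := hXz j (by omega)
        exact (hWiso j hjk).some.toEquiv.subsingleton
      · exact hWtop j (not_lt.1 hjk)
    · by_cases hjk : j < k
      · exact vh_congr (hWiso j hjk).some.symm (hlowvh j hjk l (by omega))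
      · haveI := hWtop j (not_lt.1 hjk)
        exact vh_of_subsingleton ⟨fun u v => IsZero.eq_of_src
          (Functor.map_isZero _ (ModuleCat.isZero_of_subsingleton (ModuleCat.of A (Dual.HD A W j)))) u v⟩
  have hUvh : VH R q.asIdeal U (s - k) :=
    vh_trd _ hT (i := s - k) (vh_of_subsingleton (hv (s - k) hbm)) hW
  have hUz : ∀ j, j < k → Subsingleton (Dual.HD A U j) := fun j hj =>
    (DR.subsingleton_iff_isZero _).2 (GrothLib.DerTrunc.isZero_homology_truncGE X k j hj)
  obtain ⟨T₁, hT₁, g₂, ⟨g₁⟩, hge₁⟩ := DualRing.exists_bottom_triangle U k hUz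
  have h3 : VH R q.asIdeal T₁.obj₃ (s - k + 1) := by
    have hlin : ∀ j, k + 1 ≤ j → Nonempty (Dual.HD A T₁.obj₃ j ≃ₗ[A] Dual.HD A X j) := fun j hj => by
      obtain ⟨e⟩ := nonempty_homology_top_iso T₁ hT₁ k j g₁ hj
      obtain ⟨e'⟩ := hUiso j (by omega)
      exact ⟨(e.symm.trans ((H j).mapIso (eqToIso g₂)).toLinearEquiv).trans e'⟩
    refine vh_of_homology (m + 1) T₁.obj₃ (k + 1) s (fun j hj => ?_) (fun j l hl => ?_) _ (by omega)
    · by_cases hjk : k + 1 ≤ j
      · haveI := hXz j (by omega)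
        exact (hlin j hjk).some.toEquiv.subsingleton
      · exact (DR.subsingleton_iff_isZero _).2 (T₁.obj₃.isZero_of_isGE (k + 1) j (by omega))
    · by_cases hjk : k + 1 ≤ j
      · exact vh_congr (hlin j hjk).some.symm (htop' j l hl)
      · haveI : Subsingleton (Dual.HD A T₁.obj₃ j) :=
          (DR.subsingleton_iff_isZero _).2 (T₁.obj₃.isZero_of_isGE (k + 1) j (by omega))
        exact vh_of_subsingleton ⟨fun u v => IsZero.eq_of_src
          (Functor.map_isZero _ (ModuleCat.isZero_of_subsingleton (ModuleCat.of A (Dual.HD A T₁.obj₃ j)))) u v⟩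
  have hH : VH R q.asIdeal (Dual.inD A (Dual.HD A U k)) s :=
    vh_of_shift (-k) (s - k) s (by omega) (vh_iso g₁ (vh_fst T₁ hT₁ (by rw [g₂]; exact hUvh) h3))
  have hH' : VH R q.asIdeal T₀.obj₂ s := by rw [f₂]; exact vh_congr (hUiso k le_rfl).some hH
  have hC : VH R q.asIdeal T₀.obj₃ (s + 1) := by rw [f₃]; exact hNC q s (s + 1) (by omega) htop (by omega)
  have hfin' := vh_fst T₀ hT₀ hH' hC
  rw [f₁] at hfin'
  exact hs hfin'

end Main

end GrothLib.DualCx22.Evz
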