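import Groth.Agent.Lib.DualCx22.DualityCompletion
import Groth.Agent.Lib.DualCx22.FiniteLengthTriangle
import Groth.Agent.Lib.InjMod.MatlisCompl
import Groth.Agent.Lib.LC.Artinian
import Groth.Agent.Lib.DCxRing.DComplete.Noetherian
import Groth.Agent.Lib.AdicLim.Finite
import Groth.Agent.Lib.RGamma.CechModel
import Groth.Agent.Lib.DualCx22.LocalCohD

/-!
# Duality between finite and cofinite complexes over a complete local ring
-/

set_option autoImplicit false
set_option linter.style.haveILetI false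
universe u

open CategoryTheory CategoryTheory.Limits CategoryTheory.Pretriangulated CochainComplex CochainComplex.HomComplex

attribute [local instance] HasDerivedCategory.standard

namespace GrothLib.DualCx22

variable {A : Type u} [CommRing A]

namespace InjRep

variable {ω : Dual.D A} (r : InjRep ω)

include r in
/-- Morphisms from a bounded object into a dualizing complex are bounded. -/
theorem exists_subsingleton_hom_bound (X : Dual.D A)
    (hX : ∃ a b : ℤ, ∀ i : ℤ, (i < a ∨ b < i) → Subsingleton (Dual.HD A X i)) :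
    ∃ a b : ℤ, ∀ i : ℤ, (i < a ∨ b < i) → Subsingleton (X ⟶ ω⟦i⟧) := by
  obtain ⟨a, b, h⟩ := hX
  haveI : DerivedCategory.IsGE X a := by
    rw [DerivedCategory.isGE_iff]
    exact fun j hj => (GrothLib.DR.subsingleton_iff_isZero _).1 (h j (Or.inl hj))
  haveI : DerivedCategory.IsLE X b := by
    rw [DerivedCategory.isLE_iff]
    exact fun j hj => (GrothLib.DR.subsingleton_iff_isZero _).1 (h j (Or.inr hj))
  obtain ⟨C, hC, hC', ⟨e⟩⟩ := X.exists_iso_Q_obj_of_isGE_of_isLE a b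
  haveI := hC
  haveI := hC'
  refine ⟨r.a - b, r.b - a, fun i hi => ?_⟩
  obtain ⟨d⟩ := r.nonempty_HD_dual C i
  haveI : Subsingleton (DRing.toD C ⟶ ω⟦i⟧) := by
    haveI hs : Subsingleton (Cochain C r.I i) := subsingleton_of_forall_eq 0 fun z =>
      Cochain.ext _ _ fun p q hpq => by
        by_cases hq : q < r.a ∨ r.b < q
        · exact (r.vanish q hq).eq_of_tgt _ _
        · by_cases hp : p < a
          · exact (C.isZero_of_isStrictlyGE a p hp).eq_of_src _ _
          · exact (C.isZero_of_isStrictlyLE b p (by omega)).eq_of_src _ _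
    haveI : Subsingleton (Dual.HD A (DRing.toD (r.dual C)) i) :=
      (GrothLib.DR.subsingleton_iff_isZero _).2 ((isZero_homology_of_X
        (@ModuleCat.isZero_of_subsingleton A _ ((r.dual C).X i) hs)).of_iso
          ((DerivedCategory.homologyFunctorFactors (ModuleCat.{u} A) i).app (r.dual C)))
    exact d.symm.toEquiv.subsingleton
  exact (e.homFromEquiv (Z := ω⟦i⟧)).subsingleton

theorem exists_bound_dual (C : DRing.Cx A)
    (hC : ∃ a b : ℤ, ∀ i : ℤ, (i < a ∨ b < i) → Subsingleton (Dual.HD A (DRing.toD C) i)) :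
    ∃ a b : ℤ, ∀ i : ℤ, (i < a ∨ b < i) → Subsingleton (Dual.HD A (DRing.toD (r.dual C)) i) := by
  obtain ⟨a, b, h⟩ := r.exists_subsingleton_hom_bound _ hC
  exact ⟨a, b, fun i hi => by
    obtain ⟨d⟩ := r.nonempty_HD_dual C i
    haveI := h i hi
    exact d.toEquiv.subsingleton⟩

/-- The triangle identity of the evaluation. -/
theorem evI_comp_homCxPre (C : DRing.Cx A) :
    evI r.I (r.dual C) ≫ GrothLib.RH.homCxPre (evI r.I C) r.I = 𝟙 (r.dual C) := by
  refine HomologicalComplex.hom_ext _ _ fun n => ModuleCat.hom_ext (LinearMap.ext fun (z : Cochain C r.I n) => ?_)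
  change (Cochain.ofHom (evI r.I C)).comp (evIFun r.I (r.dual C) n z) (zero_add n) = z
  refine Cochain.ext _ _ fun p q hpq => ModuleCat.hom_ext (LinearMap.ext fun x => ?_)
  rw [Cochain.zero_cochain_comp_v, Cochain.ofHom_v]
  change ((p * n).negOnePow : ℤ) • ((n * p).negOnePow : ℤ) • z.v p q _ x = z.v p q _ x
  rw [smul_smul, mul_comm n p]
  rcases Int.units_eq_one_or (p * n).negOnePow with e | e <;> simp [e]

theorem quasiIso_homCxPre_evI [IsNoetherianRing A] (C : DRing.Cx A)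
    (h : ∀ i, Module.Finite A (Dual.HD A (DRing.toD (r.dual C)) i)) :
    QuasiIso (GrothLib.RH.homCxPre (evI r.I C) r.I) := by
  haveI := r.kInj
  haveI : QuasiIso (evI r.I (r.dual C)) := isBidual_of_finite r.I r.vanish r.inj r.unit r.le (r.dual C) h
  haveI : QuasiIso (evI r.I (r.dual C) ≫ GrothLib.RH.homCxPre (evI r.I C) r.I) := by
    rw [r.evI_comp_homCxPre C]; infer_instance
  exact quasiIso_of_comp_left (evI r.I (r.dual C)) _

end InjRep

variable [IsNoetherianRing A]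

/-- Finite complexes over a complete ring are derived complete. -/
theorem isDerivedComplete_of_finite (I : Ideal A) [IsAdicComplete I A] (X : Dual.D A)
    (hX : ∀ i, Module.Finite A (Dual.HD A X i)) : DRing.IsDerivedComplete I X := by
  obtain ⟨L, η, hL, -, he⟩ := GrothLib.DCpl.exists_hat_completion I X hX
  haveI : IsIso η := by
    rw [DerivedCategory.isIso_iff]
    intro n
    haveI := hX n
    haveI := GrothLib.AdicLim.isAdicComplete_of_finite I (Dual.HD A X n)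
    obtain ⟨e, hex⟩ := he n
    rw [ConcreteCategory.isIso_iff_bijective]
    refine (Function.Bijective.of_comp_iff' e.bijective _).1 ?_
    have : e ∘ ((DerivedCategory.homologyFunctor (ModuleCat.{u} A) n).map η).hom =
        AdicCompletion.of I (Dual.HD A X n) := funext hex
    change Function.Bijective (e ∘ ((DerivedCategory.homologyFunctor (ModuleCat.{u} A) n).map η).hom)
    rw [this]
    exact AdicCompletion.of_bijective I _
  rw [GrothLib.DCpl.isDerivedComplete_iff] at hL ⊢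
  exact fun g hg => GrothLib.DCpl.dcObj_of_iso (asIso η).symm (hL g hg)

omit [IsNoetherianRing A] in
theorem isIso_toDerivedCompletion_of_isDerivedComplete (I : Ideal A) [DRing.HasDerivedCompletion I] (X : Dual.D A)
    (hX : DRing.IsDerivedComplete I X) : IsIso (DRing.toDerivedCompletion I X) := by
  obtain ⟨a, ha⟩ := (GrothLib.DCpl.bijective_toDerivedCompletion I X hX).2 (𝟙 X)
  replace ha : DRing.toDerivedCompletion I X ≫ a = 𝟙 X := ha
  refine ⟨a, ha, (GrothLib.DCpl.bijective_toDerivedCompletion I X ((DRing.derivedCompletion I).obj X).property).1 ?_⟩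
  change DRing.toDerivedCompletion I X ≫ a ≫ DRing.toDerivedCompletion I X = DRing.toDerivedCompletion I X ≫ 𝟙 _
  rw [← Category.assoc, ha]
  exact (Category.id_comp _).trans (Category.comp_id _).symm

variable [IsLocalRing A]

local notation "𝔪" => IsLocalRing.maximalIdeal A

omit [IsLocalRing A] in
/-- Torsion objects see only `RΓ`. -/
theorem hom_eq_zero_of_isZero_rgamma (I : Ideal A) [DRing.HasRgammaI I] {L Z : Dual.D A}
    (hL : ∀ i, LocCoh.IsPowerTorsion I (Dual.HD A L i)) (hZ : IsZero ((DRing.RgammaI I).obj Z)) (k : ℤ)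
    (ξ : L ⟶ Z⟦k⟧) : ξ = 0 := by
  apply (CategoryTheory.shiftFunctor (Dual.D A) (-k)).map_injective
  rw [Functor.map_zero]
  obtain ⟨g, hg⟩ := (GrothLib.RGamma.hom_bijective I (L⟦-k⟧) Z (isPowerTorsion_shift I hL (-k))).2
    (ξ⟦-k⟧' ≫ (shiftEquiv' (Dual.D A) k (-k) (add_neg_cancel k)).unitIso.inv.app Z)
  rw [hZ.eq_of_tgt g 0] at hg
  exact (cancel_mono ((shiftEquiv' (Dual.D A) k (-k) (add_neg_cancel k)).unitIso.inv.app Z)).1
    (hg.symm.trans (zero_comp.trans zero_comp.symm))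

section Hull

variable {ω : Dual.D A} (hω : Dual.IsDualizing A ω) (hn : Dual.IsNormalized A ω) {E : Type u} [AddCommGroup E]
  [Module A E] {f : IsLocalRing.ResidueField A →ₗ[A] E} (hf : InjHull.IsInjectiveHull f) [DRing.HasRgammaI (IsLocalRing.maximalIdeal A)]

include hω hn hf in
/-- `E → ω` induces isomorphisms on morphisms out of torsion objects. -/
theorem exists_isTorsEquiv_hull : ∃ θ : Dual.inD A E ⟶ ω, IsTorsEquiv 𝔪 θ := by
  obtain ⟨r⟩ := nonempty_injRep hω
  haveI := r.kInj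
  obtain ⟨eI, heI⟩ := GrothLib.RGamma.exists_iso 𝔪 r.I
  obtain ⟨eE⟩ := r.nonempty_gammaI_iso hω hn hf
  refine ⟨eE.inv ≫ DerivedCategory.Q.map (GrothLib.RGamma.incl 𝔪 r.I) ≫ r.iso.hom,
    (isTorsEquiv_of_isIso 𝔪 _).comp 𝔪 (IsTorsEquiv.comp 𝔪 ?_ (isTorsEquiv_of_isIso 𝔪 _))⟩
  have : DerivedCategory.Q.map (GrothLib.RGamma.incl 𝔪 r.I) =
      eI.inv ≫ (DRing.RgammaIε 𝔪).app (DRing.toD r.I) := by
    rw [← heI, Iso.inv_hom_id_assoc]
  rw [this]
  exact (isTorsEquiv_of_isIso 𝔪 _).comp 𝔪 fun L hL => GrothLib.RGamma.hom_bijective 𝔪 L _ hL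

include hω hn hf in
/-- Morphisms from a torsion object into `ω` are the Matlis dual of its cohomology. -/
theorem nonempty_hom_equiv_of_torsion (L : Dual.D A) (hL : ∀ i, LocCoh.IsPowerTorsion 𝔪 (Dual.HD A L i)) (n p : ℤ)
    (h : p + n = 0) : Nonempty ((L ⟶ ω⟦n⟧) ≃ₗ[A] (Dual.HD A L p →ₗ[A] E)) := by
  obtain ⟨θ, hθ⟩ := exists_isTorsEquiv_hull hω hn hf
  let e₀ := DerivedCategory.Q.objObjPreimageIso L
  obtain ⟨e₁⟩ := nonempty_hom_inD_injective (DerivedCategory.Q.objPreimage L) E hf.isInjective n p h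
  let e₂ : (L ⟶ (Dual.inD A E)⟦n⟧) ≃ₗ[A] (L ⟶ ω⟦n⟧) :=
    LinearEquiv.ofBijective (Linear.rightComp A L (θ⟦n⟧')) ((hθ.shift 𝔪 n) L hL)
  exact ⟨e₂.symm.trans ((Linear.homCongr A e₀.symm (Iso.refl _)).trans
    (e₁.trans ((GrothLib.RGamma.hdIso e₀ p).congrLeft E A)))⟩

include hω hn hf in
theorem isZero_rgamma_of_forall_hom [IsAdicComplete 𝔪 A] (Z : Dual.D A)
    (h : ∀ i : ℤ, Subsingleton (Z ⟶ ω⟦i⟧)) : IsZero ((DRing.RgammaI 𝔪).obj Z) := by
  have hωc : DRing.IsDerivedComplete 𝔪 ω := isDerivedComplete_of_finite 𝔪 ω hω.finite_cohomology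
  refine GrothLib.RGamma.isZero_of_subsingleton_HD fun p => subsingleton_of_forall_eq 0 fun x => ?_
  by_contra hx
  obtain ⟨φ, hφ⟩ := GrothLib.Matlis.exists_apply_ne_zero hf hx
  obtain ⟨e⟩ := nonempty_hom_equiv_of_torsion hω hn hf ((DRing.RgammaI 𝔪).obj Z)
    (GrothLib.RGamma.isPowerTorsion_HD 𝔪 Z) (-p) p (add_neg_cancel p)
  haveI : Subsingleton ((DRing.RgammaI 𝔪).obj Z ⟶ ω⟦-p⟧) := by
    haveI : Subsingleton ((𝟭 (Dual.D A)).obj Z ⟶ ω⟦-p⟧) := h (-p)
    exact (Equiv.ofBijective _ (GrothLib.RGamma.isCEquiv_ε 𝔪 Z _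
      (GrothLib.RGamma.isDerivedComplete_shift 𝔪 hωc (-p)))).symm.subsingleton
  exact hφ (by rw [e.symm.injective (Subsingleton.elim (e.symm φ) (e.symm 0))]; rfl)

omit [DRing.HasRgammaI (IsLocalRing.maximalIdeal A)] in
include hf in
/-- The socle of a Matlis dual is finite. -/
theorem finite_torsionBy_dual (N : Type u) [AddCommGroup N] [Module A N] [Module.Finite A N] :
    Module.Finite A (LocCoh.torsionBy 𝔪 (N →ₗ[A] E)) := by
  haveI := GrothLib.Matlis.isArtinian_dual hf N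
  refine (GrothLib.LC.finite_iff_isArtinian_of_pow_smul 𝔪 (N := 1) fun a ha x => ?_).2 inferInstance
  rw [pow_one] at ha
  exact Subtype.ext ((Submodule.mem_torsionBySet_iff _ _).1 x.2 ⟨a, ha⟩)

omit [DRing.HasRgammaI (IsLocalRing.maximalIdeal A)] in
include hf in
/-- A torsion module with finite socle has finite dual. -/
theorem finite_dual_of_cofinite [IsAdicComplete 𝔪 A] (M : Type u) [AddCommGroup M] [Module A M] (hM : LocCoh.IsPowerTorsion 𝔪 M)
    (hs : Module.Finite A (LocCoh.torsionBy 𝔪 M)) : Module.Finite A (M →ₗ[A] E) := by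
  classical
  haveI : IsArtinian A (LocCoh.torsionBy 𝔪 M) :=
    (GrothLib.LC.finite_iff_isArtinian_of_pow_smul 𝔪 (N := 1) fun a ha x => by
      rw [pow_one] at ha
      exact Subtype.ext ((Submodule.mem_torsionBySet_iff _ _).1 x.2 ⟨a, ha⟩)).1 hs
  haveI := GrothLib.LC.isArtinian_of_isPowerTorsion (IsNoetherian.noetherian 𝔪) hM
  obtain ⟨S, ⟨F, rfl⟩, hmin⟩ := IsArtinian.set_has_minimal
    (Set.range fun F : Finset (M →ₗ[A] E) => F.inf LinearMap.ker) (Set.range_nonempty _)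
  have hker : ∀ x : M, (∀ φ ∈ F, φ x = 0) → x = 0 := fun x hx => by
    by_contra hx0
    obtain ⟨φ, hφ⟩ := GrothLib.Matlis.exists_apply_ne_zero hf hx0
    have hmem : x ∈ F.inf LinearMap.ker := (Submodule.mem_finsetInf).2 hx
    refine hmin _ ⟨insert φ F, rfl⟩ (lt_of_le_of_ne (Finset.inf_mono (Finset.subset_insert φ F)) fun he => hφ ?_)
    replace he : (insert φ F).inf LinearMap.ker = F.inf LinearMap.ker := he
    exact (Submodule.mem_finsetInf).1 (he.symm ▸ hmem : x ∈ (insert φ F).inf LinearMap.ker) φ (Finset.mem_insert_self φ F)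
  refine (GrothLib.Matlis.duality_artinian hf (LinearMap.pi fun j => (F.equivFin.symm j).1) ?_).1
  refine (injective_iff_map_eq_zero _).2 fun x hx => hker x fun φ hφ => ?_
  have := congrFun hx (F.equivFin ⟨φ, hφ⟩)
  simpa using this

include hω hn hf in
/-- **Cofinite complexes come from finite ones.** -/
theorem exists_finite_torsion_iso [IsAdicComplete 𝔪 A] (K : Dual.D A)
    (hb : ∃ a b : ℤ, ∀ i : ℤ, (i < a ∨ b < i) → Subsingleton (Dual.HD A K i))
    (ht : ∀ i, LocCoh.IsPowerTorsion 𝔪 (Dual.HD A K i))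
    (hs : ∀ i, Module.Finite A (LocCoh.torsionBy 𝔪 (Dual.HD A K i))) :
    ∃ X : Dual.D A, (∀ i, Module.Finite A (Dual.HD A X i)) ∧
      (∃ a b : ℤ, ∀ i : ℤ, (i < a ∨ b < i) → Subsingleton (Dual.HD A X i)) ∧
      Nonempty ((DRing.RgammaI 𝔪).obj X ≅ K) := by
  obtain ⟨r⟩ := nonempty_injRep hω
  haveI := r.kInj
  let C := DerivedCategory.Q.objPreimage K
  let e : DRing.toD C ≅ K := DerivedCategory.Q.objObjPreimageIso K
  have hCt : ∀ i, LocCoh.IsPowerTorsion 𝔪 (Dual.HD A (DRing.toD C) i) := fun i =>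
    GrothLib.RGamma.isPowerTorsion_of_linearEquiv 𝔪 (GrothLib.RGamma.hdIso e i).symm (ht i)
  have hCb : ∃ a b : ℤ, ∀ i : ℤ, (i < a ∨ b < i) → Subsingleton (Dual.HD A (DRing.toD C) i) := by
    obtain ⟨a, b, h⟩ := hb
    exact ⟨a, b, fun i hi => haveI := h i hi; (GrothLib.RGamma.hdIso e i).toEquiv.subsingleton⟩
  have hD : ∀ i, Module.Finite A (Dual.HD A (DRing.toD (r.dual C)) i) := fun i => by
    obtain ⟨d⟩ := r.nonempty_HD_dual C i
    obtain ⟨d'⟩ := nonempty_hom_equiv_of_torsion hω hn hf (DRing.toD C) hCt i (-i) (neg_add_cancel i)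
    haveI := finite_dual_of_cofinite hf _ (ht (-i)) (hs (-i))
    exact Module.Finite.equiv ((d.trans d').trans ((GrothLib.RGamma.hdIso e (-i)).congrLeft E A)).symm
  have hX : ∀ i, Module.Finite A (Dual.HD A (DRing.toD (r.dual (r.dual C))) i) := fun i => by
    obtain ⟨d⟩ := r.nonempty_HD_dual (r.dual C) i
    haveI := finite_hom (DRing.toD (r.dual C)) ω hD hω.finite_cohomology
      (show DRing.HasFiniteInjDim A ω from ⟨r.a, r.b, r.I, r.vanish, fun t =>
        (Module.injective_iff_injective_object A (r.I.X t)).2 (r.inj t), ⟨r.iso⟩⟩) i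
    exact Module.Finite.equiv d.symm
  refine ⟨_, hX, r.exists_bound_dual _ (r.exists_bound_dual C hCb), ?_⟩
  haveI := r.quasiIso_homCxPre_evI C hD
  let θ := DerivedCategory.Q.map (evI r.I C)
  obtain ⟨Z, g, δ, hT⟩ := distinguished_cocone_triangle θ
  have hZ : ∀ i : ℤ, Subsingleton (Z ⟶ ω⟦i⟧) :=
    (GrothLib.DCpl.subsingleton_iff_precomp_bijective (Triangle.mk θ g δ) hT ω).2 fun i => by
      have hb := bijective_precomp_of_quasiIso_homCxPre (evI r.I C) r.I i
      let w := (CategoryTheory.shiftFunctor (Dual.D A) i).mapIso r.iso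
      refine (Function.Bijective.of_comp_iff _ (w.homToEquiv.bijective)).1 ?_
      have : (fun ψ => θ ≫ ψ) ∘ w.homToEquiv = (w.homToEquiv (Z := DRing.toD C)) ∘ fun ψ => θ ≫ ψ :=
        funext fun ψ => (Category.assoc _ _ _).symm
      change Function.Bijective ((fun ψ => θ ≫ ψ) ∘ w.homToEquiv)
      rw [this]
      exact w.homToEquiv.bijective.comp hb
  have hZ0 := isZero_rgamma_of_forall_hom hω hn hf Z hZ
  have hθ : IsTorsEquiv 𝔪 θ := fun L hL => GrothLib.RGamma.postcomp_bijective (Triangle.mk θ g δ) hT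
    fun k ξ => hom_eq_zero_of_isZero_rgamma 𝔪 hL hZ0 k ξ
  let ε := (DRing.RgammaIε 𝔪).app (DRing.toD (r.dual (r.dual C)))
  have hε : IsTorsEquiv 𝔪 ε := fun L hL => GrothLib.RGamma.hom_bijective 𝔪 L _ hL
  obtain ⟨a, ha⟩ := (hθ _ (GrothLib.RGamma.isPowerTorsion_HD 𝔪 _)).2 ε
  obtain ⟨b, hb'⟩ := (hε _ hCt).2 θ
  replace ha : a ≫ θ = ε := ha
  replace hb' : b ≫ ε = θ := hb'
  refine ⟨⟨a, b, (hε _ (GrothLib.RGamma.isPowerTorsion_HD 𝔪 _)).1 ?_, (hθ _ hCt).1 ?_⟩ ≪≫ e⟩
  · change (a ≫ b) ≫ ε = 𝟙 _ ≫ ε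
    rw [Category.assoc, hb', ha]
    exact (Category.id_comp _).symm
  · change (b ≫ a) ≫ θ = 𝟙 _ ≫ θ
    rw [Category.assoc, ha, hb']
    exact (Category.id_comp _).symm

include hω hn hf in
theorem finite_bounded_completion [IsAdicComplete 𝔪 A] [DRing.HasDerivedCompletion 𝔪] (K : Dual.D A)
    (hb : ∃ a b : ℤ, ∀ i : ℤ, (i < a ∨ b < i) → Subsingleton (Dual.HD A K i))
    (ht : ∀ i, LocCoh.IsPowerTorsion 𝔪 (Dual.HD A K i))
    (hs : ∀ i, Module.Finite A (LocCoh.torsionBy 𝔪 (Dual.HD A K i))) :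
    (∀ i, Module.Finite A (Dual.HD A ((DRing.derivedCompletion 𝔪).obj K).obj i)) ∧
      ∃ a b : ℤ, ∀ i : ℤ, (i < a ∨ b < i) →
        Subsingleton (Dual.HD A ((DRing.derivedCompletion 𝔪).obj K).obj i) := by
  obtain ⟨X, hXf, ⟨a, b, hXb⟩, ⟨e⟩⟩ := exists_finite_torsion_iso hω hn hf K hb ht hs
  obtain ⟨-, ⟨e₁⟩⟩ := GrothLib.RGamma.greenlees_may 𝔪 X
  haveI := isIso_toDerivedCompletion_of_isDerivedComplete 𝔪 X (isDerivedComplete_of_finite 𝔪 X hXf)
  let e₂ : ((DRing.derivedCompletion 𝔪).obj K).obj ≅ X :=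
    (ObjectProperty.ι (DRing.IsDerivedComplete 𝔪)).mapIso ((DRing.derivedCompletion 𝔪).mapIso e.symm ≪≫ e₁) ≪≫
      (asIso (DRing.toDerivedCompletion 𝔪 X)).symm
  exact ⟨fun i => haveI := hXf i; Module.Finite.equiv (GrothLib.RGamma.hdIso e₂ i).symm,
    a, b, fun i hi => haveI := hXb i hi; (GrothLib.RGamma.hdIso e₂ i).toEquiv.subsingleton⟩

include hω hn hf in
theorem bounded_cofinite_rgamma (M : Dual.D A) (hM : ∀ i, Module.Finite A (Dual.HD A M i))
    (hb : ∃ a b : ℤ, ∀ i : ℤ, (i < a ∨ b < i) → Subsingleton (Dual.HD A M i)) :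
    (∃ a b : ℤ, ∀ i : ℤ, (i < a ∨ b < i) → Subsingleton (Dual.HD A ((DRing.RgammaI 𝔪).obj M) i)) ∧
      ∀ i, Module.Finite A (LocCoh.torsionBy 𝔪 (Dual.HD A ((DRing.RgammaI 𝔪).obj M) i)) := by
  obtain ⟨r⟩ := nonempty_injRep hω
  obtain ⟨a, b, h⟩ := r.exists_subsingleton_hom_bound M hb
  have key : ∀ i, Nonempty (Dual.HD A ((DRing.RgammaI 𝔪).obj M) i ≃ₗ[A] ((M ⟶ ω⟦-i⟧) →ₗ[A] E)) := fun i => by
    obtain ⟨e⟩ := GrothLib.RGamma.nonempty_HD_equiv_HDI 𝔪 M i
    obtain ⟨d⟩ := nonempty_local_duality hω hn hf M hM i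
    exact ⟨e.trans d⟩
  refine ⟨⟨-b, -a, fun i hi => ?_⟩, fun i => ?_⟩
  · obtain ⟨d⟩ := key i
    haveI := h (-i) (by omega)
    haveI : Subsingleton ((M ⟶ ω⟦-i⟧) →ₗ[A] E) :=
      ⟨fun x y => LinearMap.ext fun t => by rw [Subsingleton.elim t 0, map_zero, map_zero]⟩
    exact d.toEquiv.subsingleton
  · obtain ⟨d⟩ := key i
    obtain ⟨N, hN, ⟨eN⟩⟩ := exists_finite_hom_equiv hω M hM (-i)
    haveI := finite_torsionBy_dual hf N
    let d' := d.trans (eN.symm.congrLeft E A)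
    refine Module.Finite.of_injective
      ((d'.toLinearMap.comp (LocCoh.torsionBy 𝔪 _).subtype).codRestrict (LocCoh.torsionBy 𝔪 (N →ₗ[A] E))
        fun x => ?_) fun x y hxy => Subtype.ext (d'.injective (congrArg Subtype.val hxy))
    refine (Submodule.mem_torsionBySet_iff _ _).2 fun c => ?_
    change (c : A) • d' x.1 = 0
    rw [← map_smul, (Submodule.mem_torsionBySet_iff _ _).1 x.2 c, map_zero]

include hω hn hf in
theorem subsingleton_hom_completion [IsAdicComplete 𝔪 A] [DRing.HasDerivedCompletion 𝔪] (N : Type u)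
    [AddCommGroup N] [Module A N] (hN : LocCoh.IsPowerTorsion 𝔪 N) (i : ℤ) (hi : i ≠ 0) :
    Subsingleton (((DRing.derivedCompletion 𝔪).obj (Dual.inD A N)).obj ⟶ ω⟦i⟧) := by
  have hωc : DRing.IsDerivedComplete 𝔪 ω := isDerivedComplete_of_finite 𝔪 ω hω.finite_cohomology
  have hL : ∀ j, LocCoh.IsPowerTorsion 𝔪 (Dual.HD A (Dual.inD A N) j) := fun j => by
    by_cases hj : j = 0
    · subst hj
      exact GrothLib.RGamma.isPowerTorsion_of_linearEquiv 𝔪 (GrothLib.DR.inDHomologyIso N).toLinearEquiv.symm hN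
    · haveI := GrothLib.DR.subsingleton_HD_inD (A := A) N j hj
      exact fun x => ⟨0, fun a _ => Subsingleton.elim _ _⟩
  obtain ⟨e⟩ := nonempty_hom_equiv_of_torsion hω hn hf (Dual.inD A N) hL i (-i) (neg_add_cancel i)
  haveI := GrothLib.DR.subsingleton_HD_inD (A := A) N (-i) (by omega)
  haveI : Subsingleton (Dual.HD A (Dual.inD A N) (-i) →ₗ[A] E) :=
    ⟨fun x y => LinearMap.ext fun t => by rw [Subsingleton.elim t 0, map_zero, map_zero]⟩
  haveI : Subsingleton (Dual.inD A N ⟶ ω⟦i⟧) := e.toEquiv.subsingleton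
  exact (Equiv.ofBijective _ (GrothLib.DCpl.bijective_toDerivedCompletion 𝔪 (Dual.inD A N)
    (GrothLib.RGamma.isDerivedComplete_shift 𝔪 hωc i))).subsingleton

end Hull

end GrothLib.DualCx22
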