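import Groth.Agent.Lib.DualCx22.EvCx
import Groth.Agent.Lib.DualRing.Perfect
import Groth.Agent.Lib.DCxRHom.Cech
import Groth.Agent.Lib.DerCat.Stupid
import Groth.Agent.Lib.DCxRing.Homology
import Mathlib.Algebra.Homology.Double
import Mathlib.Algebra.Homology.DerivedCategory.Fractions

/-!
# Biduality for a dualizing complex: `P ≅ Hom(Hom(P, I), I)` when the cohomology of `P` is finite

`I` is a bounded complex of injectives with `A ≅ Hom(I, I)` in `D(A)`; no boundedness is assumed on `P`.
-/

set_option autoImplicit false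
set_option linter.style.haveILetI false
universe u

open CategoryTheory CategoryTheory.Limits CochainComplex CochainComplex.HomComplex HomologicalComplex

attribute [local instance] HasDerivedCategory.standard

namespace GrothLib.DualCx22

variable {A : Type u} [CommRing A]

theorem isIso_homologyMap_f {S : ShortComplex (DRing.Cx A)} (hS : S.ShortExact) (n : ℤ)
    (h₀ : IsZero (S.X₃.homology (n - 1))) (h : IsZero (S.X₃.homology n)) : IsIso (homologyMap S.f n) := by
  haveI : Mono (homologyMap S.f n) :=
    (hS.homology_exact₁ (n - 1) n (by simp)).mono_g (h₀.eq_of_src _ _)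
  haveI : Epi (homologyMap S.f n) := (hS.homology_exact₂ n).epi_f (h.eq_of_tgt _ _)
  exact isIso_of_mono_of_epi _

theorem isZero_homology_of_X {P : DRing.Cx A} {n : ℤ} (h : IsZero (P.X n)) : IsZero (P.homology n) :=
  (P.exactAt_iff_isZero_homology n).1 (ShortComplex.exact_of_isZero_X₂ _ h)

/-- A complex concentrated in one degree. -/
noncomputable def isoSingle {P : DRing.Cx A} (n : ℤ) (h : ∀ i, i ≠ n → IsZero (P.X i)) {M : ModuleCat.{u} A}
    (e : P.X n ≅ M) : P ≅ (HomologicalComplex.single (ModuleCat.{u} A) (ComplexShape.up ℤ) n).obj M :=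
  HomologicalComplex.Hom.isoOfComponents
    (fun i => if hi : i = n then
      (eqToIso (by rw [hi]) ≪≫ e ≪≫ (singleObjXSelf (ComplexShape.up ℤ) n M).symm ≪≫ eqToIso (by rw [hi]))
    else (h i hi).iso (isZero_single_obj_X (ComplexShape.up ℤ) n M i hi))
    (fun i j hij => by
      simp only [ComplexShape.up_Rel] at hij
      by_cases hj : j = n
      · exact (h i (by omega)).eq_of_src _ _
      · exact (isZero_single_obj_X (ComplexShape.up ℤ) n M j hj).eq_of_tgt _ _)

variable (I : DRing.Cx A)

/-- The evaluation is a quasi-isomorphism. -/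
def IsBidual (P : DRing.Cx A) : Prop := QuasiIso (evI I P)

variable [I.IsKInjective] {a b : ℤ} (hI : ∀ t, (t < a ∨ b < t) → IsZero (I.X t)) (hinj : ∀ t, Injective (I.X t))

theorem isBidual_iff_of_quasiIso {P Q : DRing.Cx A} (f : P ⟶ Q) [QuasiIso f] : IsBidual I P ↔ IsBidual I Q := by
  simp only [IsBidual, quasiIso_iff, quasiIsoAt_iff_isIso_homologyMap, isIso_evI_iff I f]

theorem isBidual_of_iso {P Q : DRing.Cx A} (e : P ≅ Q) (h : IsBidual I P) : IsBidual I Q :=
  (isBidual_iff_of_quasiIso I e.hom).1 h

/-- The property only depends on the object of the derived category. -/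
theorem isBidual_of_isoD {P Q : DRing.Cx A} (e : DRing.toD P ≅ DRing.toD Q) (h : IsBidual I P) : IsBidual I Q := by
  obtain ⟨P', s, hs, g, hg⟩ := DerivedCategory.right_fac e.hom
  haveI := hs
  haveI : IsIso (DerivedCategory.Q.map g) := by
    have : DerivedCategory.Q.map g = DerivedCategory.Q.map s ≫ e.hom := by rw [hg, IsIso.hom_inv_id_assoc]
    rw [this]
    infer_instance
  haveI := (DerivedCategory.isIso_Q_map_iff_quasiIso (C := ModuleCat.{u} A) s).1 hs
  haveI := (DerivedCategory.isIso_Q_map_iff_quasiIso (C := ModuleCat.{u} A) g).1 inferInstance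
  exact (isBidual_iff_of_quasiIso I g).1 ((isBidual_iff_of_quasiIso I s).2 h)

section ShortExact

include hinj

theorem dd_shortExact {S : ShortComplex (DRing.Cx A)} (hS : S.ShortExact) :
    (dualSC I (dualSC I S)).ShortExact :=
  dualSC_shortExact I hinj (dualSC_shortExact I hinj hS)

omit [I.IsKInjective] in
theorem isBidual_two_of_three {S : ShortComplex (DRing.Cx A)} (hS : S.ShortExact) :
    (IsBidual I S.X₁ → IsBidual I S.X₂ → IsBidual I S.X₃) ∧
      (IsBidual I S.X₁ → IsBidual I S.X₃ → IsBidual I S.X₂) ∧
      (IsBidual I S.X₂ → IsBidual I S.X₃ → IsBidual I S.X₁) := by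
  have hT := dualSC_shortExact I hinj (dualSC_shortExact I hinj hS)
  refine ⟨fun h₁ h₂ => HomologicalComplex.HomologySequence.quasiIso_τ₃ (evSC I S) hS hT h₁ h₂,
    fun h₁ h₃ => Groth.Agent.Horseshoe.quasiIso_τ₂ (evSC I S) hS hT h₁ h₃, fun h₂ h₃ => ?_⟩
  exact (DerivedCategory.isIso_Q_map_iff_quasiIso (C := ModuleCat.{u} A) (evSC I S).τ₁).1
    (Pretriangulated.isIso₁_of_isIso₂₃ (DerivedCategory.triangleOfSES.map hS hT (evSC I S))
      (DerivedCategory.triangleOfSES_distinguished hS) (DerivedCategory.triangleOfSES_distinguished hT)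
      ((DerivedCategory.isIso_Q_map_iff_quasiIso (C := ModuleCat.{u} A) (evSC I S).τ₂).2 h₂)
      ((DerivedCategory.isIso_Q_map_iff_quasiIso (C := ModuleCat.{u} A) (evSC I S).τ₃).2 h₃))

/-- One degree, along the inclusion of a subcomplex whose quotient vanishes there. -/
theorem isIso_evI_mid {S : ShortComplex (DRing.Cx A)} (hS : S.ShortExact) (n : ℤ)
    (h₀ : IsZero (S.X₃.homology (n - 1))) (h : IsZero (S.X₃.homology n))
    (d₀ : IsZero ((dd I S.X₃).homology (n - 1))) (d : IsZero ((dd I S.X₃).homology n))
    (h₁ : IsIso (homologyMap (evI I S.X₁) n)) : IsIso (homologyMap (evI I S.X₂) n) := by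
  have hT := dd_shortExact I hinj hS
  haveI := isIso_homologyMap_f hS n h₀ h
  haveI : IsIso (homologyMap (ddMap I S.f) n) := isIso_homologyMap_f hT n d₀ d
  have e := congrArg (fun k => homologyMap k n) (evI_naturality I S.f)
  simp only [homologyMap_comp] at e
  haveI : IsIso (homologyMap S.f n ≫ homologyMap (evI I S.X₂) n) := by rw [e]; infer_instance
  exact IsIso.of_isIso_comp_left (homologyMap S.f n) _

end ShortExact

section Bounds

include hI

theorem isBidual_of_isZero {P : DRing.Cx A} (h : ∀ i, IsZero (P.X i)) : IsBidual I P := by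
  rw [IsBidual, quasiIso_iff]
  intro n
  rw [quasiIsoAt_iff_isIso_homologyMap]
  exact (isZero_homology_of_X (h n)).isIso (isZero_homology_of_X
    (isZero_dd_of_above I hI (m := n - (b - a) - 1) (fun p _ => h p) (by omega))) _

end Bounds

variable (hu : QuasiIso (GrothLib.DualRing.unitMap I))

include hu in
/-- The unit complex. -/
theorem isBidual_one : IsBidual I (GrothLib.RH.oneCx A) := by
  let e := GrothLib.RH.homCxOneIso I
  let η := singleObjXSelf (ComplexShape.up ℤ) (0 : ℤ) (ModuleCat.of A A)
  have key : evI I (GrothLib.RH.oneCx A) ≫ GrothLib.RH.homCxPre e.inv I = GrothLib.DualRing.unitMap I := by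
    refine from_single_hom_ext (ModuleCat.hom_ext (LinearMap.ext fun x => ?_))
    refine Cochain.ext _ _ fun m t h => ModuleCat.hom_ext (LinearMap.ext fun y => ?_)
    change (evIFun I (GrothLib.RH.oneCx A) 0 x).v m t h |> fun v => ((Cochain.ofHom e.inv).comp
      (evIFun I (GrothLib.RH.oneCx A) 0 x) (zero_add 0)).v m t h y =
        ((GrothLib.DualRing.unitMap I).f 0 x : Cochain I I 0).v m t h y
    rw [Cochain.zero_cochain_comp_v, Cochain.ofHom_v, GrothLib.DualRing.unitMap_f]
    obtain rfl : m = t := by omega
    change ((m * 0).negOnePow : ℤ) • (e.inv.f m y : Cochain (GrothLib.RH.oneCx A) I m).v 0 m _ x =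
      (η.hom x • Cochain.ofHom (𝟙 I)).v m m h y
    rw [Cochain.smul_v, Cochain.ofHom_v, mul_zero, Int.negOnePow_zero, Units.val_one, one_smul]
    have hx : x = η.hom x • η.inv (1 : A) := by
      rw [← map_smul, smul_eq_mul, mul_one]
      exact (ConcreteCategory.congr_hom η.hom_inv_id x).symm
    have hy : (e.inv.f m y : Cochain (GrothLib.RH.oneCx A) I m).v 0 m (zero_add m) (η.inv (1 : A)) = y :=
      ConcreteCategory.congr_hom (congrArg (fun φ => HomologicalComplex.Hom.f φ m) e.inv_hom_id) y
    conv_lhs => rw [hx, map_smul, hy]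
    rfl
  haveI : QuasiIso (evI I (GrothLib.RH.oneCx A) ≫ GrothLib.RH.homCxPre e.inv I) := by rw [key]; exact hu
  haveI : QuasiIso (GrothLib.RH.homCxPre e.inv I) := GrothLib.RH.quasiIso_homCxPre e.inv I
  exact quasiIso_of_comp_right (evI I (GrothLib.RH.oneCx A)) (GrothLib.RH.homCxPre e.inv I)

include hI hinj hu

/-- Finite free modules in degree `0`. -/
theorem isBidual_single₀ (F : ModuleCat.{u} A) [Module.Finite A F] [Module.Free A F] :
    IsBidual I ((HomologicalComplex.single (ModuleCat.{u} A) (ComplexShape.up ℤ) 0).obj F) := by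
  let s := HomologicalComplex.single (ModuleCat.{u} A) (ComplexShape.up ℤ) 0
  suffices h : ∀ r : ℕ, IsBidual I (s.obj (ModuleCat.of A (Fin r → A))) by
    let bF := Module.Free.chooseBasis A F
    let e : (Fin (Fintype.card (Module.Free.ChooseBasisIndex A F)) → A) ≃ₗ[A] F :=
      ((bF.reindex (Fintype.equivFin _)).equivFun).symm
    exact isBidual_of_iso I (s.mapIso e.toModuleIso) (h _)
  intro r
  induction r with
  | zero =>
    refine isBidual_of_isZero I hI fun i => ?_
    by_cases hi : i = 0
    · subst hi
      haveI : Subsingleton ((ModuleCat.of A (Fin 0 → A) : ModuleCat.{u} A)) :=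
        inferInstanceAs (Subsingleton (Fin 0 → A))
      exact (ModuleCat.isZero_of_subsingleton (ModuleCat.of A (Fin 0 → A))).of_iso
        (singleObjXSelf (ComplexShape.up ℤ) 0 _)
    · exact isZero_single_obj_X _ _ _ _ hi
  | succ r ih =>
    let M := ModuleCat.of A A
    let N := ModuleCat.of A (Fin r → A)
    have hS := ((ShortComplex.Splitting.ofHasBinaryBiproduct M N).map s).shortExact
    refine isBidual_of_iso I (s.mapIso (ModuleCat.biprodIsoProd M N ≪≫
      (Fin.consLinearEquiv A (fun _ : Fin (r + 1) => A)).toModuleIso)) ?_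
    exact (isBidual_two_of_three I hinj hS).2.1 (isBidual_one I hu) ih

/-- Finite free modules in any degree. -/
theorem isBidual_single (n : ℤ) (F : ModuleCat.{u} A) [Module.Finite A F] [Module.Free A F] :
    IsBidual I ((HomologicalComplex.single (ModuleCat.{u} A) (ComplexShape.up ℤ) n).obj F) := by
  have step : ∀ m : ℤ, IsBidual I ((HomologicalComplex.single (ModuleCat.{u} A) (ComplexShape.up ℤ) (m + 1)).obj F) ↔
      IsBidual I ((HomologicalComplex.single (ModuleCat.{u} A) (ComplexShape.up ℤ) m).obj F) := by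
    intro m
    have hne : m ≠ m + 1 := by omega
    have hr : (ComplexShape.up ℤ).Rel m (m + 1) := rfl
    let C : DRing.Cx A := HomologicalComplex.double (𝟙 F) hr
    have hd : IsIso (C.d m (m + 1)) := by
      rw [show C.d m (m + 1) = _ from HomologicalComplex.double_d (𝟙 F) _ hne]
      infer_instance
    have hbij : Function.Bijective (C.d m (m + 1)) := (ConcreteCategory.isIso_iff_bijective _).1 hd
    have hex : ∀ i, C.ExactAt i := by
      intro i
      by_cases h0 : i = m
      · subst h0
        rw [C.exactAt_iff' (i - 1) i (i + 1) (by simp) (by simp)]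
        refine (ShortComplex.moduleCat_exact_iff _).2 fun x hx => ⟨0, ?_⟩
        rw [map_zero]
        exact (hbij.1 (hx.trans (map_zero _).symm)).symm
      · by_cases h1 : i = m + 1
        · subst h1
          rw [C.exactAt_iff' m (m + 1) (m + 1 + 1) (by simp) (by simp)]
          exact (ShortComplex.moduleCat_exact_iff _).2 fun x _ => hbij.2 x
        · exact ShortComplex.exact_of_isZero_X₂ _ (HomologicalComplex.isZero_double_X (𝟙 F) hr i h0 h1)
    have hC : IsBidual I C := by
      obtain ⟨Z, hZ⟩ : ∃ Z : DRing.Cx A, ∀ i, IsZero (Z.X i) :=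
        ⟨(HomologicalComplex.single (ModuleCat.{u} A) (ComplexShape.up ℤ) 0).obj (ModuleCat.of A (Fin 0 → A)), fun i => by
          by_cases hi : i = 0
          · subst hi
            haveI : Subsingleton ((ModuleCat.of A (Fin 0 → A) : ModuleCat.{u} A)) :=
              inferInstanceAs (Subsingleton (Fin 0 → A))
            exact (ModuleCat.isZero_of_subsingleton (ModuleCat.of A (Fin 0 → A))).of_iso
              (singleObjXSelf (ComplexShape.up ℤ) 0 _)
          · exact isZero_single_obj_X _ _ _ _ hi⟩
      haveI : QuasiIso (0 : Z ⟶ C) := by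
        rw [quasiIso_iff]
        intro i
        rw [quasiIsoAt_iff_isIso_homologyMap]
        exact (isZero_homology_of_X (hZ i)).isIso ((C.exactAt_iff_isZero_homology i).1 (hex i)) _
      exact (isBidual_iff_of_quasiIso I (0 : Z ⟶ C)).1 (isBidual_of_isZero I hI hZ)
    let e₁ : (GrothLib.DerCat.stupidSeq C (m + 1)).X₁ ≅
        (HomologicalComplex.single (ModuleCat.{u} A) (ComplexShape.up ℤ) (m + 1)).obj F :=
      isoSingle (m + 1) (fun i hi => by
        rcases lt_or_gt_of_ne hi with h | h
        · exact GrothLib.DerCat.isZero_sGE C h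
        · exact (HomologicalComplex.isZero_double_X (𝟙 F) hr i (by omega) hi).of_iso
            (GrothLib.DerCat.sGEXIso C (by omega)))
        (GrothLib.DerCat.sGEXIso C le_rfl ≪≫ HomologicalComplex.doubleXIso₁ _ _ hne)
    let e₃ : (GrothLib.DerCat.stupidSeq C (m + 1)).X₃ ≅
        (HomologicalComplex.single (ModuleCat.{u} A) (ComplexShape.up ℤ) m).obj F :=
      isoSingle m (fun i hi => by
        rcases lt_or_gt_of_ne hi with h | h
        · exact (HomologicalComplex.isZero_double_X (𝟙 F) hr i hi (by omega)).of_iso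
            (GrothLib.DerCat.sLEXIso C (by omega))
        · exact GrothLib.DerCat.isZero_sLE C (by omega))
        (GrothLib.DerCat.sLEXIso C (by omega : m ≤ m + 1 - 1) ≪≫ HomologicalComplex.doubleXIso₀ _ _)
    have h23 := isBidual_two_of_three I hinj (GrothLib.DerCat.stupidSeq_shortExact C (m + 1))
    constructor
    · intro h
      exact isBidual_of_iso I e₃ (h23.1 (isBidual_of_iso I e₁.symm h) hC)
    · intro h
      exact isBidual_of_iso I e₁ (h23.2.2 hC (isBidual_of_iso I e₃.symm h))
  induction n using Int.induction_on with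
  | zero => exact isBidual_single₀ I hI hinj hu F
  | succ i ih => exact (step i).2 ih
  | pred i ih => exact (step _).1 (by rwa [show -(i : ℤ) - 1 + 1 = -i by omega])

/-- Bounded complexes of finite free modules. -/
theorem isBidual_bounded : ∀ (k : ℕ) (P : DRing.Cx A) (m : ℤ), DRing.TermwiseFiniteFree P →
    (∀ i, (i < m ∨ m + k ≤ i) → IsZero (P.X i)) → IsBidual I P := by
  intro k
  induction k with
  | zero => exact fun P m _ hP => isBidual_of_isZero I hI fun i => hP i (by omega)
  | succ k ih =>
    intro P m hf hP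
    have hS := GrothLib.DerCat.stupidSeq_shortExact P (m + 1)
    refine (isBidual_two_of_three I hinj hS).2.1 (ih (GrothLib.DerCat.sGE P (m + 1)) (m + 1) (fun i => ?_) fun i hi => ?_) ?_
    · rcases lt_or_ge i (m + 1) with h | h
      · haveI := ModuleCat.subsingleton_of_isZero (GrothLib.DerCat.isZero_sGE P h)
        exact ⟨inferInstance, inferInstance⟩
      · obtain ⟨h1, h2⟩ := hf i
        haveI := h1
        haveI := h2
        exact ⟨Module.Finite.equiv (GrothLib.DerCat.sGEXIso P h).toLinearEquiv.symm,
          Module.Free.of_equiv (GrothLib.DerCat.sGEXIso P h).toLinearEquiv.symm⟩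
    · rcases lt_or_ge i (m + 1) with h | h
      · exact GrothLib.DerCat.isZero_sGE P h
      · exact (hP i (Or.inr (by push_cast; omega))).of_iso (GrothLib.DerCat.sGEXIso P h)
    · obtain ⟨h1, h2⟩ := hf m
      haveI := h1
      haveI := h2
      refine isBidual_of_iso I (isoSingle m (fun i hi => ?_)
        (GrothLib.DerCat.sLEXIso P (by omega : m ≤ m + 1 - 1))).symm (isBidual_single I hI hinj hu m (P.X m))
      rcases lt_or_gt_of_ne hi with h | h
      · exact (hP i (Or.inl h)).of_iso (GrothLib.DerCat.sLEXIso P (by omega))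
      · exact GrothLib.DerCat.isZero_sLE P (by omega)

/-- Bounded above complexes of finite free modules. -/
theorem isBidual_finiteFree (hab : a ≤ b) (P : DRing.Cx A) (c : ℤ) (hP : DRing.VanishesAbove P c)
    (hf : DRing.TermwiseFiniteFree P) : IsBidual I P := by
  rw [IsBidual, quasiIso_iff]
  intro n
  rw [quasiIsoAt_iff_isIso_homologyMap]
  set m : ℤ := n - (b - a) - 1 with hm
  have hS := GrothLib.DerCat.stupidSeq_shortExact P m
  have hz : ∀ p, m - 1 < p → IsZero ((GrothLib.DerCat.sLE P (m - 1)).X p) := fun p hp =>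
    GrothLib.DerCat.isZero_sLE P hp
  refine isIso_evI_mid I hinj hS n (isZero_homology_of_X (hz _ (by omega))) (isZero_homology_of_X (hz _ (by omega)))
    (isZero_homology_of_X (isZero_dd_of_above I hI hz (by omega)))
    (isZero_homology_of_X (isZero_dd_of_above I hI hz (by omega))) ?_
  have hb : IsBidual I (GrothLib.DerCat.sGE P m) := by
    refine isBidual_bounded I hI hinj hu (c + 1 - m).toNat _ m (fun i => ?_) fun i hi => ?_
    · rcases lt_or_ge i m with h | h
      · haveI := ModuleCat.subsingleton_of_isZero (GrothLib.DerCat.isZero_sGE P h)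
        exact ⟨inferInstance, inferInstance⟩
      · obtain ⟨h1, h2⟩ := hf i
        haveI := h1
        haveI := h2
        exact ⟨Module.Finite.equiv (GrothLib.DerCat.sGEXIso P h).toLinearEquiv.symm,
          Module.Free.of_equiv (GrothLib.DerCat.sGEXIso P h).toLinearEquiv.symm⟩
    · rcases lt_or_ge i m with h | h
      · exact GrothLib.DerCat.isZero_sGE P h
      · exact (hP i (by omega)).of_iso (GrothLib.DerCat.sGEXIso P h)
  haveI : QuasiIso (evI I (GrothLib.DerCat.sGE P m)) := hb
  change IsIso (homologyMap (evI I (GrothLib.DerCat.sGE P m)) n)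
  rw [← quasiIsoAt_iff_isIso_homologyMap]
  infer_instance

/-- **Biduality** for complexes with finite cohomology. -/
theorem isBidual_of_finite [IsNoetherianRing A] (hab : a ≤ b) (K : DRing.Cx A)
    (hK : ∀ i, Module.Finite A (Dual.HD A (DRing.toD K) i)) : IsBidual I K := by
  rw [IsBidual, quasiIso_iff]
  intro n
  rw [quasiIsoAt_iff_isIso_homologyMap]
  set m : ℤ := n + (b - a) with hm
  have hS := K.shortComplexTruncLE_shortExact m
  let q := K.shortComplexTruncLEX₃ToTruncGE m (m + 1) rfl
  haveI := quasiIso_ddMap I q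
  have hg : ∀ p, p < m + 1 → IsZero ((K.truncGE (m + 1)).X p) := fun p hp =>
    (K.truncGE (m + 1)).isZero_of_isStrictlyGE (m + 1) p hp
  have hq : ∀ p, IsIso (homologyMap q p) := fun p => by rw [← quasiIsoAt_iff_isIso_homologyMap]; infer_instance
  have hq' : ∀ p, IsIso (homologyMap (ddMap I q) p) := fun p => by
    rw [← quasiIsoAt_iff_isIso_homologyMap]; infer_instance
  refine isIso_evI_mid I hinj hS n
    ((isZero_homology_of_X (hg _ (by omega))).of_iso (@asIso _ _ _ _ _ (hq (n - 1))))
    ((isZero_homology_of_X (hg _ (by omega))).of_iso (@asIso _ _ _ _ _ (hq n)))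
    ((isZero_homology_of_X (isZero_dd_of_below I hI hg (by omega))).of_iso (@asIso _ _ _ _ _ (hq' (n - 1))))
    ((isZero_homology_of_X (isZero_dd_of_below I hI hg (by omega))).of_iso (@asIso _ _ _ _ _ (hq' n))) ?_
  have hT : IsBidual I (K.truncLE m) := by
    have hfin : ∀ i, Module.FinitePresentation A (Dual.HD A (DRing.toD (K.truncLE m)) i) := fun i => by
      haveI := hK i
      haveI : Module.Finite A (Dual.HD A (DRing.toD (K.truncLE m)) i) := by
        by_cases hi : i ≤ m
        · haveI hq : QuasiIsoAt (K.ιTruncLE m) i := K.quasiIsoAt_ιTruncLE m i hi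
          let e₀ := @asIso _ _ _ _ _ ((quasiIsoAt_iff_isIso_homologyMap (K.ιTruncLE m) i).1 hq)
          exact @Module.Finite.equiv _ _ _ _ _ _ _ _ (hK i) (((DerivedCategory.homologyFunctorFactors (ModuleCat.{u} A) i).app _) ≪≫
            e₀ ≪≫ ((DerivedCategory.homologyFunctorFactors (ModuleCat.{u} A) i).app K).symm).toLinearEquiv.symm
        · haveI : Subsingleton (Dual.HD A (DRing.toD (K.truncLE m)) i) :=
            (GrothLib.DR.subsingleton_iff_isZero _).2 ((isZero_homology_of_X
              ((K.truncLE m).isZero_of_isStrictlyLE m i (by omega))).of_iso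
              ((DerivedCategory.homologyFunctorFactors (ModuleCat.{u} A) i).app (K.truncLE m)))
          exact Module.Finite.of_finite
      exact Module.finitePresentation_of_finite A _
    obtain ⟨E, c, hE, hEf, ⟨e⟩⟩ := (GrothLib.DR.isPseudoCoherent'_iff_of_coherent
      (fun J _ => Module.finitePresentation_of_finite A J) (DRing.toD (K.truncLE m))
      ⟨m, fun i hi => (GrothLib.DR.subsingleton_iff_isZero _).2 ((isZero_homology_of_X
        ((K.truncLE m).isZero_of_isStrictlyLE m i hi)).of_iso
        ((DerivedCategory.homologyFunctorFactors (ModuleCat.{u} A) i).app (K.truncLE m)))⟩).2 hfin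
    exact isBidual_of_isoD I e (isBidual_finiteFree I hI hinj hu hab E c hE hEf)
  haveI : QuasiIso (evI I (K.truncLE m)) := hT
  change IsIso (homologyMap (evI I (K.truncLE m)) n)
  rw [← quasiIsoAt_iff_isIso_homologyMap]
  infer_instance

end GrothLib.DualCx22
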