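import Groth.Agent.Lib.DualCx22.Bidual
import Groth.Agent.Lib.DualCx22.HomFinite
import Groth.Agent.Lib.DualRing.HomHD
import Groth.Agent.Lib.RGamma.Classes
import Groth.Agent.Lib.RGamma.Compute
import Mathlib.Algebra.Homology.HomotopyCategory.Pretriangulated
import Mathlib.Algebra.Homology.HomologySequenceLemmas
import Mathlib.CategoryTheory.Preadditive.Biproducts
import Mathlib.RingTheory.SimpleModule.Basic

/-!
# Biduality from the residue field

Over a Noetherian local ring, a bounded complex of injectives `I` with finite cohomology and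
`Hom(k, I⟦i⟧) = k` for `i = d`, `0` otherwise, satisfies biduality for every bounded complex with finite cohomology.
-/

set_option autoImplicit false
set_option linter.style.haveILetI false
universe u

open CategoryTheory CategoryTheory.Limits CochainComplex CochainComplex.HomComplex HomologicalComplex

attribute [local instance] HasDerivedCategory.standard

namespace GrothLib.DualCx22

variable {A : Type u} [CommRing A]

/-- Finite and bounded cohomology. -/
structure SmallH (P : DRing.Cx A) : Prop where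
  finite : ∀ n, Module.Finite A (P.homology n)
  bdd : ∃ c e : ℤ, ∀ n, (n < c ∨ e < n) → Subsingleton (P.homology n)

section Local

variable [IsLocalRing A] [IsNoetherianRing A] (I : DRing.Cx A) [I.IsKInjective] {a b : ℤ}
  (hI : ∀ t, (t < a ∨ b < t) → IsZero (I.X t)) (hinj : ∀ t, Injective (I.X t))
  (hfin : ∀ n, Module.Finite A (Dual.HD A (DRing.toD I) n)) {d : ℤ}
  (hvan : ∀ i : ℤ, i ≠ d → Subsingleton (Dual.inD A (IsLocalRing.ResidueField A) ⟶ (DRing.toD I)⟦i⟧))
  (hd : Nonempty ((Dual.inD A (IsLocalRing.ResidueField A) ⟶ (DRing.toD I)⟦d⟧) ≃ₗ[A] IsLocalRing.ResidueField A))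

local notation "kk" => ModuleCat.of A (IsLocalRing.ResidueField A)

omit [IsNoetherianRing A] in
theorem isSimpleModule_residueField : IsSimpleModule A (IsLocalRing.ResidueField A) :=
  (isSimpleModule_iff_isCoatom (R := A) (M := A)).2 (Ideal.isMaximal_def.1 (IsLocalRing.maximalIdeal.isMaximal A))

omit [IsNoetherianRing A] [I.IsKInjective] in
theorem nonempty_hom_single_equiv (n p : ℤ) :
    Nonempty ((DRing.toD ((CochainComplex.singleFunctor (ModuleCat.{u} A) n).obj kk) ⟶ (DRing.toD I)⟦p⟧) ≃ₗ[A]
      (Dual.inD A (IsLocalRing.ResidueField A) ⟶ (DRing.toD I)⟦p + n⟧)) :=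
  ⟨(Linear.homCongr A (GrothLib.DR.toDSingleIso n kk) (Iso.refl _)).trans
    (homShiftLEquiv (Dual.inD A (IsLocalRing.ResidueField A)) (DRing.toD I) (-n) p (p + n) (by omega))⟩

include hI hinj hvan hd in
/-- Shifts of the residue field are reflexive. -/
theorem isBidual_residueField (n : ℤ) :
    IsBidual I ((CochainComplex.singleFunctor (ModuleCat.{u} A) n).obj kk) := by
  haveI := isSimpleModule_residueField (A := A)
  let P := (CochainComplex.singleFunctor (ModuleCat.{u} A) n).obj kk
  let D := DRing.homCx P I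
  have hD : ∀ p, p ≠ d - n → Subsingleton (Dual.HD A (DRing.toD D) p) := fun p hp => by
    obtain ⟨e₁⟩ := GrothLib.DualRing.exists_HD_homCx_equiv P I p
    obtain ⟨e₂⟩ := nonempty_hom_single_equiv I n p
    haveI := hvan (p + n) (by omega)
    exact (e₁.trans e₂).toEquiv.subsingleton
  obtain ⟨eD⟩ : Nonempty (Dual.HD A (DRing.toD D) (d - n) ≃ₗ[A] IsLocalRing.ResidueField A) := by
    obtain ⟨e₁⟩ := GrothLib.DualRing.exists_HD_homCx_equiv P I (d - n)
    obtain ⟨e₂⟩ := nonempty_hom_single_equiv I n (d - n)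
    obtain ⟨e⟩ := hd
    exact ⟨((e₁.trans e₂).trans (Linear.homCongr A (Iso.refl (Dual.inD A (IsLocalRing.ResidueField A)))
      (eqToIso (show (DRing.toD I)⟦d - n + n⟧ = (DRing.toD I)⟦d⟧ by rw [sub_add_cancel])))).trans e⟩
  haveI : DerivedCategory.IsGE (DRing.toD D) (d - n) := by
    rw [DerivedCategory.isGE_iff]
    exact fun p hp => (GrothLib.DR.subsingleton_iff_isZero _).1 (hD p hp.ne)
  haveI : DerivedCategory.IsLE (DRing.toD D) (d - n) := by
    rw [DerivedCategory.isLE_iff]
    exact fun p hp => (GrothLib.DR.subsingleton_iff_isZero _).1 (hD p hp.ne')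
  obtain ⟨H, ⟨eH⟩⟩ := DerivedCategory.exists_iso_singleFunctor_obj_of_isGE_of_isLE (DRing.toD D) (d - n)
  let eHk : H ≅ kk :=
    ((DerivedCategory.singleFunctorCompHomologyFunctorIso (ModuleCat.{u} A) (d - n)).app H).symm ≪≫
      (DerivedCategory.homologyFunctor (ModuleCat.{u} A) (d - n)).mapIso eH.symm ≪≫ eD.toModuleIso
  let eDk : DRing.toD D ≅ DRing.toD ((CochainComplex.singleFunctor (ModuleCat.{u} A) (d - n)).obj kk) :=
    eH ≪≫ (DerivedCategory.singleFunctor (ModuleCat.{u} A) (d - n)).mapIso eHk ≪≫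
      GrothLib.DR.singleIsoShift (d - n) kk ≪≫ (GrothLib.DR.toDSingleIso (d - n) kk).symm
  have hDD : ∀ j, Nonempty (Dual.HD A (DRing.toD (dd I P)) j ≃ₗ[A]
      (Dual.inD A (IsLocalRing.ResidueField A) ⟶ (DRing.toD I)⟦j + (d - n)⟧)) := fun j => by
    obtain ⟨e₁⟩ := GrothLib.DualRing.exists_HD_homCx_equiv D I j
    obtain ⟨e₂⟩ := nonempty_hom_single_equiv I (d - n) j
    exact ⟨(e₁.trans (Linear.homCongr A eDk (Iso.refl _))).trans e₂⟩
  rw [IsBidual, quasiIso_iff]
  intro j
  rw [quasiIsoAt_iff_isIso_homologyMap]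
  by_cases hj : j = n
  swap
  · have h1 : IsZero (P.homology j) := isZero_homology_of_X (isZero_single_obj_X _ _ _ _ hj)
    have h2 : IsZero ((dd I P).homology j) := by
      obtain ⟨e⟩ := hDD j
      haveI := hvan (j + (d - n)) (by omega)
      haveI : Subsingleton ((dd I P).homology j) :=
        ((GrothLib.RGamma.hdEquiv (dd I P) j).symm.trans e).toEquiv.subsingleton
      exact ModuleCat.isZero_of_subsingleton _
    exact h1.isIso h2 _
  subst hj
  let eP : P.homology j ≃ₗ[A] IsLocalRing.ResidueField A :=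
    (HomologicalComplex.singleObjHomologySelfIso (ComplexShape.up ℤ) j kk).toLinearEquiv
  obtain ⟨eQ⟩ : Nonempty ((dd I P).homology j ≃ₗ[A] IsLocalRing.ResidueField A) := by
    obtain ⟨e⟩ := hDD j
    obtain ⟨e'⟩ := hd
    exact ⟨(((GrothLib.RGamma.hdEquiv (dd I P) j).symm.trans e).trans
      (Linear.homCongr A (Iso.refl (Dual.inD A (IsLocalRing.ResidueField A)))
        (eqToIso (show (DRing.toD I)⟦j + (d - j)⟧ = (DRing.toD I)⟦d⟧ by rw [add_sub_cancel])))).trans e'⟩
  haveI : IsSimpleModule A (P.homology j) := IsSimpleModule.congr eP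
  haveI : IsSimpleModule A ((dd I P).homology j) := IsSimpleModule.congr eQ
  rw [ConcreteCategory.isIso_iff_bijective]
  refine ((LinearMap.bijective_or_eq_zero (homologyMap (evI I P) j).hom).resolve_right fun h0 => ?_)
  let η := singleObjXSelf (ComplexShape.up ℤ) j kk
  let z : P.X j := η.inv (1 : IsLocalRing.ResidueField A)
  have hz : P.d j (j + 1) z = 0 := by
    rw [(isZero_single_obj_X (ComplexShape.up ℤ) j kk (j + 1) (by omega)).eq_of_tgt (P.d j (j + 1)) 0]
    rfl
  have hev : (dd I P).d j (j + 1) ((evI I P).f j z) = 0 := GrothLib.RGamma.map_cocycle (evI I P) hz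
  obtain ⟨w, hw⟩ := (GrothLib.RGamma.cls_eq_zero_iff (K := dd I P) (sub_add_cancel j 1) _ hev).1
    ((GrothLib.RGamma.cls_map (evI I P) z hz).symm.trans (LinearMap.congr_fun h0 _))
  let t : ℤ := d
  let p : ℤ := d - j
  obtain ⟨φ, hφ, hcl⟩ := GrothLib.RGamma.cls_surjective (K := D) p (GrothLib.RGamma.hdEquiv D p (eD.symm 1))
  have hne : GrothLib.RGamma.cls (K := D) p φ hφ ≠ 0 := by
    rw [hcl, ne_eq, LinearEquiv.map_eq_zero_iff, LinearEquiv.map_eq_zero_iff]
    exact one_ne_zero
  have e1 : ((dd I P).d (j - 1) j w : Cochain D I j).v p t (by omega) φ =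
      ((p * j).negOnePow : ℤ) • (Cochain.v φ j t (by omega)) z := by
    rw [hw]
    rfl
  let y₀ : I.X (t - 1) := (Cochain.v w p (t - 1) (by omega)) φ
  have e2 : ((dd I P).d (j - 1) j w : Cochain D I j).v p t (by omega) φ = I.d (t - 1) t y₀ := by
    change (δ (j - 1) j w).v p t _ φ = _
    rw [δ_v (j - 1) j (by omega) w p t (by omega) (t - 1) (p + 1) (by omega) rfl]
    change I.d (t - 1) t ((Cochain.v w p (t - 1) _) φ) +
      (j.negOnePow : ℤ) • (Cochain.v w (p + 1) t _) (D.d p (p + 1) φ) = _
    rw [hφ, map_zero, smul_zero, add_zero]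
  let y : I.X (t - 1) := ((p * j).negOnePow : ℤ) • y₀
  have hy : I.d (t - 1) t y = (Cochain.v φ j t (by omega)) z := by
    rw [map_zsmul, ← e2, e1, smul_smul, ← Units.val_mul, ← Int.negOnePow_add,
      Int.negOnePow_even _ ⟨p * j, rfl⟩, Units.val_one, one_smul]
  have hmy : ∀ r ∈ IsLocalRing.maximalIdeal A, r • y = 0 := fun r hr => by
    have h1 : r • φ = 0 := by
      refine Cochain.ext _ _ fun q q' hq => ?_
      by_cases hqj : q = j
      · subst hqj
        refine ModuleCat.hom_ext (LinearMap.ext fun x => ?_)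
        change r • (Cochain.v φ q q' hq) x = 0
        rw [← map_smul]
        have hrx : r • x = 0 := (η.toLinearEquiv).injective (by
          refine (η.toLinearEquiv.map_smul r x).trans (Eq.trans ?_ (map_zero _).symm)
          obtain ⟨s, hs⟩ := Ideal.Quotient.mk_surjective (η.toLinearEquiv x)
          rw [← hs]
          exact Ideal.Quotient.eq_zero_iff_mem.2 (Ideal.mul_mem_right _ _ hr))
        rw [hrx, map_zero]
      · exact (isZero_single_obj_X (ComplexShape.up ℤ) j kk q hqj).eq_of_src _ _
    rw [smul_comm, show r • y₀ = 0 from by rw [← map_smul, h1, map_zero], smul_zero]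
  let g : kk ⟶ I.X (t - 1) := ModuleCat.ofHom
    (Submodule.liftQ (IsLocalRing.maximalIdeal A) (LinearMap.toSpanSingleton A _ y) fun r hr => hmy r hr)
  refine hne ((GrothLib.RGamma.cls_eq_zero_iff (K := D) (sub_add_cancel p 1) φ hφ).2
    ⟨Cochain.fromSingleMk g (show j + (p - 1) = t - 1 by omega), ?_⟩)
  change δ (p - 1) p (Cochain.fromSingleMk g _) = φ
  rw [Cochain.δ_fromSingleMk g _ p t (by omega)]
  refine (Cochain.fromSingleEquiv (show j + p = t by omega)).injective ?_
  refine (Cochain.fromSingleEquiv_fromSingleMk _ _).trans (ModuleCat.hom_ext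
    (Submodule.linearMap_qext _ (LinearMap.ext_ring ?_)))
  change I.d (t - 1) t ((1 : A) • y) = (Cochain.v φ j t _) z
  rw [one_smul, hy]

include hI hinj hvan hd in
/-- Modules of finite length in any degree are reflexive. -/
theorem isBidual_finiteLength (n : ℤ) {M : Type u} [AddCommGroup M] [Module A M] (hM : IsFiniteLength A M) :
    IsBidual I ((CochainComplex.singleFunctor (ModuleCat.{u} A) n).obj (ModuleCat.of A M)) := by
  induction hM with
  | @of_subsingleton M _ _ _ =>
    refine isBidual_of_isZero I hI fun i => ?_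
    by_cases hi : i = n
    · subst hi
      exact (ModuleCat.isZero_of_subsingleton (ModuleCat.of A M)).of_iso
        (singleObjXSelf (ComplexShape.up ℤ) i (ModuleCat.of A M))
    · exact isZero_single_obj_X _ _ _ _ hi
  | @of_simple_quotient M _ _ N _ _ ih =>
    obtain ⟨J, hJ, ⟨e⟩⟩ := isSimpleModule_iff_quot_maximal.1 (inferInstance : IsSimpleModule A (M ⧸ N))
    rw [IsLocalRing.eq_maximalIdeal hJ] at e
    let F := CochainComplex.singleFunctor (ModuleCat.{u} A) n
    let S : ShortComplex (ModuleCat.{u} A) := ShortComplex.mk (ModuleCat.ofHom N.subtype) (ModuleCat.ofHom N.mkQ)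
      (ModuleCat.hom_ext (LinearMap.exact_subtype_mkQ N).linearMap_comp_eq_zero)
    have hS : S.ShortExact :=
      { exact := (ShortComplex.moduleCat_exact_iff _).2 fun x hx => ((LinearMap.exact_subtype_mkQ N) x).1 hx
        mono_f := (ModuleCat.mono_iff_injective _).2 N.injective_subtype
        epi_g := (ModuleCat.epi_iff_surjective _).2 N.mkQ_surjective }
    haveI : PreservesFiniteLimits (HomologicalComplex.single (ModuleCat.{u} A) (ComplexShape.up ℤ) n) := inferInstance
    exact (isBidual_two_of_three I hinj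
      (hS.map_of_exact (HomologicalComplex.single (ModuleCat.{u} A) (ComplexShape.up ℤ) n))).2.1 ih
      (isBidual_of_iso I (F.mapIso (LinearEquiv.toModuleIso (e.symm : IsLocalRing.ResidueField A ≃ₗ[A] M ⧸ N)))
        (isBidual_residueField I hI hinj hvan hd n))

end Local

end GrothLib.DualCx22
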