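import Groth.Agent.Lib.DualCx22.Coind
import Mathlib.Algebra.Homology.DerivedCategory.ShortExact

/-!
# The evaluation triangle of the right adjoint of restriction along a surjection
-/

set_option autoImplicit false
set_option linter.style.haveILetI false
universe u

open CategoryTheory CategoryTheory.Limits CategoryTheory.Pretriangulated CochainComplex CochainComplex.HomComplex
  HomologicalComplex

attribute [local instance] HasDerivedCategory.standard

namespace GrothLib.DualCx22

variable {A B : Type u} [CommRing A] [CommRing B] (φ : A →+* B)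

/-- The unit as an element of the restricted ring. -/
noncomputable def oneR : (ModuleCat.restrictScalars.{u} φ).obj (ModuleCat.of B B) := (1 : B)

theorem smul_oneR (a : A) : a • oneR φ = (φ a : B) := mul_one (φ a)

/-- Evaluation at `1` on a coinduced module, as a linear map. -/
noncomputable def evOneLin (M : ModuleCat.{u} A) :
    ((ModuleCat.restrictScalars.{u} φ).obj ((ModuleCat.coextendScalars.{u, u, u} φ).obj M)) →ₗ[A] M where
  toFun g := ModuleCat.CoextendScalars.equiv φ M g (oneR φ)
  map_add' _ _ := rfl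
  map_smul' a g := by
    have h : (@HMul.hMul B B B _ (1 : B) (φ a)) = a • oneR φ := by rw [smul_oneR, one_mul]
    refine Eq.trans ?_ (map_smul (ModuleCat.CoextendScalars.equiv φ M g) a (oneR φ))
    exact congrArg (ModuleCat.CoextendScalars.equiv φ M g) h

/-- Evaluation at `1` on a coinduced module. -/
noncomputable def evOne (M : ModuleCat.{u} A) :
    (ModuleCat.restrictScalars.{u} φ).obj ((ModuleCat.coextendScalars.{u, u, u} φ).obj M) ⟶ M :=
  ModuleCat.ofHom
    (X := ((ModuleCat.restrictScalars.{u} φ).obj ((ModuleCat.coextendScalars.{u, u, u} φ).obj M) : Type u))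
    (evOneLin φ M)

theorem evOne_apply (M : ModuleCat.{u} A)
    (g : (ModuleCat.restrictScalars.{u} φ).obj ((ModuleCat.coextendScalars.{u, u, u} φ).obj M)) :
    evOne φ M g = ModuleCat.CoextendScalars.equiv φ M g (oneR φ) :=
  rfl

theorem evOne_naturality {M N : ModuleCat.{u} A} (d : M ⟶ N) :
    evOne φ M ≫ d = (ModuleCat.restrictScalars.{u} φ).map ((ModuleCat.coextendScalars.{u, u, u} φ).map d) ≫ evOne φ N :=
  ModuleCat.hom_ext (LinearMap.ext fun g => rfl)

/-- Evaluation at `1` on the coinduced complex. -/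
noncomputable def coEv (I : DRing.Cx A) :
    ((ModuleCat.restrictScalars.{u} φ).mapHomologicalComplex (ComplexShape.up ℤ)).obj (coI φ I) ⟶ I where
  f n := evOne φ (I.X n)
  comm' n m _ := evOne_naturality φ (I.d n m)

variable (hs : Function.Surjective φ)

include hs in
theorem evOne_injective (M : ModuleCat.{u} A) : Function.Injective (evOne φ M) := by
  intro g g' h
  refine ModuleCat.CoextendScalars.ext (LinearMap.ext fun (s : B) => ?_)
  obtain ⟨a, rfl⟩ := hs s
  rw [← smul_oneR φ a, map_smul, map_smul]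
  exact congrArg (a • ·) h

theorem evOne_mem (M : ModuleCat.{u} A) (a : A) (ha : φ a = 0)
    (g : (ModuleCat.restrictScalars.{u} φ).obj ((ModuleCat.coextendScalars.{u, u, u} φ).obj M)) :
    a • evOne φ M g = 0 := by
  rw [evOne_apply, ← map_smul, smul_oneR, ha]
  exact map_zero _

include hs in
theorem exists_evOne_eq (M : ModuleCat.{u} A) (x : M) (hx : ∀ a, φ a = 0 → a • x = 0) :
    ∃ g, evOne φ M g = x := by
  let p : A →ₗ[A] ((ModuleCat.restrictScalars.{u} φ).obj (ModuleCat.of B B)) :=
    { toFun := fun a => φ a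
      map_add' := fun a b => map_add φ a b
      map_smul' := fun a b => map_mul φ a b }
  let q := (LinearMap.ker p).liftQ (LinearMap.toSpanSingleton A M x) (fun a ha => hx a ha)
  let g := q ∘ₗ (LinearMap.quotKerEquivOfSurjective p hs).symm.toLinearMap
  refine ⟨(ModuleCat.CoextendScalars.equiv φ M).symm g, ?_⟩
  change g (oneR φ) = x
  have h1 : (LinearMap.quotKerEquivOfSurjective p hs).symm (oneR φ) = Submodule.Quotient.mk 1 :=
    (LinearEquiv.symm_apply_eq _).2 (map_one φ).symm
  exact (congrArg q h1).trans (one_smul A x)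

/-- Multiplication by a nonzerodivisor is surjective on an injective module. -/
theorem smul_surjective_of_injective {M : ModuleCat.{u} A} [Injective M] {f : A} (hf : f ∈ nonZeroDivisors A) (x : M) :
    ∃ y : M, f • y = x := by
  haveI : Module.Injective A M := (Module.injective_iff_injective_object A M).2 inferInstance
  obtain ⟨h, hh⟩ := Module.Injective.out (f • LinearMap.id : A →ₗ[A] A)
    (fun a b hab => (mem_nonZeroDivisors_iff.1 hf).1 _ |> fun k => sub_eq_zero.1 (k (by
      simp only [LinearMap.smul_apply, LinearMap.id_coe, id_eq, smul_eq_mul] at hab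
      rw [mul_sub, hab, sub_self]))) (LinearMap.toSpanSingleton A M x)
  refine ⟨h 1, ?_⟩
  rw [← map_smul]
  exact (hh 1).trans (one_smul A x)

include hs in
/-- **The triangle of a nonzerodivisor.** -/
theorem exists_triangle_nonZeroDivisor {ω : Dual.D A} (r : InjRep ω) (R : Dual.D A ⥤ Dual.D B)
    (adj : DRing.restrictD φ ⊣ R) (f : A) (hf : f ∈ nonZeroDivisors A) (hker : ∀ a, φ a = 0 ↔ f ∣ a) :
    ∃ (u : (DRing.restrictD φ).obj (R.obj ω) ⟶ ω) (w : ω ⟶ ((DRing.restrictD φ).obj (R.obj ω))⟦(1 : ℤ)⟧),
      Triangle.mk u (f • 𝟙 ω) w ∈ distinguishedTriangles := by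
  haveI := r.kInj
  let L := (ModuleCat.restrictScalars.{u} φ).mapHomologicalComplex (ComplexShape.up ℤ)
  have hz : coEv φ r.I ≫ (f • 𝟙 r.I) = 0 := by
    refine HomologicalComplex.hom_ext _ _ fun n => ModuleCat.hom_ext (LinearMap.ext fun g => ?_)
    exact (evOne_mem φ (r.I.X n) f ((hker f).2 dvd_rfl) g :)
  let S := ShortComplex.mk (coEv φ r.I) (f • 𝟙 r.I) hz
  have hS : S.ShortExact := by
    refine HomologicalComplex.shortExact_of_degreewise_shortExact S fun n => ?_
    haveI := r.inj n
    have hm : Mono (S.map (HomologicalComplex.eval _ _ n)).f :=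
      (ModuleCat.mono_iff_injective _).2 (evOne_injective φ hs (r.I.X n) :)
    have he : Epi (S.map (HomologicalComplex.eval _ _ n)).g :=
      (ModuleCat.epi_iff_surjective _).2 fun x => (smul_surjective_of_injective (M := r.I.X n) hf x :)
    refine { exact := ?_, mono_f := hm, epi_g := he }
    rw [ShortComplex.moduleCat_exact_iff]
    intro (x : r.I.X n) hx
    replace hx : f • x = 0 := hx
    refine (exists_evOne_eq φ hs (r.I.X n) x fun a ha => ?_ :)
    obtain ⟨c, rfl⟩ := (hker a).1 ha
    rw [mul_comm, ← smul_smul, hx, smul_zero]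
  obtain ⟨c⟩ := nonempty_coI_iso φ r.I R adj
  let e₁ : DRing.toD S.X₁ ≅ (DRing.restrictD φ).obj (R.obj ω) :=
    ((ModuleCat.restrictScalars.{u} φ).mapDerivedCategoryFactors.app (coI φ r.I)).symm ≪≫
      (DRing.restrictD φ).mapIso (c ≪≫ R.mapIso r.iso)
  refine ⟨e₁.inv ≫ DerivedCategory.Q.map (coEv φ r.I) ≫ r.iso.hom,
    r.iso.inv ≫ DerivedCategory.triangleOfSESδ hS ≫ e₁.hom⟦(1 : ℤ)⟧', ?_⟩
  refine Pretriangulated.isomorphic_distinguished _ (DerivedCategory.triangleOfSES_distinguished hS) _
    (Triangle.isoMk _ _ e₁.symm r.iso.symm r.iso.symm ?_ ?_ ?_)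
  · change (e₁.inv ≫ DerivedCategory.Q.map (coEv φ r.I) ≫ r.iso.hom) ≫ r.iso.inv =
      e₁.inv ≫ DerivedCategory.Q.map (coEv φ r.I)
    rw [Category.assoc, Category.assoc, r.iso.hom_inv_id]
    exact congrArg (e₁.inv ≫ ·) (Category.comp_id _)
  · change (f • 𝟙 ω) ≫ r.iso.inv = r.iso.inv ≫ DerivedCategory.Q.map (f • 𝟙 r.I)
    rw [Functor.map_smul, CategoryTheory.Functor.map_id, Linear.smul_comp, Linear.comp_smul, Category.id_comp]
    exact congrArg (f • ·) (Category.comp_id r.iso.inv).symm
  · change (r.iso.inv ≫ DerivedCategory.triangleOfSESδ hS ≫ e₁.hom⟦(1 : ℤ)⟧') ≫ e₁.inv⟦(1 : ℤ)⟧' =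
      r.iso.inv ≫ DerivedCategory.triangleOfSESδ hS
    rw [Category.assoc, Category.assoc, ← Functor.map_comp, e₁.hom_inv_id, CategoryTheory.Functor.map_id]
    exact congrArg (r.iso.inv ≫ ·) (Category.comp_id _)

end GrothLib.DualCx22
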