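import Groth.Agent.Lib.DualCx22.Transfer
import Mathlib.RingTheory.Localization.BaseChange
import Mathlib.LinearAlgebra.TensorProduct.Finiteness

/-!
# Being dualizing is local for a covering family of flat algebras
-/

set_option autoImplicit false
set_option linter.style.haveILetI false
universe u v w w'

open CategoryTheory CategoryTheory.Limits CategoryTheory.Pretriangulated DerivedCategory TensorProduct

attribute [local instance] HasDerivedCategory.standard

namespace GrothLib.DualCx22

variable {A : Type u} [CommRing A]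

/-- A family of algebras detecting vanishing of modules. -/
def DetectsZero {ι : Type v} (B : ι → Type u) [∀ i, CommRing (B i)] [∀ i, Algebra A (B i)] : Prop :=
  ∀ (M : Type w) [AddCommGroup M] [Module A M], (∀ i, Subsingleton (B i ⊗[A] M)) → Subsingleton M

/-- Localizations detect vanishing if the only ideal meeting all the submonoids is the unit ideal. -/
theorem detectsZero_localization {ι : Type v} (S : ι → Submonoid A)
    (hS : ∀ I : Ideal A, (∀ i, ∃ s ∈ S i, s ∈ I) → I = ⊤) (B : ι → Type u) [∀ i, CommRing (B i)]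
    [∀ i, Algebra A (B i)] [∀ i, IsLocalization (S i) (B i)] : DetectsZero.{u, v, w} (A := A) B := by
  intro M _ _ h
  refine subsingleton_of_forall_eq 0 fun x => ?_
  have hI : (LinearMap.toSpanSingleton A M x).ker = ⊤ := hS _ fun i => by
    obtain ⟨c, hc⟩ := (IsLocalizedModule.eq_zero_iff (S i) (TensorProduct.mk A (B i) M 1) (m := x)).1
      ((h i).elim _ _)
    exact ⟨c, c.2, hc⟩
  have h1 : (1 : A) ∈ (LinearMap.toSpanSingleton A M x).ker := hI ▸ Submodule.mem_top
  simpa using h1

variable {ι : Type v} (B : ι → Type u) [∀ i, CommRing (B i)] [∀ i, Algebra A (B i)]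

/-- Finiteness descends along a finite detecting family. -/
theorem finite_of_family [Finite ι] (hB : DetectsZero.{u, v, u} (A := A) B) (M : Type u) [AddCommGroup M] [Module A M]
    (h : ∀ i, Module.Finite (B i) (B i ⊗[A] M)) : Module.Finite A M := by
  classical
  have hF : ∀ i, ∃ F : Set M, F.Finite ∧
      ⊤ ≤ Submodule.span (B i) ((fun x => (1 : B i) ⊗ₜ[A] x) '' F) := by
    intro i
    obtain ⟨G, hG⟩ := (h i).fg_top
    choose S hS using fun z : B i ⊗[A] M => TensorProduct.exists_finset z
    refine ⟨⋃ z ∈ G, Prod.snd '' (S z : Set (B i × M)),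
      G.finite_toSet.biUnion fun z _ => (S z).finite_toSet.image _, ?_⟩
    rw [← hG, Submodule.span_le]
    intro z hz
    rw [hS z]
    refine Submodule.sum_mem _ fun p hp => ?_
    have : p.1 ⊗ₜ[A] p.2 = p.1 • ((1 : B i) ⊗ₜ[A] p.2) := by
      rw [TensorProduct.smul_tmul', smul_eq_mul, mul_one]
    rw [this]
    exact Submodule.smul_mem _ _ (Submodule.subset_span ⟨p.2, Set.mem_biUnion hz ⟨p, hp, rfl⟩, rfl⟩)
  choose F hFf hFs using hF
  let N : Submodule A M := Submodule.span A (⋃ i, F i)
  suffices hN : N = ⊤ from ⟨Submodule.fg_def.2 ⟨_, Set.finite_iUnion hFf, hN⟩⟩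
  rw [← Submodule.Quotient.subsingleton_iff]
  refine hB (M ⧸ N) fun i => ?_
  let q : B i ⊗[A] M →ₗ[B i] B i ⊗[A] (M ⧸ N) := N.mkQ.baseChange (B i)
  have hq : Function.Surjective q := LinearMap.lTensor_surjective (B i) N.mkQ_surjective
  have h0 : q = 0 := by
    rw [← LinearMap.ker_eq_top, eq_top_iff]
    refine (hFs i).trans (Submodule.span_le.2 ?_)
    rintro _ ⟨x, hx, rfl⟩
    change q ((1 : B i) ⊗ₜ[A] x) = 0
    have : N.mkQ x = 0 := (Submodule.Quotient.mk_eq_zero N).2 (Submodule.subset_span (Set.mem_iUnion.2 ⟨i, hx⟩))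
    simp [q, this]
  refine subsingleton_of_forall_eq 0 fun z => ?_
  obtain ⟨w, rfl⟩ := hq z
  rw [h0, LinearMap.zero_apply]

variable [∀ i, Module.Flat A (B i)]

/-- Bijectivity is detected by a detecting flat family. -/
theorem bijective_of_family (hB : DetectsZero.{u, v, u} (A := A) B) (hB' : DetectsZero.{u, v, w} (A := A) B)
    {M : Type u} {N : Type w} [AddCommGroup M] [Module A M]
    [AddCommGroup N] [Module A N] (l : M →ₗ[A] N) (h : ∀ i, Function.Bijective (l.lTensor (B i))) :
    Function.Bijective l := by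
  constructor
  · rw [← LinearMap.ker_eq_bot, ← Submodule.subsingleton_iff_eq_bot]
    refine hB l.ker fun i => subsingleton_of_forall_eq 0 fun z => ?_
    apply Module.Flat.lTensor_preserves_injective_linearMap l.ker.subtype (Submodule.subtype_injective _)
    apply (h i).1
    rw [← LinearMap.comp_apply, ← LinearMap.lTensor_comp, LinearMap.comp_ker_subtype, LinearMap.lTensor_zero]
    simp
  · rw [← LinearMap.range_eq_top, ← Submodule.Quotient.subsingleton_iff]
    refine hB' (N ⧸ l.range) fun i => subsingleton_of_forall_eq 0 fun z => ?_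
    obtain ⟨w, rfl⟩ := LinearMap.lTensor_surjective (B i) l.range.mkQ_surjective z
    obtain ⟨w, rfl⟩ := (h i).2 w
    rw [← LinearMap.comp_apply, ← LinearMap.lTensor_comp, LinearMap.range_mkQ_comp, LinearMap.lTensor_zero]
    simp

variable [IsNoetherianRing A] [∀ i, PreservesFiniteLimits (bcMod (A := A) (B i))]

/-- A vanishing is detected by a detecting flat family. -/
theorem subsingleton_hom_of_family (hB : DetectsZero.{u, v, u + 1} (A := A) B) {X L : Dual.D A} {n : ℤ}
    (h : ∀ i, IsBC (B i) X (L⟦n⟧))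
    (hs : ∀ i, Subsingleton ((bcD (B i)).obj X ⟶ ((bcD (B i)).obj L)⟦n⟧)) : Subsingleton (X ⟶ L⟦n⟧) :=
  hB _ fun i => by
    haveI := hs i
    haveI := ((shiftBc (B i) L n).homToEquiv (Z := (bcD (B i)).obj X)).subsingleton
    exact (h i).1.subsingleton

/-- **Being dualizing is detected by a detecting flat family**, given finite injective dimension and finiteness. -/
theorem isDualizing_of_family (hB : DetectsZero.{u, v, u} (A := A) B)
    (hB' : DetectsZero.{u, v, u + 1} (A := A) B) {K : Dual.D A} (a b : ℤ) [K.IsGE a] [K.IsLE b]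
    (hfin : ∀ q, Module.Finite A (Dual.HD A K q))
    (hinj : ∃ a b : ℤ, ∀ (M : Type u) [AddCommGroup M] [Module A M] (i : ℤ),
      (i < a ∨ b < i) → Subsingleton (Dual.inD A M ⟶ K⟦i⟧))
    (hK : ∀ i, Dual.IsDualizing (B i) ((bcD (B i)).obj K)) : Dual.IsDualizing A K where
  isNoetherianRing := inferInstance
  finite_injective_dimension := hinj
  finite_cohomology := hfin
  toEnd_bijective := by
    let l : A →ₗ[A] (K ⟶ K) := LinearMap.toSpanSingleton A (K ⟶ K) (𝟙 K)
    refine bijective_of_family B hB hB' l fun i => ?_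
    have h := isBC_of_finite₀ (B i) K K a b hfin
    have he : (fun c : B i => c • 𝟙 ((bcD (B i)).obj K)) =
        θ (B i) K K ∘ l.lTensor (B i) ∘ (TensorProduct.rid A (B i)).symm := by
      funext c
      simp [l, θ_tmul]
    have h' := (hK i).toEnd_bijective
    rw [he] at h'
    exact ((TensorProduct.rid A (B i)).symm.bijective.of_comp_iff _).1 ((h.of_comp_iff' _).1 h')
  ext_self_subsingleton n hn :=
    subsingleton_hom_of_family B hB' (fun i => isBC_of_finite (B i) K K a b hfin n)
      fun i => (hK i).ext_self_subsingleton n hn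

/-- For a finite family nothing need be assumed. -/
theorem isDualizing_of_finite_family [Finite ι] (hB : DetectsZero.{u, v, u} (A := A) B)
    (hB' : DetectsZero.{u, v, u + 1} (A := A) B) {K : Dual.D A}
    (hK : ∀ i, Dual.IsDualizing (B i) ((bcD (B i)).obj K)) : Dual.IsDualizing A K := by
  choose a' b' hab using fun i => (hK i).finite_injective_dimension
  obtain ⟨a, ha⟩ := (Set.finite_range a').bddBelow
  obtain ⟨b, hb⟩ := (Set.finite_range b').bddAbove
  have hout : ∀ i (n : ℤ), (n < a ∨ b < n) → n < a' i ∨ b' i < n := fun i n hn => by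
    rcases hn with h | h
    · exact Or.inl (lt_of_lt_of_le h (ha ⟨i, rfl⟩))
    · exact Or.inr (lt_of_le_of_lt (hb ⟨i, rfl⟩) h)
  have hH : ∀ q, (q < a ∨ b < q) → Subsingleton (Dual.HD A K q) := fun q hq => hB _ fun i => by
    have hs := DR.subsingleton_HD_of_hom_ring ((bcD (B i)).obj K) q (hab i (B i) q (hout i q hq))
    have hz : IsZero ((bcMod (A := A) (B i)).obj ((homologyFunctor (ModuleCat.{u} A) q).obj K)) :=
      ((DR.subsingleton_iff_isZero ((homologyFunctor (ModuleCat.{u} (B i)) q).obj ((bcD (B i)).obj K))).1 hs).of_iso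
        ((DerTrunc.homologyMapIso (bcMod (A := A) (B i)) q).app K).symm
    obtain ⟨e⟩ := nonempty_bcMod_iso (A := A) (B i) (Dual.HD A K q)
    exact (DR.subsingleton_iff_isZero _).2 (hz.of_iso e.symm)
  haveI : K.IsGE a := by
    rw [DerivedCategory.isGE_iff]
    exact fun q hq => (DR.subsingleton_iff_isZero _).1 (hH q (Or.inl hq))
  haveI : K.IsLE b := by
    rw [DerivedCategory.isLE_iff]
    exact fun q hq => (DR.subsingleton_iff_isZero _).1 (hH q (Or.inr hq))
  have hfin : ∀ q, Module.Finite A (Dual.HD A K q) := fun q => finite_of_family B hB _ fun i => by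
    haveI : Module.Finite (B i)
        (((bcMod (A := A) (B i)).mapDerivedCategory ⋙ homologyFunctor (ModuleCat.{u} (B i)) q).obj K) :=
      (hK i).finite_cohomology q
    obtain ⟨e⟩ := nonempty_bcMod_iso (A := A) (B i) (Dual.HD A K q)
    exact Module.Finite.equiv (((DerTrunc.homologyMapIso (bcMod (A := A) (B i)) q).app K) ≪≫ e).toLinearEquiv
  have hamp : DRing.HasInjAmplitudeIn A a b K :=
    DR.hasInjAmplitudeIn_of_cyclic K a b fun J n hn => by
      refine subsingleton_hom_of_family B hB' (fun i => isBC_inD (B i) K a (n - a + 1).toNat (A ⧸ J) n (by omega))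
        fun i => ?_
      obtain ⟨e⟩ := nonempty_bcD_inD (A := A) (B i) (A ⧸ J)
      haveI := hab i (B i ⊗[A] (A ⧸ J)) n (hout i n hn)
      exact (e.homFromEquiv (Z := ((bcD (B i)).obj K)⟦n⟧)).subsingleton
  exact isDualizing_of_family B hB hB' a b hfin ⟨a, b, fun M _ _ n hn => DR.subsingleton_ext_of_injAmp hamp M n hn⟩ hK

end GrothLib.DualCx22
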