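import Groth.Agent.Lib.DualCx22.LocalUnique
import Groth.Agent.Lib.DualCx22.HomInjective
import Groth.Agent.S12898
import Groth.Agent.S6974
import Groth.Agent.Lib.DCxRing.DComplete.TensorFree
import Groth.Agent.S6954
import Mathlib.RingTheory.SimpleModule.InjectiveProjective

/-!
# Duality exchanges perfect complexes and complexes of finite injective dimension
-/

set_option autoImplicit false
set_option linter.style.haveILetI false
universe u

open CategoryTheory CategoryTheory.Limits DerivedCategory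

attribute [local instance] HasDerivedCategory.standard

namespace GrothLib.DualCx22

variable {A : Type u} [CommRing A]

/-- Derived base change to a field detects on morphisms into the field. -/
theorem subsingleton_HD_lBase_quotient (m : Ideal A) [m.IsMaximal] [DRing.HasLBaseChange (Ideal.Quotient.mk m)]
    (X : Dual.D A) (p n : ℤ) (hpn : p + n = 0) (h : Subsingleton (X ⟶ (Dual.inD A (A ⧸ m))⟦n⟧)) :
    Subsingleton (Dual.HD (A ⧸ m) ((DRing.LBaseChange (Ideal.Quotient.mk m)).obj X) p) := by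
  letI : Field (A ⧸ m) := Ideal.Quotient.field m
  let φ := Ideal.Quotient.mk m
  let k := A ⧸ m
  obtain ⟨adj⟩ := Groth.Agent.S12898.result φ
  let Y := (DRing.LBaseChange φ).obj X
  obtain ⟨L, ⟨eL⟩⟩ : ∃ L : DRing.Cx k, Nonempty (DRing.toD L ≅ Y) := ⟨_, ⟨DerivedCategory.Q.objObjPreimageIso Y⟩⟩
  haveI : IsSemisimpleRing k := inferInstance
  obtain ⟨e⟩ := nonempty_hom_inD_injective L k (Module.injective_of_isSemisimpleRing k k) n p hpn
  let l : (ModuleCat.restrictScalars.{u} φ).obj (ModuleCat.of k k) ≅ ModuleCat.of A (A ⧸ m) :=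
    LinearEquiv.toModuleIso
      { toFun := fun x => (x : A ⧸ m)
        invFun := fun x => (x : A ⧸ m)
        left_inv := fun _ => rfl
        right_inv := fun _ => rfl
        map_add' := fun _ _ => rfl
        map_smul' := fun r x => by
          change φ r * (show A ⧸ m from x) = r • (show A ⧸ m from x)
          rw [Algebra.smul_def]
          rfl }
  let eR : (DRing.restrictD φ).obj ((Dual.inD k k)⟦n⟧) ≅ (Dual.inD A (A ⧸ m))⟦n⟧ :=
    ((DRing.restrictD φ).commShiftIso n).app _ ≪≫ (shiftFunctor (Dual.D A) n).mapIso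
      (((ModuleCat.restrictScalars.{u} φ).mapDerivedCategorySingleFunctor 0).app (ModuleCat.of k k) ≪≫
        (DerivedCategory.singleFunctor (ModuleCat.{u} A) 0).mapIso l)
  haveI := (eR.homToEquiv (Z := X)).subsingleton
  haveI : Subsingleton (Y ⟶ (Dual.inD k k)⟦n⟧) := (adj.homEquiv X _).subsingleton
  haveI : Subsingleton (DRing.toD L ⟶ (Dual.inD k k)⟦n⟧) := (eL.homFromEquiv).subsingleton
  haveI : Subsingleton (Module.Dual k (Dual.HD k (DRing.toD L) p)) := e.symm.toEquiv.subsingleton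
  have h0 : Subsingleton (Dual.HD k (DRing.toD L) p) := by
    refine subsingleton_of_forall_eq 0 fun v => ?_
    exact (Module.forall_dual_apply_eq_zero_iff k v).1 fun f => by rw [Subsingleton.elim f 0]; rfl
  exact (((homologyFunctor (ModuleCat.{u} k) p).mapIso eL).toLinearEquiv.toEquiv.symm).subsingleton

/-- Homomorphisms from a flat module into an injective module form an injective module. -/
theorem injective_linearMap (P I : Type u) [AddCommGroup P] [Module A P] [Module.Flat A P] [AddCommGroup I]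
    [Module A I] [Module.Injective A I] : Module.Injective A (P →ₗ[A] I) := by
  refine ⟨fun X Y _ _ _ _ f hf g => ?_⟩
  obtain ⟨h, hh⟩ := Module.Injective.extension_property A I (TensorProduct A X P) (TensorProduct A Y P)
    (f.rTensor P) (Module.Flat.rTensor_preserves_injective_linearMap f hf) (TensorProduct.lift g)
  exact ⟨(TensorProduct.mk A Y P).compr₂ h, fun x => LinearMap.ext fun p =>
    LinearMap.congr_fun hh (TensorProduct.tmul A x p)⟩

/-- `RHom(P, I)` for a bounded complex of finite projectives and a bounded complex of injectives. -/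
theorem hasInjAmplitude_homCx (P I : DRing.Cx A) (a b c d : ℤ) (hP : DRing.VanishesOutside P a b)
    (hPp : DRing.TermwiseFiniteProjective P) (hI : ∀ t, (t < c ∨ d < t) → IsZero (I.X t))
    (hIinj : ∀ t, Injective (I.X t)) :
    DRing.HasFiniteInjDim A (DRing.toD (DRing.homCx P I)) := by
  refine ⟨c - b, d - a, DRing.homCx P I, fun i hi => ?_, fun i => ?_, ⟨Iso.refl _⟩⟩
  · haveI : Subsingleton (CochainComplex.HomComplex.Cochain P I i) := ⟨fun z w => by
      ext p q hpq
      by_cases hp : p < a ∨ b < p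
      · rw [(hP p hp).eq_of_src (z.v p q hpq) (w.v p q hpq)]
      · rw [(hI q (by omega)).eq_of_tgt (z.v p q hpq) (w.v p q hpq)]⟩
    exact @ModuleCat.isZero_of_subsingleton _ _ ((DRing.homCx P I).X i) ‹Subsingleton (CochainComplex.HomComplex.Cochain P I i)›
  · let S := CochainComplex.HomComplex.Triplet i
    haveI : ∀ T : S, Module.Injective A ((P.X T.p) →ₗ[A] (I.X T.q)) := fun T => by
      haveI := (hPp T.p).2
      haveI : Module.Injective A (I.X T.q) := (Module.injective_iff_injective_object A _).2 (hIinj T.q)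
      exact injective_linearMap _ _
    let e : CochainComplex.HomComplex.Cochain P I i ≃ₗ[A] (∀ T : S, (P.X T.p) →ₗ[A] (I.X T.q)) :=
      { toFun := fun z T => (z.v T.p T.q T.hpq).hom
        invFun := fun f => CochainComplex.HomComplex.Cochain.mk fun p q hpq => ModuleCat.ofHom (f ⟨p, q, hpq⟩)
        map_add' := fun _ _ => rfl
        map_smul' := fun _ _ => rfl
        left_inv := fun z => by ext p q hpq; rfl
        right_inv := fun f => rfl }
    haveI : Module.Injective A (∀ T : S, (P.X T.p) →ₗ[A] (I.X T.q)) := Module.Injective.pi A _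
    exact Module.Injective.of_ringEquiv (RingEquiv.refl A) e.symm

variable [IsNoetherianRing A]

/-- The dual of a residue field. -/
theorem exists_dual_residue {ω : Dual.D A} (r : InjRep ω) (m : Ideal A) [m.IsMaximal] (F : DRing.Cx A)
    (eF : DRing.toD F ≅ Dual.inD A (A ⧸ m)) (hω : Dual.IsDualizing A ω) :
    ∃ c : ℤ, Nontrivial (Dual.inD A (A ⧸ m) ⟶ ω⟦c⟧) ∧
      Nonempty (DRing.toD (r.dual F) ≅ (Dual.inD A (A ⧸ m))⟦-c⟧) := by
  let c := DualRing.deg hω m
  have hz : ∀ i, i ≠ c → Subsingleton (Dual.inD A (A ⧸ m) ⟶ ω⟦i⟧) := fun i hi =>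
    (DualRing.len_eq_zero_iff_of_killed m (DualRing.smul_EH_quotient m i)).1 (DualRing.mu_ne_deg hω m hi)
  obtain ⟨e1⟩ := DualRing.nonempty_equiv_of_len_eq_one m (DualRing.smul_EH_quotient (ω := ω) m c)
    (DualRing.mu_deg hω m)
  haveI : Nontrivial (A ⧸ m) := Ideal.Quotient.nontrivial_iff.2 (Ideal.IsMaximal.ne_top ‹_›)
  refine ⟨c, e1.toEquiv.nontrivial, ?_⟩
  have hH : ∀ i, Nonempty (Dual.HD A (DRing.toD (r.dual F)) i ≃ₗ[A] (Dual.inD A (A ⧸ m) ⟶ ω⟦i⟧)) := fun i => by
    obtain ⟨e⟩ := r.nonempty_HD_dual F i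
    exact ⟨e.trans (Linear.homCongr A eF (Iso.refl _))⟩
  have hHz : ∀ i, i ≠ c → IsZero ((homologyFunctor (ModuleCat.{u} A) i).obj (DRing.toD (r.dual F))) := fun i hi => by
    haveI := hz i hi
    exact (DR.subsingleton_iff_isZero _).1 (hH i).some.toEquiv.subsingleton
  haveI : IsGE (DRing.toD (r.dual F)) c := (isGE_iff _ _).2 fun i hi => hHz i hi.ne
  haveI : IsLE (DRing.toD (r.dual F)) c := (isLE_iff _ _).2 fun i hi => hHz i hi.ne'
  obtain ⟨M, ⟨e⟩⟩ := exists_iso_singleFunctor_obj_of_isGE_of_isLE (DRing.toD (r.dual F)) c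
  let e' : M ≅ ModuleCat.of A (A ⧸ m) :=
    ((singleFunctorCompHomologyFunctorIso (ModuleCat.{u} A) c).app M).symm ≪≫
      (homologyFunctor (ModuleCat.{u} A) c).mapIso e.symm ≪≫
        ((hH c).some.trans e1).toModuleIso
  exact ⟨e ≪≫ (singleFunctor (ModuleCat.{u} A) c).mapIso e' ≪≫ DR.singleIsoShift c _⟩

/-- Finite injective dimension of the dual gives perfectness. -/
theorem isPerfect_of_dual {ω : Dual.D A} (hω : Dual.IsDualizing A ω) (G : DRing.Cx A) [DRing.HasRHomCx G]
    (hfin : ∀ i : ℤ, Module.Finite A (Dual.HD A (DRing.toD G) i)) (b₀ : ℤ)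
    (hbdd : ∀ i : ℤ, b₀ < i → Subsingleton (Dual.HD A (DRing.toD G) i))
    [∀ m : Ideal A, DRing.HasLBaseChange (Ideal.Quotient.mk m)]
    (h : DRing.HasFiniteInjDim A ((DRing.RHomCx G).obj ω)) : DRing.IsPerfect A (DRing.toD G) := by
  obtain ⟨r⟩ := nonempty_injRep hω
  haveI := r.kInj
  have hcoh : ∀ J : Ideal A, J.FG → Module.FinitePresentation A J := fun J _ => Module.finitePresentation_of_finite A J
  have hpcG : DRing.IsPseudoCoherent' A (DRing.toD G) :=
    (DR.isPseudoCoherent'_iff_of_coherent hcoh (DRing.toD G) ⟨b₀, hbdd⟩).2 fun i =>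
      haveI := hfin i
      Module.finitePresentation_of_finite A _
  obtain ⟨E, bE, hE, hEf, ⟨eE⟩⟩ := id hpcG
  have hproj : ∀ (E : DRing.Cx A) (b : ℤ), DRing.VanishesAbove E b → DRing.TermwiseFiniteFree E →
      GrothLib.KF.IsKFlat E := fun E b hE hEf =>
    GrothLib.KF.isKFlat_of_bounded_above E b hE fun i => by
      haveI := (hEf i).2
      exact (inferInstance : Module.Flat A (E.X i))
  haveI := GrothLib.RH.isKInjective_homCx E r.I (hproj E bE hE hEf)
  obtain ⟨eD₁⟩ := r.nonempty_rHom_iso G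
  obtain ⟨eD₂⟩ := r.nonempty_dual_congr eE
  obtain ⟨a, b, hab⟩ := h
  obtain ⟨aω, bω, hω'⟩ := hω.finite_injective_dimension
  have key : ∀ (m : Ideal A), m.IsMaximal → ∀ i : ℤ, (i < a - bω ∨ b - aω < i) →
      Subsingleton (DRing.toD G ⟶ (Dual.inD A (A ⧸ m))⟦i⟧) := by
    intro m hm i hi
    obtain ⟨F, bF, q, hF, hFf, hq⟩ := GrothLib.DCpl.exists_finiteFree_resolution (A := A) (A ⧸ m)
    haveI := hq
    haveI := GrothLib.RH.quasiIso_Q q
    let eF : DRing.toD F ≅ Dual.inD A (A ⧸ m) :=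
      asIso (DerivedCategory.Q.map q) ≪≫ (GrothLib.DCpl.eSingle (ModuleCat.of A (A ⧸ m))).symm
    obtain ⟨c, hc, ⟨eDk⟩⟩ := exists_dual_residue r m F eF hω
    have hc' : aω ≤ c ∧ c ≤ bω := by
      by_contra hne
      haveI := hc
      exact not_subsingleton (Dual.inD A (A ⧸ m) ⟶ ω⟦c⟧) (hω' (A ⧸ m) c (by omega))
    haveI := GrothLib.RH.isKInjective_homCx F r.I (hproj F bF hF hFf)
    have hfinDk : ∀ j, Module.Finite A (Dual.HD A (DRing.toD (r.dual F)) j) := fun j => by
      obtain ⟨e⟩ := r.nonempty_HD_dual F j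
      haveI := DualRing.finite_EH hω (A ⧸ m) j
      exact Module.Finite.equiv (e.trans (Linear.homCongr A eF (Iso.refl _))).symm
    haveI : ((Dual.inD A (A ⧸ m))⟦-c⟧).IsLE c := TStructure.t.isLE_shift (Dual.inD A (A ⧸ m)) 0 (-c) c (by omega)
    haveI : IsLE (DRing.toD (r.dual F)) c := TStructure.t.isLE_of_iso eDk.symm c
    obtain ⟨F', bF', hF', hF'f, ⟨eF'⟩⟩ := (DR.isPseudoCoherent'_iff_of_coherent hcoh (DRing.toD (r.dual F))
      ⟨c, fun j hj => (DR.subsingleton_iff_isZero _).2 ((DRing.toD (r.dual F)).isZero_of_isLE c j hj)⟩).2 fun j =>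
        haveI := hfinDk j
        Module.finitePresentation_of_finite A _
    haveI := GrothLib.RH.isKInjective_homCx F' r.I (hproj F' bF' hF' hF'f)
    have hFfin : ∀ j, Module.Finite A (Dual.HD A (DRing.toD F) j) := fun j => by
      refine @Module.Finite.equiv _ _ _ _ _ _ _ _ ?_ (GrothLib.RGamma.hdIso eF j).symm
      by_cases hj : j = 0
      · subst hj
        exact Module.Finite.equiv (DR.inDHomologyIso (A ⧸ m)).toLinearEquiv.symm
      · haveI := DR.subsingleton_HD_inD (A := A) (A ⧸ m) j hj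
        infer_instance
    obtain ⟨eb⟩ := r.nonempty_bidual F hFfin
    obtain ⟨eb'⟩ := r.nonempty_dual_congr eF'
    let eM : Dual.inD A (A ⧸ m) ≅ DRing.toD (DRing.homCx F' r.I) := eF.symm ≪≫ eb ≪≫ eb'
    obtain ⟨e1⟩ := GrothLib.DualRing.exists_HD_homCx_equiv E (DRing.homCx F' r.I) i
    obtain ⟨e2⟩ := GrothLib.DualRing.exists_HD_homCx_equiv F' (DRing.homCx E r.I) i
    let eS := ((homologyFunctor (ModuleCat.{u} A) i).mapIso
      (DerivedCategory.Q.mapIso (homCxSwapIso E F' r.I))).toLinearEquiv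
    let eH : (DRing.toD G ⟶ (Dual.inD A (A ⧸ m))⟦i⟧) ≃ₗ[A]
        ((Dual.inD A (A ⧸ m))⟦-c⟧ ⟶ ((DRing.RHomCx G).obj ω)⟦i⟧) :=
      (Linear.homCongr A eE.symm ((shiftFunctor (Dual.D A) i).mapIso eM)).trans
        (e1.symm.trans (eS.trans (e2.trans (Linear.homCongr A (eF' ≪≫ eDk)
          ((shiftFunctor (Dual.D A) i).mapIso (eD₂.symm ≪≫ eD₁.symm))))))
    haveI := DR.subsingleton_ext_of_injAmp hab (A ⧸ m) (i + c) (by omega)
    haveI : Subsingleton ((Dual.inD A (A ⧸ m))⟦-c⟧ ⟶ ((DRing.RHomCx G).obj ω)⟦i⟧) :=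
      (DualRing.shiftLeft ((DRing.RHomCx G).obj ω) (Dual.inD A (A ⧸ m)) (-c) i (i + c) (by omega)).toEquiv.subsingleton
    exact eH.toEquiv.subsingleton
  refine (Groth.Agent.S6974.result A (DRing.toD G) hpcG (aω - b) (bω - a) fun m hm i hi => ?_).1
  haveI := hm
  exact subsingleton_HD_lBase_quotient m _ i (-i) (add_neg_cancel i) (key m hm (-i) (by omega))

end GrothLib.DualCx22
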