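import Groth.Agent.Lib.DualCx22.HomDerived
import Groth.Agent.Lib.DualCx22.LocalDual
import Groth.Agent.Lib.DCxRHom.Completion
import Groth.Agent.Lib.RGamma.GM

/-!
# Local duality with derived completion
-/

set_option autoImplicit false
set_option linter.style.haveILetI false
universe u

open CategoryTheory CategoryTheory.Limits CategoryTheory.Pretriangulated CochainComplex CochainComplex.HomComplex

attribute [local instance] HasDerivedCategory.standard

namespace GrothLib.DualCx22

variable {A : Type u} [CommRing A]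

/-- A map into a complete object with the universal property is a derived completion. -/
theorem nonempty_completion_iso (I : Ideal A) [DRing.HasDerivedCompletion I] {X Y : Dual.D A} (ξ : X ⟶ Y)
    (hY : DRing.IsDerivedComplete I Y)
    (hU : ∀ E, DRing.IsDerivedComplete I E → Function.Bijective fun φ : Y ⟶ E => ξ ≫ φ) :
    Nonempty (((DRing.derivedCompletion I).obj X).obj ≅ Y) := by
  have hη := fun E (hE : DRing.IsDerivedComplete I E) => GrothLib.DCpl.bijective_toDerivedCompletion I X hE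
  obtain ⟨a, ha⟩ := (hη Y hY).2 ξ
  obtain ⟨b, hb⟩ := (hU _ ((DRing.derivedCompletion I).obj X).property).2 (DRing.toDerivedCompletion I X)
  replace ha : DRing.toDerivedCompletion I X ≫ a = ξ := ha
  replace hb : ξ ≫ b = DRing.toDerivedCompletion I X := hb
  refine ⟨⟨a, b, (hη _ ((DRing.derivedCompletion I).obj X).property).1 ?_, (hU Y hY).1 ?_⟩⟩
  · change DRing.toDerivedCompletion I X ≫ a ≫ b = DRing.toDerivedCompletion I X ≫ 𝟙 _
    rw [← Category.assoc, ha, hb]
    exact (Category.comp_id _).symm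
  · change ξ ≫ b ≫ a = ξ ≫ 𝟙 _
    rw [← Category.assoc, hb, ha]
    exact (Category.comp_id _).symm

variable [IsNoetherianRing A] (I : Ideal A) [DRing.HasRgammaI I]

omit [IsNoetherianRing A] [DRing.HasRgammaI I] in
theorem isPowerTorsion_shift {L : Dual.D A} (hL : ∀ i, LocCoh.IsPowerTorsion I (Dual.HD A L i)) (n i : ℤ) :
    LocCoh.IsPowerTorsion I (Dual.HD A (L⟦n⟧) i) :=
  GrothLib.RGamma.isPowerTorsion_of_linearEquiv I
    (((DerivedCategory.homologyFunctor (ModuleCat.{u} A) 0).shiftIso n i (n + i) rfl).app L).toLinearEquiv.symm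
    (hL (n + i))

/-- `RΓ_I` inverts the map to the derived completion. -/
theorem isIso_rgamma_map_toDerivedCompletion [DRing.HasDerivedCompletion I] (K : Dual.D A) :
    IsIso ((DRing.RgammaI I).map (DRing.toDerivedCompletion I K)) := by
  let η := DRing.toDerivedCompletion I K
  let φ := (DRing.RgammaI I).map η
  have hφ : GrothLib.RGamma.IsCEquiv I φ := by
    intro L hL
    have hη : Function.Bijective (fun ψ : ((DRing.derivedCompletion I).obj K).obj ⟶ L => η ≫ ψ) :=
      GrothLib.DCpl.bijective_toDerivedCompletion I K hL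
    have hε := GrothLib.RGamma.isCEquiv_ε I K L hL
    have hε' := GrothLib.RGamma.isCEquiv_ε I ((DRing.derivedCompletion I).obj K).obj L hL
    have heq : (fun ψ => φ ≫ ψ) ∘ (fun ψ => (DRing.RgammaIε I).app ((DRing.derivedCompletion I).obj K).obj ≫ ψ) =
        (fun ψ : K ⟶ L => (DRing.RgammaIε I).app K ≫ ψ) ∘ (fun ψ => η ≫ ψ) := funext fun ψ => by
      have hn := (DRing.RgammaIε I).naturality η
      simp only [Function.comp_apply, ← Category.assoc]
      exact congrArg (· ≫ ψ) hn
    refine (Function.Bijective.of_comp_iff _ hε').1 ?_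
    rw [heq]
    exact hε.comp hη
  obtain ⟨Z, p, δ, hT⟩ := distinguished_cocone_triangle φ
  obtain ⟨s, hs⟩ : I.FG := IsNoetherian.noetherian I
  have hZ : IsZero Z := GrothLib.RGamma.isZero_of_torsion_lOrth I (IsNoetherian.noetherian I) s.toList
    (fun g hg => hs ▸ Ideal.subset_span (Finset.mem_toList.1 hg)) Z
    (GrothLib.RGamma.isPowerTorsion_obj₃ I (IsNoetherian.noetherian I) (Triangle.mk φ p δ) hT
      (fun i => GrothLib.RGamma.isPowerTorsion_HD I _ i) (fun i => GrothLib.RGamma.isPowerTorsion_HD I _ i))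
    ((GrothLib.RGamma.isCEquiv_iff_lOrth I (Triangle.mk φ p δ) hT).1 hφ) fun g hg =>
      Ideal.le_radical (Ideal.mem_sup_left (by
        have : {x | x ∈ s.toList} = (s : Set A) := by ext; simp
        rw [this, show Ideal.span (s : Set A) = I from hs]
        exact hg))
  exact (Triangle.isZero₃_iff_isIso₁ _ hT).1 hZ

/-- Postcomposition on torsion objects. -/
def IsTorsEquiv {X Y : Dual.D A} (θ : X ⟶ Y) : Prop :=
  ∀ L : Dual.D A, (∀ i, LocCoh.IsPowerTorsion I (Dual.HD A L i)) → Function.Bijective fun g : L ⟶ X => g ≫ θ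

omit [IsNoetherianRing A] [DRing.HasRgammaI I] in
theorem isTorsEquiv_of_isIso {X Y : Dual.D A} (θ : X ⟶ Y) [IsIso θ] : IsTorsEquiv I θ := fun L _ =>
  ⟨fun a b h => (cancel_mono θ).1 h, fun b => ⟨b ≫ inv θ, by simp⟩⟩

omit [IsNoetherianRing A] [DRing.HasRgammaI I] in
theorem IsTorsEquiv.comp {X Y Z : Dual.D A} {θ : X ⟶ Y} {ψ : Y ⟶ Z} (h : IsTorsEquiv I θ) (h' : IsTorsEquiv I ψ) :
    IsTorsEquiv I (θ ≫ ψ) := fun L hL => by
  have : (fun g : L ⟶ X => g ≫ θ ≫ ψ) = (fun g => g ≫ ψ) ∘ (fun g => g ≫ θ) := by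
    funext g
    exact (Category.assoc _ _ _).symm
  rw [this]
  exact (h' L hL).comp (h L hL)

theorem isTorsEquiv_toDerivedCompletion [DRing.HasDerivedCompletion I] (K : Dual.D A) :
    IsTorsEquiv I (DRing.toDerivedCompletion I K) := fun L hL => by
  haveI := isIso_rgamma_map_toDerivedCompletion I K
  have h1 := GrothLib.RGamma.hom_bijective I L K hL
  have h2 := GrothLib.RGamma.hom_bijective I L ((DRing.derivedCompletion I).obj K).obj hL
  refine (Function.Bijective.of_comp_iff _ h1).1 ?_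
  have : (fun g : L ⟶ K => g ≫ DRing.toDerivedCompletion I K) ∘ (fun g => g ≫ (DRing.RgammaIε I).app K) =
      (fun g => g ≫ (DRing.RgammaIε I).app ((DRing.derivedCompletion I).obj K).obj) ∘
        fun g => g ≫ (DRing.RgammaI I).map (DRing.toDerivedCompletion I K) := funext fun g => by
    simp only [Function.comp_apply, Category.assoc]
    exact congrArg (g ≫ ·) ((DRing.RgammaIε I).naturality (DRing.toDerivedCompletion I K)).symm
  rw [this]
  exact h2.comp ((isTorsEquiv_of_isIso I _) L hL)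

omit [IsNoetherianRing A] [DRing.HasRgammaI I] in
theorem IsTorsEquiv.shift {X Y : Dual.D A} {θ : X ⟶ Y} (h : IsTorsEquiv I θ) (n : ℤ) :
    IsTorsEquiv I (θ⟦n⟧') := fun L hL => by
  let i : L ≅ (L⟦-n⟧)⟦n⟧ := ((shiftEquiv' (Dual.D A) (-n) n (neg_add_cancel n)).unitIso.app L)
  let c : ∀ Z : Dual.D A, (L⟦-n⟧ ⟶ Z) → (L ⟶ Z⟦n⟧) := fun Z g => i.hom ≫ g⟦n⟧'
  have hc : ∀ Z, Function.Bijective (c Z) := fun Z =>
    i.symm.homFromEquiv.bijective.comp ⟨(CategoryTheory.shiftFunctor (Dual.D A) n).map_injective, (CategoryTheory.shiftFunctor (Dual.D A) n).map_surjective⟩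
  refine (Function.Bijective.of_comp_iff _ (hc X)).1 ?_
  have : (fun g : L ⟶ X⟦n⟧ => g ≫ θ⟦n⟧') ∘ c X = c Y ∘ fun g => g ≫ θ := funext fun g => by
    simp only [Function.comp_apply, c, Category.assoc, Functor.map_comp]
  rw [this]
  exact (hc Y).comp (h _ (isPowerTorsion_shift I hL (-n)))

variable [IsLocalRing A]

/-- **Local duality with derived completion.** -/
theorem nonempty_completion_rHom_iso {ω : Dual.D A} (hω : Dual.IsDualizing A ω) (hn : Dual.IsNormalized A ω)
    {E : Type u} [AddCommGroup E] [Module A E] {f : IsLocalRing.ResidueField A →ₗ[A] E}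
    (hf : InjHull.IsInjectiveHull f) [DRing.HasRgammaI (IsLocalRing.maximalIdeal A)]
    [DRing.HasDerivedCompletion (IsLocalRing.maximalIdeal A)] (K : DRing.Cx A) [DRing.HasRHomCx K]
    (G : DRing.Cx A) [DRing.HasRHomCx G]
    (hG : Nonempty (DRing.toD G ≅ (DRing.RgammaI (IsLocalRing.maximalIdeal A)).obj (DRing.toD K))) :
    Nonempty (((DRing.derivedCompletion (IsLocalRing.maximalIdeal A)).obj ((DRing.RHomCx K).obj ω)).obj ≅
      (DRing.RHomCx G).obj (Dual.inD A E)) := by
  let m := IsLocalRing.maximalIdeal A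
  obtain ⟨eG⟩ := hG
  obtain ⟨r⟩ := nonempty_injRep hω
  haveI := r.kInj
  haveI := r.gammaI_kInj
  let ω' := ((DRing.derivedCompletion m).obj ω).obj
  have hc : DRing.IsDerivedComplete m ω' := ((DRing.derivedCompletion m).obj ω).property
  obtain ⟨J, hJ, ⟨eJ⟩⟩ := GrothLib.RH.exists_kInjective_rep ω'
  haveI := hJ
  have hcJ : DRing.IsDerivedComplete m (DRing.toD J) := by
    rw [GrothLib.DCpl.isDerivedComplete_iff] at hc ⊢
    exact fun g hg => GrothLib.DCpl.dcObj_of_iso eJ (hc g hg)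
  obtain ⟨ec⟩ := nonempty_completion_iso m ((DRing.RHomCx K).map (DRing.toDerivedCompletion m ω))
    (GrothLib.RH.isDerivedComplete_rHom K m hc)
    (fun T hT => GrothLib.RH.rHom_completion K m (IsNoetherian.noetherian m) ω T hT)
  obtain ⟨vK⟩ := GrothLib.RH.rHom_value K J
  -- the source
  obtain ⟨K'', s, hs, g, hg⟩ := DerivedCategory.right_fac (eG.hom ≫ (DRing.RgammaIε m).app (DRing.toD K))
  haveI := hs
  haveI : QuasiIso s := (DerivedCategory.isIso_Q_map_iff_quasiIso (C := ModuleCat.{u} A) s).1 inferInstance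
  have hgC : GrothLib.RGamma.IsCEquiv m (DerivedCategory.Q.map g) := by
    have : DerivedCategory.Q.map g = DerivedCategory.Q.map s ≫ eG.hom ≫ (DRing.RgammaIε m).app (DRing.toD K) := by
      rw [hg, IsIso.hom_inv_id_assoc]
    rw [this]
    exact (GrothLib.RGamma.isCEquiv_of_isIso m _).comp m
      ((GrothLib.RGamma.isCEquiv_of_isIso m _).comp m (GrothLib.RGamma.isCEquiv_ε m (DRing.toD K)))
  haveI := quasiIso_homCxPre_of_D g J fun n => hgC _ (GrothLib.RGamma.isDerivedComplete_shift m hcJ n)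
  haveI := GrothLib.RH.quasiIso_Q (GrothLib.RH.homCxPre g J)
  haveI := GrothLib.RH.quasiIso_homCxPre s J
  haveI := GrothLib.RH.quasiIso_Q (GrothLib.RH.homCxPre s J)
  -- the target
  obtain ⟨eI, heI⟩ := GrothLib.RGamma.exists_iso m r.I
  have hincl : IsTorsEquiv m (DerivedCategory.Q.map (GrothLib.RGamma.incl m r.I)) := by
    have : DerivedCategory.Q.map (GrothLib.RGamma.incl m r.I) =
        eI.inv ≫ (DRing.RgammaIε m).app (DRing.toD r.I) := by
      rw [← heI, Iso.inv_hom_id_assoc]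
    rw [this]
    exact (isTorsEquiv_of_isIso m _).comp m fun L hL => GrothLib.RGamma.hom_bijective m L _ hL
  let θ : DRing.toD r.gammaI ⟶ DRing.toD J :=
    DerivedCategory.Q.map (GrothLib.RGamma.incl m r.I) ≫ r.iso.hom ≫ DRing.toDerivedCompletion m ω ≫ eJ.hom
  have hθ : IsTorsEquiv m θ := hincl.comp m ((isTorsEquiv_of_isIso m _).comp m
    ((isTorsEquiv_toDerivedCompletion m ω).comp m (isTorsEquiv_of_isIso m _)))
  obtain ⟨φ, hφ⟩ := GrothLib.DR.exists_lift_inj (L := J) θ
  have hGt : ∀ i, LocCoh.IsPowerTorsion m (Dual.HD A (DRing.toD G) i) := fun i =>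
    GrothLib.RGamma.isPowerTorsion_of_linearEquiv m (GrothLib.RGamma.hdIso eG i).symm
      (GrothLib.RGamma.isPowerTorsion_HD m _ i)
  haveI := quasiIso_homCxMap_of_D G φ fun n => (show IsTorsEquiv m (DerivedCategory.Q.map φ) from hφ ▸ hθ).shift m n _ hGt
  haveI := GrothLib.RH.quasiIso_Q (DRing.homCxMap G φ)
  obtain ⟨eE⟩ := r.nonempty_gammaI_iso hω hn hf
  obtain ⟨vG⟩ := GrothLib.RH.rHom_value G r.gammaI
  exact ⟨ec ≪≫ (DRing.RHomCx K).mapIso eJ ≪≫ vK ≪≫
    asIso (DerivedCategory.Q.map (GrothLib.RH.homCxPre g J)) ≪≫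
    (asIso (DerivedCategory.Q.map (GrothLib.RH.homCxPre s J))).symm ≪≫
    (asIso (DerivedCategory.Q.map (DRing.homCxMap G φ))).symm ≪≫ vG.symm ≪≫ (DRing.RHomCx G).mapIso eE⟩

end GrothLib.DualCx22
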