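import Groth.Agent.Lib.DCxRHom.Rep
import Groth.Agent.Lib.Horseshoe
import Mathlib.Algebra.Homology.HomologySequenceLemmas

/-!
# Evaluation into the double `Hom` complex

`evI P I : P ⟶ Hom(Hom(P, I), I)`, its naturality, and the behaviour of the double dual under quasi-isomorphisms,
short exact sequences and degree bounds.
-/

set_option autoImplicit false
set_option linter.style.haveILetI false
universe u

open CategoryTheory CategoryTheory.Limits CochainComplex CochainComplex.HomComplex HomologicalComplex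

attribute [local instance] HasDerivedCategory.standard

namespace GrothLib.DualCx22

variable {A : Type u} [CommRing A] (I : DRing.Cx A)

/-- `Hom(Hom(P, I), I)`. -/
noncomputable abbrev dd (P : DRing.Cx A) : DRing.Cx A := DRing.homCx (DRing.homCx P I) I

/-- Functoriality of the double dual. -/
noncomputable abbrev ddMap {P Q : DRing.Cx A} (f : P ⟶ Q) : dd I P ⟶ dd I Q :=
  GrothLib.RH.homCxPre (GrothLib.RH.homCxPre f I) I

/-- The evaluation in one degree. -/
noncomputable def evIFun (P : DRing.Cx A) (n : ℤ) : P.X n →ₗ[A] Cochain (DRing.homCx P I) I n where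
  toFun x := Cochain.mk fun m t h => ModuleCat.ofHom
    { toFun := fun φ : Cochain P I m => ((m * n).negOnePow : ℤ) • φ.v n t (by omega) x
      map_add' := fun φ φ' => smul_add ((m * n).negOnePow : ℤ) (φ.v n t (by omega) x) (φ'.v n t (by omega) x)
      map_smul' := fun a φ => (smul_comm ((m * n).negOnePow : ℤ) a (φ.v n t (by omega) x)) }
  map_add' x x' := Cochain.ext _ _ fun m t h => ModuleCat.hom_ext (LinearMap.ext fun (φ : Cochain P I m) => by
    change ((m * n).negOnePow : ℤ) • φ.v n t _ (x + x') =
      ((m * n).negOnePow : ℤ) • φ.v n t _ x + ((m * n).negOnePow : ℤ) • φ.v n t _ x'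
    rw [map_add, smul_add])
  map_smul' a x := Cochain.ext _ _ fun m t h => ModuleCat.hom_ext (LinearMap.ext fun (φ : Cochain P I m) => by
    change ((m * n).negOnePow : ℤ) • φ.v n t _ (a • x) = a • (((m * n).negOnePow : ℤ) • φ.v n t _ x)
    rw [map_smul, smul_comm])

lemma evIFun_v (P : DRing.Cx A) (n m t : ℤ) (h : m + n = t) (x : P.X n) (φ : Cochain P I m) :
    (evIFun I P n x).v m t h φ = ((m * n).negOnePow : ℤ) • φ.v n t (by omega) x := rfl

/-- The evaluation. -/
noncomputable def evI (P : DRing.Cx A) : P ⟶ dd I P where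
  f n := ModuleCat.ofHom (evIFun I P n)
  comm' n k hk := by
    obtain rfl : n + 1 = k := hk
    refine ModuleCat.hom_ext (LinearMap.ext fun x => ?_)
    change δ n (n + 1) (evIFun I P n x) = evIFun I P (n + 1) (P.d n (n + 1) x)
    refine Cochain.ext _ _ fun m t h => ModuleCat.hom_ext (LinearMap.ext fun (φ : Cochain P I m) => ?_)
    have hd : (δ m (m + 1) φ).v n t (by omega) x = I.d (t - 1) t (φ.v n (t - 1) (by omega) x) +
        ((m + 1).negOnePow : ℤ) • φ.v (n + 1) t (by omega) (P.d n (n + 1) x) := by
      rw [δ_v m (m + 1) rfl φ n t (by omega) (t - 1) (n + 1) (by omega) rfl]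
      rfl
    rw [δ_v n (n + 1) rfl _ m t h (t - 1) (m + 1) (by omega) rfl, evIFun_v]
    change I.d (t - 1) t (((m * n).negOnePow : ℤ) • φ.v n (t - 1) (by omega) x) +
      ((n + 1).negOnePow : ℤ) • (((m + 1) * n).negOnePow : ℤ) • (δ m (m + 1) φ).v n t (by omega) x =
        ((m * (n + 1)).negOnePow : ℤ) • φ.v (n + 1) t (by omega) (P.d n (n + 1) x)
    rw [hd, map_zsmul, smul_add, smul_add, smul_smul, smul_smul, smul_smul, ← add_assoc, ← add_smul,
      ← Units.val_mul, ← Int.negOnePow_add, ← Units.val_mul, ← Int.negOnePow_add]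
    have hc : (m * n).negOnePow.val + (n + 1 + (m + 1) * n).negOnePow.val = 0 := by
      rw [show n + 1 + (m + 1) * n = m * n + (1 + (n + n)) by ring, Int.negOnePow_add (m * n),
        Int.negOnePow_add 1, Int.negOnePow_one, Int.negOnePow_even (n + n) ⟨n, rfl⟩]
      simp
    rw [hc, zero_smul, zero_add]
    congr 2
    rw [show n + 1 + (m + 1) * n + (m + 1) = m * (n + 1) + (n + 1 + (n + 1)) by ring,
      Int.negOnePow_add (m * (n + 1)), Int.negOnePow_even (n + 1 + (n + 1)) ⟨n + 1, rfl⟩, mul_one]

/-- Naturality. -/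
theorem evI_naturality {P Q : DRing.Cx A} (f : P ⟶ Q) : f ≫ evI I Q = evI I P ≫ ddMap I f := by
  refine HomologicalComplex.hom_ext _ _ fun n => ModuleCat.hom_ext (LinearMap.ext fun x => ?_)
  refine Cochain.ext _ _ fun m t h => ModuleCat.hom_ext (LinearMap.ext fun (φ : Cochain Q I m) => ?_)
  change ((m * n).negOnePow : ℤ) • φ.v n t _ (f.f n x) =
    ((Cochain.ofHom (GrothLib.RH.homCxPre f I)).comp (evIFun I P n x) (zero_add n)).v m t h φ
  rw [Cochain.zero_cochain_comp_v, Cochain.ofHom_v]
  change _ = ((m * n).negOnePow : ℤ) • ((Cochain.ofHom f).comp φ (zero_add m)).v n t _ x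
  rw [Cochain.zero_cochain_comp_v, Cochain.ofHom_v]
  rfl

/-- The double dual preserves quasi-isomorphisms. -/
theorem quasiIso_ddMap [I.IsKInjective] {P Q : DRing.Cx A} (f : P ⟶ Q) [QuasiIso f] : QuasiIso (ddMap I f) := by
  haveI := GrothLib.RH.quasiIso_homCxPre f I
  exact GrothLib.RH.quasiIso_homCxPre _ I

/-- Being biduality-isomorphic in degree `n` is invariant under quasi-isomorphisms. -/
theorem isIso_evI_iff [I.IsKInjective] {P Q : DRing.Cx A} (f : P ⟶ Q) [QuasiIso f] (n : ℤ) :
    IsIso (homologyMap (evI I P) n) ↔ IsIso (homologyMap (evI I Q) n) := by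
  haveI := quasiIso_ddMap I f
  haveI h1 : IsIso (homologyMap f n) := by rw [← quasiIsoAt_iff_isIso_homologyMap]; infer_instance
  haveI h2 : IsIso (homologyMap (ddMap I f) n) := by rw [← quasiIsoAt_iff_isIso_homologyMap]; infer_instance
  have e := congrArg (fun k => homologyMap k n) (evI_naturality I f)
  simp only [homologyMap_comp] at e
  constructor
  · intro h
    haveI : IsIso (homologyMap f n ≫ homologyMap (evI I Q) n) := by rw [e]; infer_instance
    exact IsIso.of_isIso_comp_left (homologyMap f n) _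
  · intro h
    haveI : IsIso (homologyMap (evI I P) n ≫ homologyMap (ddMap I f) n) := by rw [← e]; infer_instance
    exact IsIso.of_isIso_comp_right _ (homologyMap (ddMap I f) n)

/-- The short complex of duals. -/
noncomputable def dualSC (S : ShortComplex (DRing.Cx A)) : ShortComplex (DRing.Cx A) :=
  ShortComplex.mk (GrothLib.RH.homCxPre S.g I) (GrothLib.RH.homCxPre S.f I) (by
    refine HomologicalComplex.hom_ext _ _ fun i => ModuleCat.hom_ext (LinearMap.ext fun (z : Cochain S.X₃ I i) => ?_)
    change (Cochain.ofHom S.f).comp ((Cochain.ofHom S.g).comp z (zero_add i)) (zero_add i) = 0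
    rw [← Cochain.comp_assoc_of_first_is_zero_cochain, ← Cochain.ofHom_comp, S.zero, Cochain.ofHom_zero,
      Cochain.zero_comp])

/-- `Hom(-, I)` is exact when the terms of `I` are injective. -/
theorem dualSC_shortExact (hI : ∀ t, Injective (I.X t)) {S : ShortComplex (DRing.Cx A)} (hS : S.ShortExact) :
    (dualSC I S).ShortExact := by
  refine HomologicalComplex.shortExact_of_degreewise_shortExact _ fun i => ?_
  let T := (dualSC I S).map (HomologicalComplex.eval (ModuleCat.{u} A) (ComplexShape.up ℤ) i)
  have hSp : ∀ p, (S.map (HomologicalComplex.eval (ModuleCat.{u} A) (ComplexShape.up ℤ) p)).ShortExact := fun p =>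
    hS.map_of_exact _
  haveI : ∀ p, Mono (S.f.f p) := fun p => (hSp p).mono_f
  haveI : ∀ p, Epi (S.g.f p) := fun p => (hSp p).epi_g
  have hmono : Mono T.f := by
    refine (ModuleCat.mono_iff_injective _).2 ((injective_iff_map_eq_zero _).2 fun (z : Cochain S.X₃ I i) hz => ?_)
    refine Cochain.ext _ _ fun p q hpq => ?_
    have h := Cochain.congr_v (show (Cochain.ofHom S.g).comp z (zero_add i) = 0 from hz) p q hpq
    rw [Cochain.zero_cochain_comp_v, Cochain.ofHom_v, Cochain.zero_v] at h
    exact (cancel_epi (S.g.f p)).1 (h.trans comp_zero.symm)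
  have hepi : Epi T.g := by
    refine (ModuleCat.epi_iff_surjective _).2 fun (w : Cochain S.X₁ I i) => ?_
    haveI := hI
    refine ⟨(Cochain.mk fun p q h => Injective.factorThru (w.v p q h) (S.f.f p) : Cochain S.X₂ I i), ?_⟩
    refine Cochain.ext _ _ fun p q hpq => ?_
    change ((Cochain.ofHom S.f).comp _ (zero_add i)).v p q hpq = _
    rw [Cochain.zero_cochain_comp_v, Cochain.ofHom_v, Cochain.mk_v, Injective.comp_factorThru]
  refine { exact := ?_, mono_f := hmono, epi_g := hepi }
  refine (ShortComplex.moduleCat_exact_iff _).2 fun (z : Cochain S.X₂ I i) hz => ?_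
  have h : ∀ (p q : ℤ) (hpq : p + i = q),
      (S.map (HomologicalComplex.eval (ModuleCat.{u} A) (ComplexShape.up ℤ) p)).f ≫ z.v p q hpq = 0 := by
    intro p q hpq
    have h := Cochain.congr_v (show (Cochain.ofHom S.f).comp z (zero_add i) = 0 from hz) p q hpq
    rw [Cochain.zero_cochain_comp_v, Cochain.ofHom_v, Cochain.zero_v] at h
    exact h
  haveI : ∀ p, Epi (S.map (HomologicalComplex.eval (ModuleCat.{u} A) (ComplexShape.up ℤ) p)).g := fun p =>
    (hSp p).epi_g
  refine ⟨(Cochain.mk fun p q hpq => (hSp p).exact.desc (z.v p q hpq) (h p q hpq) : Cochain S.X₃ I i), ?_⟩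
  refine Cochain.ext _ _ fun p q hpq => ?_
  change ((Cochain.ofHom S.g).comp _ (zero_add i)).v p q hpq = _
  rw [Cochain.zero_cochain_comp_v, Cochain.ofHom_v, Cochain.mk_v]
  exact (hSp p).exact.g_desc _ _

/-- The evaluation as a map of short complexes. -/
noncomputable def evSC (S : ShortComplex (DRing.Cx A)) : S ⟶ dualSC I (dualSC I S) where
  τ₁ := evI I S.X₁
  τ₂ := evI I S.X₂
  τ₃ := evI I S.X₃
  comm₁₂ := (evI_naturality I S.f).symm
  comm₂₃ := (evI_naturality I S.g).symm

/-- Above: the double dual of a complex in degrees `≤ m` lives in degrees `≤ m + (b - a)`. -/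
theorem isZero_dd_of_above {a b : ℤ} (hI : ∀ t, (t < a ∨ b < t) → IsZero (I.X t)) {P : DRing.Cx A} {m : ℤ}
    (hP : ∀ p, m < p → IsZero (P.X p)) {n : ℤ} (hn : m + (b - a) < n) : IsZero ((dd I P).X n) := by
  haveI : Subsingleton (Cochain (DRing.homCx P I) I n) := subsingleton_of_forall_eq 0 fun z => by
    refine Cochain.ext _ _ fun k t h => ?_
    by_cases ht : t < a ∨ b < t
    · exact (hI t ht).eq_of_tgt _ _
    · haveI : Subsingleton (Cochain P I k) := subsingleton_of_forall_eq 0 fun φ => by
        refine Cochain.ext _ _ fun p q hpq => ?_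
        by_cases hp : m < p
        · exact (hP p hp).eq_of_src _ _
        · exact (hI q (Or.inl (by omega))).eq_of_tgt _ _
      exact (ModuleCat.isZero_of_subsingleton (ModuleCat.of A (Cochain P I k))).eq_of_src (z.v k t h) _
  exact ModuleCat.isZero_of_subsingleton (ModuleCat.of A (Cochain (DRing.homCx P I) I n))

/-- Below: the double dual of a complex in degrees `≥ m` lives in degrees `≥ m - (b - a)`. -/
theorem isZero_dd_of_below {a b : ℤ} (hI : ∀ t, (t < a ∨ b < t) → IsZero (I.X t)) {P : DRing.Cx A} {m : ℤ}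
    (hP : ∀ p, p < m → IsZero (P.X p)) {n : ℤ} (hn : n < m - (b - a)) : IsZero ((dd I P).X n) := by
  haveI : Subsingleton (Cochain (DRing.homCx P I) I n) := subsingleton_of_forall_eq 0 fun z => by
    refine Cochain.ext _ _ fun k t h => ?_
    by_cases ht : t < a ∨ b < t
    · exact (hI t ht).eq_of_tgt _ _
    · haveI : Subsingleton (Cochain P I k) := subsingleton_of_forall_eq 0 fun φ => by
        refine Cochain.ext _ _ fun p q hpq => ?_
        by_cases hp : p < m
        · exact (hP p hp).eq_of_src _ _
        · exact (hI q (Or.inr (by omega))).eq_of_tgt _ _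
      exact (ModuleCat.isZero_of_subsingleton (ModuleCat.of A (Cochain P I k))).eq_of_src (z.v k t h) _
  exact ModuleCat.isZero_of_subsingleton (ModuleCat.of A (Cochain (DRing.homCx P I) I n))

end GrothLib.DualCx22
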