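import Mathlib.Algebra.Homology.DerivedCategory.Ext.ExactSequences
import Mathlib.Algebra.Homology.DerivedCategory.Ext.Linear
import Mathlib.Algebra.Homology.DerivedCategory.Ext.EnoughProjectives
import Mathlib.RingTheory.Regular.RegularSequence
import Mathlib.Algebra.Homology.ShortComplex.ModuleCat
import Mathlib.Algebra.Category.ModuleCat.Ext.HasExt
import Mathlib.Algebra.Category.ModuleCat.Projective

/-!
# `Ext(A/J, M)` for `J` generated by a weakly regular sequence and `M` killed by `J`

There are classes in `Ext^i(A/J, A/J)`, `(p choose i)` many, pushing forward to a basis for every such `M`.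
-/

set_option autoImplicit false
universe u

open CategoryTheory CategoryTheory.Abelian

namespace GrothLib.DualCx22

variable {A : Type u} [CommRing A]

/-- The map `A/J → M` sending `1` to `v`. -/
noncomputable def spanQuot (J : Ideal A) (M : Type u) [AddCommGroup M] [Module A M]
    (hM : J • (⊤ : Submodule A M) = ⊥) (v : M) : ModuleCat.of A (A ⧸ J) ⟶ ModuleCat.of A M :=
  ModuleCat.ofHom (Submodule.liftQ J (LinearMap.toSpanSingleton A M v) fun a ha => by
    have : a • v ∈ J • (⊤ : Submodule A M) := Submodule.smul_mem_smul ha trivial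
    rw [hM, Submodule.mem_bot] at this
    exact this)

@[simp] theorem spanQuot_mk (J : Ideal A) (M : Type u) [AddCommGroup M] [Module A M]
    (hM : J • (⊤ : Submodule A M) = ⊥) (v : M) (a : A) :
    (spanQuot J M hM v).hom (Submodule.Quotient.mk a) = a • v := rfl

/-- Push classes forward along a family of elements. -/
noncomputable def classMap (J : Ideal A) (M : Type u) [AddCommGroup M] [Module A M]
    (hM : J • (⊤ : Submodule A M) = ⊥) {X : ModuleCat.{u} A} {i : ℕ} {ι : Type} [Fintype ι]
    (η : ι → Ext X (ModuleCat.of A (A ⧸ J)) i) : (ι → M) →ₗ[A] Ext X (ModuleCat.of A M) i where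
  toFun v := ∑ k, (η k).comp (Ext.mk₀ (spanQuot J M hM (v k))) (add_zero i)
  map_add' v w := by
    rw [← Finset.sum_add_distrib]
    refine Finset.sum_congr rfl fun k _ => ?_
    rw [← Ext.comp_add, ← Ext.mk₀_add]
    congr 2
    refine ModuleCat.hom_ext (LinearMap.ext fun z => ?_)
    obtain ⟨z, rfl⟩ := Submodule.Quotient.mk_surjective _ z
    exact smul_add z (v k) (w k)
  map_smul' r v := by
    rw [RingHom.id_apply, Finset.smul_sum]
    refine Finset.sum_congr rfl fun k _ => ?_
    rw [← Ext.comp_smul, ← Ext.mk₀_smul]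
    congr 2
    refine ModuleCat.hom_ext (LinearMap.ext fun z => ?_)
    obtain ⟨z, rfl⟩ := Submodule.Quotient.mk_surjective _ z
    exact smul_comm z r (v k)

theorem classMap_apply (J : Ideal A) (M : Type u) [AddCommGroup M] [Module A M]
    (hM : J • (⊤ : Submodule A M) = ⊥) {X : ModuleCat.{u} A} {i : ℕ} {ι : Type} [Fintype ι]
    (η : ι → Ext X (ModuleCat.of A (A ⧸ J)) i) (v : ι → M) :
    classMap J M hM η v = ∑ k, (η k).comp (Ext.mk₀ (spanQuot J M hM (v k))) (add_zero i) := rfl

/-- **The basis classes.** -/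
theorem exists_classes (xs : List A) : RingTheory.Sequence.IsWeaklyRegular A xs → ∀ i : ℕ,
    ∃ (ι : Type) (_ : Fintype ι) (η : ι → Ext (ModuleCat.of A (A ⧸ Ideal.ofList xs))
        (ModuleCat.of A (A ⧸ Ideal.ofList xs)) i),
      Fintype.card ι = xs.length.choose i ∧
      ∀ (M : Type u) [AddCommGroup M] [Module A M] (hM : Ideal.ofList xs • (⊤ : Submodule A M) = ⊥),
        Function.Bijective (classMap (Ideal.ofList xs) M hM η) := by
  induction xs using List.reverseRecOn with
  | nil =>
    intro _ i
    have h0 : (Ideal.ofList ([] : List A)) = ⊥ := Ideal.ofList_nil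
    haveI : Module.Projective A (A ⧸ Ideal.ofList ([] : List A)) :=
      Module.Projective.of_equiv (Submodule.quotEquivOfEqBot _ h0).symm
    haveI : CategoryTheory.Projective (ModuleCat.of A (A ⧸ Ideal.ofList ([] : List A))) :=
      (IsProjective.iff_projective _).1 inferInstance
    rcases i with - | i
    · refine ⟨PUnit, inferInstance, fun _ => Ext.mk₀ (𝟙 _), by simp, fun M _ _ hM => ⟨fun v w h => ?_, fun e => ?_⟩⟩
      · simp only [classMap_apply, Finset.univ_unique, Finset.sum_singleton, Ext.mk₀_id_comp] at h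
        funext k
        have := congrArg (fun f : ModuleCat.of A _ ⟶ _ => f.hom (Submodule.Quotient.mk 1))
          (Ext.addEquiv₀.symm.injective h)
        simp only [spanQuot_mk] at this
        exact (one_smul A _).symm.trans (this.trans (one_smul A _))
      · obtain ⟨f, rfl⟩ := (Ext.mk₀_bijective _ _).2 e
        refine ⟨fun _ => f.hom (Submodule.Quotient.mk 1), ?_⟩
        simp only [classMap_apply, Finset.univ_unique, Finset.sum_singleton, Ext.mk₀_id_comp]
        congr 1
        refine ModuleCat.hom_ext (LinearMap.ext fun z => ?_)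
        obtain ⟨z, rfl⟩ := Submodule.Quotient.mk_surjective _ z
        rw [spanQuot_mk, ← map_smul, ← Submodule.Quotient.mk_smul, smul_eq_mul, mul_one]
    · refine ⟨PEmpty, inferInstance, fun k => k.elim, by simp, fun M _ _ hM => ⟨fun v w _ => Subsingleton.elim v w, fun e => ⟨fun k => k.elim, ?_⟩⟩⟩
      exact (Subsingleton.elim (h := Ext.subsingleton_of_projective _ _ i) _ _)
  | append_singleton xs x ih =>
    intro h i
    rw [RingTheory.Sequence.isWeaklyRegular_append_iff, RingTheory.Sequence.isWeaklyRegular_singleton_iff] at h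
    obtain ⟨hxs, hx⟩ := h
    have ih := ih hxs
    set I := Ideal.ofList xs with hI
    set J := Ideal.ofList (xs ++ [x]) with hJ
    have hJI : J = I ⊔ Ideal.span {x} := by rw [hJ, Ideal.ofList_append, Ideal.ofList_singleton]
    have hIJ : I ≤ J := by rw [hJI]; exact le_sup_left
    have hxJ : x ∈ J := by rw [hJI]; exact Ideal.mem_sup_right (Ideal.mem_span_singleton_self x)
    let f : ModuleCat.of A (A ⧸ I) ⟶ ModuleCat.of A (A ⧸ I) := x • 𝟙 _
    let g : ModuleCat.of A (A ⧸ I) ⟶ ModuleCat.of A (A ⧸ J) := ModuleCat.ofHom (Submodule.factor hIJ)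
    have hg : ∀ a : A, g (Submodule.Quotient.mk a) = Submodule.Quotient.mk a := fun a => rfl
    have hx' : IsSMulRegular (A ⧸ I) x := by
      have e : (A ⧸ (I • (⊤ : Submodule A A))) ≃ₗ[A] A ⧸ I :=
        Submodule.quotEquivOfEq _ _ (by rw [smul_eq_mul, Ideal.mul_top])
      exact (e.isSMulRegular_congr x).1 hx
    have hzero : f ≫ g = 0 := by
      refine ModuleCat.hom_ext (LinearMap.ext fun a => ?_)
      obtain ⟨a, rfl⟩ := Submodule.Quotient.mk_surjective _ a
      change g (x • Submodule.Quotient.mk a) = 0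
      rw [← Submodule.Quotient.mk_smul, hg, Submodule.Quotient.mk_eq_zero, smul_eq_mul]
      exact Ideal.mul_mem_right _ _ hxJ
    let S := ShortComplex.mk f g hzero
    have hS : S.ShortExact :=
      { exact := by
          rw [ShortComplex.moduleCat_exact_iff]
          intro a ha
          obtain ⟨a, rfl⟩ := Submodule.Quotient.mk_surjective _ a
          have ha' : a ∈ J := (Submodule.Quotient.mk_eq_zero _).1 ((hg a).symm.trans ha)
          rw [hJI, Submodule.mem_sup] at ha'
          obtain ⟨b, hb, c, hc, rfl⟩ := ha'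
          obtain ⟨d, rfl⟩ := Ideal.mem_span_singleton.1 hc
          refine ⟨Submodule.Quotient.mk (p := I) d, ?_⟩
          change x • Submodule.Quotient.mk (p := I) d = _
          rw [← Submodule.Quotient.mk_smul, Submodule.Quotient.eq, smul_eq_mul]
          simpa using I.neg_mem hb
        mono_f := (ModuleCat.mono_iff_injective _).2 hx'
        epi_g := (ModuleCat.epi_iff_surjective _).2 (Submodule.factor_surjective hIJ) }
    have hJtop : J • (⊤ : Submodule A (A ⧸ J)) = ⊥ := by
      rw [eq_bot_iff, Submodule.smul_le]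
      intro a ha z _
      obtain ⟨z, rfl⟩ := Submodule.Quotient.mk_surjective _ z
      rw [Submodule.mem_bot, ← Submodule.Quotient.mk_smul, Submodule.Quotient.mk_eq_zero, smul_eq_mul]
      exact Ideal.mul_mem_right _ _ ha
    rcases i with - | i
    · refine ⟨PUnit, inferInstance, fun _ => Ext.mk₀ (𝟙 _), by simp, fun M _ _ hM => ⟨fun v w h => ?_, fun e => ?_⟩⟩
      · simp only [classMap_apply, Finset.univ_unique, Finset.sum_singleton, Ext.mk₀_id_comp] at h
        funext k
        have := congrArg (fun f : ModuleCat.of A _ ⟶ _ => f.hom (Submodule.Quotient.mk 1))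
          (Ext.addEquiv₀.symm.injective h)
        simp only [spanQuot_mk] at this
        exact (one_smul A _).symm.trans (this.trans (one_smul A _))
      · obtain ⟨f, rfl⟩ := (Ext.mk₀_bijective _ _).2 e
        refine ⟨fun _ => f.hom (Submodule.Quotient.mk 1), ?_⟩
        simp only [classMap_apply, Finset.univ_unique, Finset.sum_singleton, Ext.mk₀_id_comp]
        congr 1
        refine ModuleCat.hom_ext (LinearMap.ext fun z => ?_)
        obtain ⟨z, rfl⟩ := Submodule.Quotient.mk_surjective _ z
        rw [spanQuot_mk, ← map_smul, ← Submodule.Quotient.mk_smul, smul_eq_mul, mul_one]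
    obtain ⟨ι₀, _, η₀, hc₀, hb₀⟩ := ih i
    obtain ⟨ι₁, _, η₁, hc₁, hb₁⟩ := ih (i + 1)
    have hsm : ∀ (M : Type u) [AddCommGroup M] [Module A M], J • (⊤ : Submodule A M) = ⊥ →
        ∀ (n : ℕ) (e : Ext S.X₂ (ModuleCat.of A M) n), (Ext.mk₀ S.f).comp e (zero_add n) = 0 := by
      intro M _ _ hM n e
      have h1 : (Ext.mk₀ S.f).comp e (zero_add n) = x • e := by
        change (Ext.mk₀ (x • 𝟙 (ModuleCat.of A (A ⧸ I)))).comp e (zero_add n) = x • e
        rw [Ext.mk₀_smul, Ext.smul_comp, Ext.mk₀_id_comp]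
      rw [h1, Ext.smul_eq_comp_mk₀,
        show x • 𝟙 (ModuleCat.of A M) = 0 from ModuleCat.hom_ext (LinearMap.ext fun m => by
          have : x • m ∈ J • (⊤ : Submodule A M) := Submodule.smul_mem_smul hxJ trivial
          rw [hM, Submodule.mem_bot] at this
          exact this), Ext.mk₀_zero, Ext.comp_zero]
    choose η₁' hη₁' using fun k => Ext.contravariant_sequence_exact₂ hS _ ((η₁ k).comp (Ext.mk₀ g) (add_zero _))
      (hsm (A ⧸ J) hJtop (i + 1) _)
    let η : ι₀ ⊕ ι₁ → Ext S.X₃ (ModuleCat.of A (A ⧸ J)) (i + 1) :=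
      Sum.elim (fun k => hS.extClass.comp ((η₀ k).comp (Ext.mk₀ g) (add_zero i)) (add_comm 1 i)) η₁'
    refine ⟨ι₀ ⊕ ι₁, inferInstance, η, ?_, fun M _ _ hM => ?_⟩
    · rw [Fintype.card_sum, hc₀, hc₁, List.length_append, List.length_singleton, Nat.choose_succ_succ]
    have hIM : I • (⊤ : Submodule A M) = ⊥ := eq_bot_iff.2 ((Submodule.smul_mono_left hIJ).trans hM.le)
    have hgs : ∀ v : M, g ≫ spanQuot J M hM v = spanQuot I M hIM v := fun v => by
      refine ModuleCat.hom_ext (LinearMap.ext fun z => ?_)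
      obtain ⟨z, rfl⟩ := Submodule.Quotient.mk_surjective _ z
      rfl
    have hsplit : ∀ v : ι₀ ⊕ ι₁ → M, classMap J M hM η v =
        hS.extClass.comp (classMap I M hIM η₀ (v ∘ Sum.inl)) (add_comm 1 i) +
          ∑ k, (η₁' k).comp (Ext.mk₀ (spanQuot J M hM (v (Sum.inr k)))) (add_zero (i + 1)) := by
      intro v
      rw [classMap_apply, Fintype.sum_sum_type, classMap_apply, Ext.comp_sum]
      refine congrArg₂ (· + ·) (Finset.sum_congr rfl fun k _ => ?_) rfl
      change (hS.extClass.comp ((η₀ k).comp (Ext.mk₀ g) (add_zero i)) (add_comm 1 i)).comp _ _ = _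
      rw [Ext.comp_assoc_of_third_deg_zero, Ext.comp_assoc_of_third_deg_zero, Ext.mk₀_comp_mk₀, hgs]
      rfl
    have hres : ∀ v : ι₀ ⊕ ι₁ → M, (Ext.mk₀ S.g).comp (classMap J M hM η v) (zero_add (i + 1)) =
        classMap I M hIM η₁ (v ∘ Sum.inr) := by
      intro v
      rw [hsplit, Ext.comp_add, ShortComplex.ShortExact.comp_extClass_assoc, zero_add, classMap_apply,
        Ext.comp_sum]
      refine Finset.sum_congr rfl fun k _ => ?_
      rw [← Ext.comp_assoc_of_third_deg_zero, hη₁', Ext.comp_assoc_of_third_deg_zero, Ext.mk₀_comp_mk₀, hgs]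
      rfl
    refine ⟨(injective_iff_map_eq_zero _).2 fun v hv => ?_, fun e => ?_⟩
    · have h1 : v ∘ Sum.inr = 0 := (hb₁ M hIM).1 (by rw [← hres, hv, Ext.comp_zero, map_zero])
      have h0 : hS.extClass.comp (classMap I M hIM η₀ (v ∘ Sum.inl)) (add_comm 1 i) = 0 := by
        have h2 := hsplit v
        rw [hv] at h2
        refine (h2.trans ?_).symm
        refine (add_eq_left.2 (Finset.sum_eq_zero fun k _ => ?_))
        rw [show v (Sum.inr k) = 0 from congrFun h1 k,
          show spanQuot J M hM 0 = 0 from ModuleCat.hom_ext (LinearMap.ext fun z => by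
            obtain ⟨z, rfl⟩ := Submodule.Quotient.mk_surjective _ z
            exact smul_zero z), Ext.mk₀_zero, Ext.comp_zero]
      obtain ⟨y, hy⟩ := Ext.contravariant_sequence_exact₁ hS _ _ (add_comm 1 i) h0
      have h3 : v ∘ Sum.inl = 0 := (hb₀ M hIM).1 (by rw [← hy, hsm M hM i y, map_zero])
      funext k
      rcases k with k | k
      · exact congrFun h3 k
      · exact congrFun h1 k
    · obtain ⟨w, hw⟩ := (hb₁ M hIM).2 ((Ext.mk₀ S.g).comp e (zero_add (i + 1)))
      have h1 : (Ext.mk₀ S.g).comp (e - classMap J M hM η (Sum.elim (0 : ι₀ → M) w)) (zero_add (i + 1)) = 0 := by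
        rw [sub_eq_add_neg, Ext.comp_add, Ext.comp_neg, ← sub_eq_add_neg, hres, ← hw]
        exact sub_self _
      obtain ⟨y, hy⟩ := Ext.contravariant_sequence_exact₃ hS _ _ h1 (add_comm 1 i)
      obtain ⟨v, hv⟩ := (hb₀ M hIM).2 y
      refine ⟨Sum.elim v w, ?_⟩
      have hvw : (Sum.elim v w : ι₀ ⊕ ι₁ → M) = Sum.elim v (0 : ι₁ → M) + Sum.elim (0 : ι₀ → M) w := by
        funext k; rcases k with k | k <;> simp
      have hv0 : classMap J M hM η (Sum.elim v (0 : ι₁ → M)) = hS.extClass.comp y (add_comm 1 i) := by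
        rw [hsplit, Sum.elim_comp_inl, hv]
        refine add_eq_left.2 (Finset.sum_eq_zero fun k _ => ?_)
        rw [Sum.elim_inr, Pi.zero_apply,
          show spanQuot J M hM 0 = 0 from ModuleCat.hom_ext (LinearMap.ext fun z => by
            obtain ⟨z, rfl⟩ := Submodule.Quotient.mk_surjective _ z
            exact smul_zero z), Ext.mk₀_zero, Ext.comp_zero]
      rw [hvw, map_add, hv0, hy, sub_add_cancel]

end GrothLib.DualCx22
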