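import Groth.Agent.S5929
import Groth.Agent.Lib.DCxRing.Devissage
import Groth.Agent.Lib.DCxRing.FibreAmp
import Groth.Agent.Lib.DCxRing.Perfect

/-!
# Modules that are finitely presented over `A` and flat over `R`
-/

set_option autoImplicit false
universe u

open CategoryTheory CategoryTheory.Limits

attribute [local instance] HasDerivedCategory.standard

namespace GrothLib.DualCx22

/-- A quotient by an image keeps its `R`-flatness on restricting scalars. -/
theorem flat_restrict_quotient {R A : Type u} [CommRing R] [CommRing A] (φ : R →+* A) {X Y : ModuleCat.{u} A}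
    (f : X ⟶ Y)
    (h : Module.Flat R (↑((ModuleCat.restrictScalars φ).obj Y) ⧸
      LinearMap.range ((ModuleCat.restrictScalars φ).map f).hom)) :
    Module.Flat R ((ModuleCat.restrictScalars φ).obj (ModuleCat.of A (Y ⧸ LinearMap.range f.hom))) := by
  let π : Y ⟶ ModuleCat.of A (Y ⧸ LinearMap.range f.hom) := ModuleCat.ofHom (LinearMap.range f.hom).mkQ
  let g := ((ModuleCat.restrictScalars φ).map π).hom
  have hg : Function.Surjective g := fun z => Submodule.mkQ_surjective (LinearMap.range f.hom) z
  have hk : LinearMap.ker g = LinearMap.range ((ModuleCat.restrictScalars φ).map f).hom :=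
    Submodule.ext fun x => Submodule.Quotient.mk_eq_zero (LinearMap.range f.hom) (x := x)
  haveI := h
  exact Module.Flat.of_linearEquiv
    ((Submodule.quotEquivOfEq _ _ hk.symm).trans (g.quotKerEquivOfSurjective hg)).symm

/-- Finitely presented `R`-flat modules over a flat finitely presented algebra are pseudo-coherent. -/
theorem isPseudoCoherentModule'_of_flat {R A : Type u} [CommRing R] [CommRing A] [Algebra R A]
    [Module.Flat R A] [Algebra.FinitePresentation R A] (X : ModuleCat.{u} A) [Module.FinitePresentation A X]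
    (hX : Module.Flat R ((ModuleCat.restrictScalars (algebraMap R A)).obj X)) :
    DRing.IsPseudoCoherentModule' A X := by
  letI : Module R X := Module.compHom _ (algebraMap R A)
  haveI : IsScalarTower R A X := IsScalarTower.of_algebraMap_smul fun _ _ => rfl
  haveI : Module.Flat R X := hX
  obtain ⟨P, hP⟩ := Groth.Agent.S5929.result R A X
  obtain ⟨e⟩ := GrothLib.KF.nonempty_resolution_iso P
  refine ⟨P.cochainComplex, 0, fun j hj => P.cochainComplex.isZero_of_isStrictlyLE 0 j hj, fun j => ?_, ⟨e⟩⟩
  by_cases hj : j ≤ 0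
  · obtain ⟨k, rfl⟩ := Int.exists_eq_neg_ofNat hj
    haveI := (hP k).1
    haveI := (hP k).2
    exact ⟨Module.Finite.equiv (P.cochainComplexXIso (-(k : ℤ)) k rfl).toLinearEquiv.symm,
      Module.Free.of_equiv (P.cochainComplexXIso (-(k : ℤ)) k rfl).toLinearEquiv.symm⟩
  · haveI := ModuleCat.subsingleton_of_isZero (P.cochainComplex.isZero_of_isStrictlyLE 0 j (by omega))
    exact ⟨inferInstance, inferInstance⟩

/-- The bottom term of the truncation. -/
noncomputable def truncGEBottomIso {A : Type u} [CommRing A] (E : DRing.Cx A) (i : ℤ) :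
    ModuleCat.of A (E.X i ⧸ LinearMap.range (E.d (i - 1) i).hom) ≅ (E.truncGE i).X i :=
  (E.truncGEXIsoOpcycles i ≪≫ ShortComplex.opcyclesMapIso (E.isoSc' (i - 1) i (i + 1) (by simp) (by simp)) ≪≫
    (E.sc' (i - 1) i (i + 1)).moduleCatOpcyclesIso).symm

theorem finitePresentation_truncGE_bottom {A : Type u} [CommRing A] (E : DRing.Cx A)
    (hEf : DRing.TermwiseFiniteFree E) (i : ℤ) : Module.FinitePresentation A ((E.truncGE i).X i) := by
  haveI := (hEf i).1
  haveI := GrothLib.DR.projective_of_finiteFree hEf i
  haveI := (hEf (i - 1)).1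
  haveI := Module.finitePresentation_of_projective A (E.X i)
  haveI : Module.FinitePresentation A (E.X i ⧸ LinearMap.range (E.d (i - 1) i).hom) :=
    Module.finitePresentation_of_surjective (LinearMap.range (E.d (i - 1) i).hom).mkQ
      (Submodule.mkQ_surjective _) ((Submodule.ker_mkQ (LinearMap.range (E.d (i - 1) i).hom)).symm ▸
        Submodule.fg_range (E.d (i - 1) i).hom)
  exact Module.FinitePresentation.of_equiv (truncGEBottomIso E i).toLinearEquiv

theorem flat_restrict_truncGE_bottom {R A : Type u} [CommRing R] [CommRing A] (φ : R →+* A) (E : DRing.Cx A)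
    {c : ℤ} (hc : DRing.VanishesAbove ((DRing.restrictCx φ).obj E) c)
    (hf : DRing.TermwiseFlat ((DRing.restrictCx φ).obj E)) (i b : ℤ)
    (hamp : DRing.HasTorAmplitudeIn R i b (DRing.toD ((DRing.restrictCx φ).obj E))) :
    Module.Flat R ((ModuleCat.restrictScalars φ).obj ((E.truncGE i).X i)) := by
  haveI := hf i
  have h : Module.Flat R (↑(((DRing.restrictCx φ).obj E).X i) ⧸
      LinearMap.range (((DRing.restrictCx φ).obj E).d (i - 1) i).hom) := by
    refine GrothLib.DR.flat_quotient_range (((DRing.restrictCx φ).obj E).d (i - 1 - 1) (i - 1)).hom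
      (((DRing.restrictCx φ).obj E).d (i - 1) i).hom fun M _ _ => ?_
    have := (GrothLib.DR.hasTorAmplitudeIn_iff hc hf i b).1 hamp M (i - 1) (Or.inl (by omega))
    unfold GrothLib.DR.TExact at this
    rwa [show i - 1 + 1 = i by omega] at this
  haveI := flat_restrict_quotient φ (E.d (i - 1) i) h
  exact Module.Flat.of_linearEquiv ((ModuleCat.restrictScalars φ).mapIso (truncGEBottomIso E i)).toLinearEquiv.symm

end GrothLib.DualCx22
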