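import Groth.Agent.Lib.DualCx22.PolyFibre
import Groth.Agent.Lib.DualCx22.RelPerfectModule
import Groth.Agent.Lib.DCxRing.LBase
import Groth.Agent.Lib.DCxRing.LBaseComp
import Groth.Agent.Lib.DCxRing.RestrictTor
import Groth.Agent.S7000
import Groth.Agent.S6977
import Mathlib.RingTheory.Localization.BaseChange
import Mathlib.Algebra.Module.LocalizedModule.IsLocalization

/-!
# Tor amplitude of localisations from the fibres
-/

set_option autoImplicit false
set_option linter.style.haveILetI false
universe u

open CategoryTheory CategoryTheory.Limits HomologicalComplex TensorProduct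

attribute [local instance] HasDerivedCategory.standard

namespace GrothLib.DualCx22

/-- The two derived fibres at the closed point vanish together. -/
theorem subsingleton_HD_residue_of_lTensor {A : Type u} [CommRing A] [IsLocalRing A]
    [DRing.HasLBaseChange (IsLocalRing.residue A)]
    [DRing.HasLTensor A (ModuleCat.of A (IsLocalRing.ResidueField A))] (M : Dual.D A) (i : ℤ)
    (h : Subsingleton (Dual.HD A ((DRing.LTensor A (ModuleCat.of A (IsLocalRing.ResidueField A))).obj M) i)) :
    Subsingleton (Dual.HD (IsLocalRing.ResidueField A) ((DRing.LBaseChange (IsLocalRing.residue A)).obj M) i) := by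
  obtain ⟨P, hP, -, ⟨e⟩⟩ := GrothLib.KF.exists_kflat_rep M
  obtain ⟨e₁⟩ := GrothLib.KF.lTensor_value (ModuleCat.of A (IsLocalRing.ResidueField A)) hP
  obtain ⟨e₂⟩ := GrothLib.KF.lBase_value (IsLocalRing.residue A) hP
  have h1 : GrothLib.DR.TExact P (IsLocalRing.ResidueField A) i :=
    (GrothLib.DR.tExact_iff P _ i).2 ((GrothLib.DR.exactAt_iff _ i).2
      (GrothLib.DR.subsingleton_HD_of_iso
        ((DRing.LTensor A _).mapIso e.symm ≪≫ e₁) i h))
  have h2 : ((GrothLib.DR.bc (IsLocalRing.residue A)).obj P).ExactAt i := by
    refine (GrothLib.DR.exactAt_bc_iff (IsLocalRing.residue A) P i).2 ?_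
    letI : Module A (IsLocalRing.ResidueField A) := (IsLocalRing.residue A).toAlgebra.toModule
    exact GrothLib.DR.tExact_of_linearEquiv
      { toFun := id, invFun := id, left_inv := fun _ => rfl, right_inv := fun _ => rfl,
        map_add' := fun _ _ => rfl, map_smul' := fun r x => by
          obtain ⟨y, rfl⟩ := IsLocalRing.residue_surjective x
          rfl } h1
  exact GrothLib.DR.subsingleton_HD_of_iso (e₂.symm ≪≫ (DRing.LBaseChange _).mapIso e) i
    ((GrothLib.DR.exactAt_iff _ i).1 h2)

variable {R A : Type u} [CommRing R] [CommRing A] [Algebra R A]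
  [Module.Flat R A] [Algebra.FinitePresentation R A] {d : ℕ} (ψ : MvPolynomial (Fin d) R →ₐ[R] A)

/-- The localised quotient of affine space is pseudo-coherent over it. -/
theorem ringPC_localRingHom (hψ : Function.Surjective ψ) (q : Ideal A) [q.IsPrime] :
    GrothLib.DR.RingPseudoCoherent (Localization.localRingHom (q.comap ψ.toRingHom) q ψ.toRingHom rfl) := by
  let Q := q.comap ψ.toRingHom
  letI : Algebra (MvPolynomial (Fin d) R) A := ψ.toRingHom.toAlgebra
  haveI : IsScalarTower R (MvPolynomial (Fin d) R) A := IsScalarTower.of_algebraMap_eq fun r => (ψ.commutes r).symm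
  haveI : Algebra.FinitePresentation R (MvPolynomial (Fin d) R) := inferInstance
  have hker : (RingHom.ker ψ.toRingHom).FG := Algebra.FinitePresentation.ker_fG_of_surjective ψ hψ
  haveI : Module.FinitePresentation (MvPolynomial (Fin d) R) A :=
    Module.finitePresentation_of_surjective (Algebra.linearMap (MvPolynomial (Fin d) R) A) hψ hker
  have hA : DRing.IsPseudoCoherentModule' (MvPolynomial (Fin d) R) A := by
    refine isPseudoCoherentModule'_of_flat (R := R) (ModuleCat.of (MvPolynomial (Fin d) R) A) ?_
    exact Module.Flat.of_linearEquiv (M := A)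
      ({ toFun := fun x => x, invFun := fun x => x, map_add' := fun _ _ => rfl,
         map_smul' := fun a x => (algebraMap_smul (MvPolynomial (Fin d) R) a x).symm, left_inv := fun _ => rfl,
         right_inv := fun _ => rfl } :
        A ≃ₗ[R] (ModuleCat.restrictScalars (algebraMap R (MvPolynomial (Fin d) R))).obj
          (ModuleCat.of (MvPolynomial (Fin d) R) A)).symm
  let B := Localization.AtPrime Q
  let ρ := Localization.localRingHom Q q ψ.toRingHom rfl
  letI : Algebra B (Localization.AtPrime q) := ρ.toAlgebra
  haveI : IsScalarTower (MvPolynomial (Fin d) R) B (Localization.AtPrime q) :=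
    IsScalarTower.of_algebraMap_eq fun x => (Localization.localRingHom_to_map Q q ψ.toRingHom rfl x).symm
  have hM : Algebra.algebraMapSubmonoid A Q.primeCompl = q.primeCompl := by
    ext a
    constructor
    · rintro ⟨x, hx, rfl⟩
      exact hx
    · intro ha
      obtain ⟨x, rfl⟩ := hψ a
      exact ⟨x, ha, rfl⟩
  haveI : IsLocalization (Algebra.algebraMapSubmonoid A Q.primeCompl) (Localization.AtPrime q) := by
    rw [hM]; infer_instance
  have hbc := (isLocalizedModule_iff_isBaseChange Q.primeCompl B
    (IsScalarTower.toAlgHom (MvPolynomial (Fin d) R) A (Localization.AtPrime q)).toLinearMap).1 inferInstance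
  haveI : Module.Flat (MvPolynomial (Fin d) R) B := IsLocalization.flat B Q.primeCompl
  have h2 := (Groth.Agent.S7000.result (A := MvPolynomial (Fin d) R) (B := B) 0 A).2 hA
  exact GrothLib.DR.isPseudoCoherentModule'_of_equiv
    (hbc.equiv.trans
      ({ toFun := fun x => x, invFun := fun x => x, map_add' := fun _ _ => rfl,
         map_smul' := fun _ _ => rfl, left_inv := fun _ => rfl, right_inv := fun _ => rfl } :
        Localization.AtPrime q ≃ₗ[B] (ModuleCat.restrictScalars ρ).obj
          (ModuleCat.of (Localization.AtPrime q) (Localization.AtPrime q)))) h2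

set_option maxHeartbeats 1000000 in
/-- **Tor amplitude over the base from the fibre of a local ring.** -/
theorem torAmplitude_of_fibre (hψ : Function.Surjective ψ)
    (q : Ideal A) [q.IsPrime] (p : Ideal R) [p.IsPrime] (hpq : p = Ideal.comap (algebraMap R A) q)
    [DRing.HasLBaseChange (algebraMap A (Localization.AtPrime q))]
    [DRing.HasLTensor (Localization.AtPrime p) (ModuleCat.of (Localization.AtPrime p) p.ResidueField)]
    (K : Dual.D A) (hK : DRing.IsPseudoCoherent' A K) (a b : ℤ)
    (hfib : ∀ i : ℤ, i < a ∨ b < i → Subsingleton (Dual.HD (Localization.AtPrime p)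
      ((DRing.LTensor (Localization.AtPrime p) (ModuleCat.of (Localization.AtPrime p) p.ResidueField)).obj
        ((DRing.restrictD (Localization.localRingHom p q (algebraMap R A) hpq)).obj
          ((DRing.LBaseChange (algebraMap A (Localization.AtPrime q))).obj K))) i)) :
    DRing.HasTorAmplitudeIn R (a - d) b
      ((DRing.restrictD (algebraMap R (Localization.AtPrime q))).obj
        ((DRing.LBaseChange (algebraMap A (Localization.AtPrime q))).obj K)) := by
  let Q := q.comap ψ.toRingHom
  have hQ : Q.comap (MvPolynomial.C (σ := Fin d)) = p := by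
    rw [hpq, Ideal.comap_comap]
    congr 1
    exact RingHom.ext fun r => ψ.commutes r
  let Rp := Localization.AtPrime p
  let B := Localization.AtPrime Q
  let Aq := Localization.AtPrime q
  let γ : Rp →+* B := Localization.localRingHom p Q MvPolynomial.C hQ.symm
  let ρ : B →+* Aq := Localization.localRingHom Q q ψ.toRingHom rfl
  let δ : Rp →+* Aq := Localization.localRingHom p q (algebraMap R A) hpq
  have hδ : δ = ρ.comp γ := by
    refine IsLocalization.ringHom_ext p.primeCompl (RingHom.ext fun r => ?_)
    show δ (algebraMap R Rp r) = ρ (γ (algebraMap R Rp r))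
    rw [Localization.localRingHom_to_map, Localization.localRingHom_to_map, Localization.localRingHom_to_map]
    exact congrArg _ (ψ.commutes r).symm
  -- pseudo-coherence over the local ring of affine space
  let Kq := (DRing.LBaseChange (algebraMap A Aq)).obj K
  have hKq : DRing.IsPseudoCoherent' Aq Kq := by
    obtain ⟨E, c, hE, hEf, ⟨e⟩⟩ := hK
    have hp : DRing.TermwiseFiniteProjective E := fun i =>
      ⟨(hEf i).1, GrothLib.DR.projective_of_finiteFree hEf i⟩
    obtain ⟨e'⟩ := GrothLib.DR.nonempty_lBase_iso (algebraMap A Aq) hE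
      (GrothLib.DR.termwiseFlat_of_projective fun i => (hp i).2)
    exact GrothLib.DR.isPseudoCoherent'_of_forall fun m =>
      GrothLib.DerBC.isPseudoCoherent_of_iso (e'.symm ≪≫ (DRing.LBaseChange (algebraMap A Aq)).mapIso e)
        (GrothLib.DR.isPseudoCoherent_of_finiteProjective (b := c)
          (fun i hi => (ModuleCat.extendScalars (algebraMap A Aq)).map_isZero (hE i hi))
          (GrothLib.DR.termwiseFiniteProjective_bc (algebraMap A Aq) hp) m)
  have hL : DRing.IsPseudoCoherent' B ((DRing.restrictD ρ).obj Kq) :=
    (GrothLib.DR.isPseudoCoherent'_restrictD_iff (ringPC_localRingHom ψ hψ q) Kq).1 hKq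
  -- the fibre
  letI : Algebra Rp B := γ.toAlgebra
  haveI : IsLocalHom (algebraMap Rp B) := Localization.isLocalHom_localRingHom p Q MvPolynomial.C hQ.symm
  haveI : IsScalarTower R Rp B := IsScalarTower.of_algebraMap_eq fun r =>
    (IsScalarTower.algebraMap_apply R (MvPolynomial (Fin d) R) B r).trans
      (Localization.localRingHom_to_map p Q MvPolynomial.C hQ.symm r).symm
  haveI : Module.Flat (MvPolynomial (Fin d) R) B := IsLocalization.flat B Q.primeCompl
  haveI : Module.Flat R B := Module.Flat.trans R (MvPolynomial (Fin d) R) B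
  haveI : Module.Flat Rp B := (Module.flat_iff_of_isLocalization Rp p.primeCompl _).2 inferInstance
  have hI : (IsLocalRing.maximalIdeal Rp).map (algebraMap Rp B) =
      p.map ((algebraMap _ B).comp (MvPolynomial.C (σ := Fin d))) := by
    rw [← Localization.AtPrime.map_eq_maximalIdeal, Ideal.map_map]
    congr 1
    exact (IsScalarTower.algebraMap_eq R Rp B).symm.trans (IsScalarTower.algebraMap_eq R (MvPolynomial (Fin d) R) B)
  obtain ⟨hreg, d', hd', hdim⟩ := polyFibre p d Q hQ
  rw [← hI] at hdim hreg
  haveI := hreg
  haveI := GrothLib.KF.hasLBaseChange (IsLocalRing.residue Rp)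
  have h := (Groth.Agent.S6977.result (A := Rp) (B := B) d' hdim a b _ hL fun i hi => by
    haveI : DRing.HasLTensor Rp (ModuleCat.of Rp (IsLocalRing.ResidueField Rp)) :=
      ‹DRing.HasLTensor (Localization.AtPrime p) (ModuleCat.of (Localization.AtPrime p) p.ResidueField)›
    refine subsingleton_HD_residue_of_lTensor _ i ?_
    exact GrothLib.DR.subsingleton_HD_of_iso ((DRing.LTensor Rp _).mapIso
      ((GrothLib.DR.restrictDComp γ ρ δ hδ).app Kq).symm) i (hfib i hi)).2
  -- down to the base
  have h' : DRing.HasTorAmplitudeIn B (a - d) b ((DRing.restrictD ρ).obj Kq) :=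
    GrothLib.DR.hasTorAmplitudeIn_mono (by omega) le_rfl h
  have hcomp : algebraMap R Aq = ρ.comp (algebraMap R B) := by
    refine RingHom.ext fun r => ?_
    show algebraMap R Aq r = ρ (algebraMap R B r)
    rw [IsScalarTower.algebraMap_apply R (MvPolynomial (Fin d) R) B, Localization.localRingHom_to_map,
      IsScalarTower.algebraMap_apply R A Aq]
    exact congrArg _ (ψ.commutes r).symm
  have hR := GrothLib.DR.hasTorAmplitudeIn_restrictD (algebraMap R B) 0
    (GrothLib.DR.hasTorAmplitudeIn_of_equiv GrothLib.DR.restrictSelfEquiv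
      (by simpa using GrothLib.DR.hasTorAmplitudeIn_flat (A := R) B)) h'
  exact GrothLib.DR.hasTorAmplitudeIn_mono (by omega) le_rfl (GrothLib.DR.hasTorAmplitudeIn_of_iso
    ((GrothLib.DR.restrictDComp (algebraMap R B) ρ (algebraMap R Aq) hcomp).app Kq) hR)

end GrothLib.DualCx22
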