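import Groth.Agent.Lib.DualCx22.PolyFibre
import Groth.Agent.Lib.DualCx22.TorLocalFibre
import Groth.Agent.Lib.DCxRing.TorLocalMax
import Groth.Agent.Lib.DCxRing.FibreAmp
import Groth.Agent.Lib.BlowUp.FlatSub
import Groth.Agent.Lib.Serre.Regular
import Mathlib.RingTheory.Spectrum.Prime.FreeLocus

/-!
# Fibrewise bounded complexes over affine space
-/

set_option autoImplicit false
set_option linter.style.haveILetI false
universe u

open CategoryTheory CategoryTheory.Limits HomologicalComplex TensorProduct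

attribute [local instance] HasDerivedCategory.standard

namespace GrothLib.DualCx22

set_option maxHeartbeats 1000000 in
/-- Exactness at a closed point of affine space, from the fibre over the base. -/
theorem exactAt_bc_residue_of_fibre {R : Type u} [CommRing R] {d : ℕ}
    (Q : Ideal (MvPolynomial (Fin d) R)) [Q.IsMaximal] {E : DRing.Cx (MvPolynomial (Fin d) R)} {c : ℤ}
    (hc : DRing.VanishesAbove E c) (hEf : DRing.TermwiseFiniteFree E) (a : ℤ)
    (h : ∀ j, j < a → GrothLib.DR.TExact ((DRing.restrictCx (algebraMap R (MvPolynomial (Fin d) R))).obj E)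
      (Q.comap (MvPolynomial.C (σ := Fin d))).ResidueField j)
    (i : ℤ) (hi : i < a - d) : ((GrothLib.DR.bc (Ideal.Quotient.mk Q)).obj E).ExactAt i := by
  let p := Q.comap (MvPolynomial.C (σ := Fin d))
  let κ := p.ResidueField
  let π : MvPolynomial (Fin d) R →+* MvPolynomial (Fin d) κ := MvPolynomial.map (algebraMap R κ)
  have hflat : DRing.TermwiseFlat E :=
    GrothLib.DR.termwiseFlat_of_projective fun j => GrothLib.DR.projective_of_finiteFree hEf j
  -- exactness over the fibre
  letI := π.toAlgebra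
  let e₀ : MvPolynomial (Fin d) R ⊗[R] κ ≃+ MvPolynomial (Fin d) κ :=
    (TensorProduct.comm R (MvPolynomial (Fin d) R) κ).toAddEquiv.trans
      (MvPolynomial.algebraTensorAlgEquiv R κ).toAddEquiv
  have he₀ : ∀ (q : MvPolynomial (Fin d) R) (x : MvPolynomial (Fin d) R ⊗[R] κ), e₀ (q • x) = π q * e₀ x := by
    intro q x
    induction x using TensorProduct.induction_on with
    | zero => simp
    | tmul q' k =>
      change MvPolynomial.algebraTensorAlgEquiv R κ (k ⊗ₜ[R] (q * q')) =
        π q * MvPolynomial.algebraTensorAlgEquiv R κ (k ⊗ₜ[R] q')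
      rw [MvPolynomial.algebraTensorAlgEquiv_tmul, MvPolynomial.algebraTensorAlgEquiv_tmul, map_mul, mul_smul_comm]
    | add x y hx hy => rw [smul_add, map_add, map_add, hx, hy, mul_add]
  let eC : MvPolynomial (Fin d) R ⊗[R] κ ≃ₗ[MvPolynomial (Fin d) R] MvPolynomial (Fin d) κ :=
    { e₀ with map_smul' := he₀ }
  have hex : ∀ j, (j < a ∨ max a c < j) → ((GrothLib.DR.bc π).obj E).ExactAt j := by
    rintro j (hj | hj)
    · exact (GrothLib.DR.exactAt_bc_iff π E j).2
        (GrothLib.DR.tExact_of_linearEquiv eC ((GrothLib.DR.tExact_tensor_iff E κ j).2 (h j hj)))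
    · exact ShortComplex.exact_of_isZero_X₂ _ ((ModuleCat.extendScalars π).map_isZero
        (hc j (lt_of_le_of_lt (le_max_right a c) hj)))
  -- the point of the fibre
  letI : Field (MvPolynomial (Fin d) R ⧸ Q) := Ideal.Quotient.field Q
  let g : R ⧸ p →+* MvPolynomial (Fin d) R ⧸ Q := Ideal.quotientMap Q (MvPolynomial.C (σ := Fin d)) le_rfl
  let f₀ : κ →+* MvPolynomial (Fin d) R ⧸ Q := IsFractionRing.lift (g := g) Ideal.quotientMap_injective
  have hf₀ : ∀ r, f₀ (algebraMap R κ r) = Ideal.Quotient.mk Q (MvPolynomial.C r) := fun r => by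
    rw [← Ideal.algebraMap_quotient_residueField_mk]
    exact IsFractionRing.lift_algebraMap _ (Ideal.Quotient.mk p r)
  let χ : MvPolynomial (Fin d) κ →+* MvPolynomial (Fin d) R ⧸ Q :=
    MvPolynomial.eval₂Hom f₀ fun v => Ideal.Quotient.mk Q (MvPolynomial.X v)
  have hχ : χ.comp π = Ideal.Quotient.mk Q := by
    refine MvPolynomial.ringHom_ext (fun r => ?_) fun v => ?_
    · simp [χ, π, hf₀]
    · simp [χ, π]
  let Q' := RingHom.ker χ
  haveI : Q'.IsPrime := RingHom.ker_isPrime χ
  have hbot : Q'.comap (MvPolynomial.C (σ := Fin d)) = ⊥ := eq_bot_iff.2 fun x hx => by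
    have h0 : f₀ x = 0 := by
      have h1 : χ (MvPolynomial.C x) = 0 := hx
      simpa [χ] using h1
    exact (map_eq_zero f₀).1 h0
  obtain ⟨hreg, hdim⟩ := localization_mvPolynomial_domain d Q' hbot
  obtain ⟨d', hd', hdim'⟩ : ∃ d' : ℕ, d' ≤ d ∧ ringKrullDim (Localization.AtPrime Q') = d' := by
    have h0 := ringKrullDim_nonneg_of_nontrivial (R := Localization.AtPrime Q')
    revert hdim h0
    generalize ringKrullDim (Localization.AtPrime Q') = r
    intro hdim h0
    cases r with
    | bot => simp at h0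
    | coe r =>
      cases r with
      | top => exact absurd (WithBot.coe_le_coe.1 hdim) (by simp)
      | coe k => exact ⟨k, by exact_mod_cast hdim, rfl⟩
  let L : MvPolynomial (Fin d) κ →+* Localization.AtPrime Q' := algebraMap _ _
  let χ' : Localization.AtPrime Q' →+* MvPolynomial (Fin d) R ⧸ Q :=
    IsLocalization.lift (M := Q'.primeCompl) (g := χ) fun y => isUnit_iff_ne_zero.2 y.2
  have hχ' : χ'.comp (L.comp π) = Ideal.Quotient.mk Q := by
    rw [← RingHom.comp_assoc, show χ'.comp L = χ from IsLocalization.lift_comp _, hχ]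
  haveI := GrothLib.DR.preservesFiniteLimits_extendScalars L
    (show (algebraMap (MvPolynomial (Fin d) κ) (Localization.AtPrime Q')).Flat from
      (haveI : Module.Flat (MvPolynomial (Fin d) κ) (Localization.AtPrime Q') :=
        IsLocalization.flat _ Q'.primeCompl
       GrothLib.DR.flat_algebraMap))
  let E' := (GrothLib.DR.bc (L.comp π)).obj E
  have hex' : ∀ j, (j < a ∨ max a c < j) → E'.ExactAt j := fun j hj =>
    (GrothLib.DR.exactAt_map_exact (ModuleCat.extendScalars L) (hex j hj)).of_iso
      (GrothLib.DR.bcCompIso π L E).symm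
  have hT := GrothLib.DR.hasTorAmplitudeIn_of_globalDimension d'
    (fun M _ _ => GrothLib.Serre.pdLE_of_isRegularLocalRing _ d' hdim' M) (DRing.toD E') a (max a c)
    fun j hj => (GrothLib.DR.exactAt_iff _ j).1 (hex' j hj)
  have hv : DRing.VanishesAbove E' c := fun j hj => (ModuleCat.extendScalars _).map_isZero (hc j hj)
  letI := χ'.toAlgebra
  have hT' := (GrothLib.DR.hasTorAmplitudeIn_iff hv (GrothLib.DR.termwiseFlat_bc _ hflat) _ _).1 hT
    (MvPolynomial (Fin d) R ⧸ Q) i (Or.inl (by omega))
  have h2 := ((GrothLib.DR.exactAt_bc_iff χ' E' i).2 hT').of_iso (GrothLib.DR.bcCompIso (L.comp π) χ' E).symm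
  rwa [hχ'] at h2

variable {P : Type u} [CommRing P]

/-- Cokernels commute with localisation. -/
theorem nonempty_localized_quotient {X Y : ModuleCat.{u} P} (f : X ⟶ Y) (B : Type u) [CommRing B] [Algebra P B] :
    Nonempty ((↑((ModuleCat.extendScalars.{u, u, u} (algebraMap P B)).obj Y) ⧸
      LinearMap.range ((ModuleCat.extendScalars.{u, u, u} (algebraMap P B)).map f).hom) ≃ₗ[B]
        (ModuleCat.extendScalars.{u, u, u} (algebraMap P B)).obj (ModuleCat.of P (Y ⧸ LinearMap.range f.hom))) := by
  letI := (algebraMap P B).toAlgebra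
  let π : Y ⟶ ModuleCat.of P (Y ⧸ LinearMap.range f.hom) := ModuleCat.ofHom (LinearMap.range f.hom).mkQ
  let g := ((ModuleCat.extendScalars.{u, u, u} (algebraMap P B)).map π).hom
  have hex : Function.Exact f.hom π.hom := LinearMap.exact_iff.2 (Submodule.ker_mkQ _)
  have h1 : Function.Exact (f.hom.lTensor B) (π.hom.lTensor B) :=
    lTensor_exact B hex (Submodule.mkQ_surjective _)
  have hg : Function.Surjective g := LinearMap.lTensor_surjective B (Submodule.mkQ_surjective _)
  have hk : LinearMap.ker g = LinearMap.range ((ModuleCat.extendScalars.{u, u, u} (algebraMap P B)).map f).hom :=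
    Submodule.ext fun x => h1 x
  exact ⟨(Submodule.quotEquivOfEq _ _ hk.symm).trans (g.quotKerEquivOfSurjective hg)⟩

variable (E : DRing.Cx P)

/-- The cokernel in degree `a`. -/
abbrev coker (a : ℤ) : Type u := ↥(E.X a) ⧸ LinearMap.range (E.d (a - 1) a).hom

theorem finitePresentation_coker (hEf : DRing.TermwiseFiniteFree E) (a : ℤ) :
    Module.FinitePresentation P (coker E a) := by
  haveI := (hEf a).1
  haveI := GrothLib.DR.projective_of_finiteFree hEf a
  haveI := (hEf (a - 1)).1
  haveI := Module.finitePresentation_of_projective P (E.X a)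
  exact Module.finitePresentation_of_surjective (LinearMap.range (E.d (a - 1) a).hom).mkQ
    (Submodule.mkQ_surjective _) ((Submodule.ker_mkQ (LinearMap.range (E.d (a - 1) a).hom)).symm ▸
      Submodule.fg_range (E.d (a - 1) a).hom)

set_option maxHeartbeats 1000000 in
/-- The cokernel is free at a closed point below which the closed fibre is exact. -/
theorem mem_freeLocus_of_fibre (hEf : DRing.TermwiseFiniteFree E) (a : ℤ) (Q : PrimeSpectrum P)
    (hQ : Q.asIdeal.IsMaximal) (h : ((GrothLib.DR.bc (Ideal.Quotient.mk Q.asIdeal)).obj E).ExactAt (a - 1)) :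
    Q ∈ Module.freeLocus P (coker E a) := by
  let B := Localization.AtPrime Q.asIdeal
  let l : P →+* B := algebraMap P B
  let E' := (GrothLib.DR.bc l).obj E
  have hp : DRing.TermwiseFiniteProjective E := fun j =>
    ⟨(hEf j).1, GrothLib.DR.projective_of_finiteFree hEf j⟩
  have hE' := GrothLib.DR.termwiseFiniteProjective_bc l hp
  have hres : ∀ m : Ideal B, m.IsMaximal → ((GrothLib.DR.bc (Ideal.Quotient.mk m)).obj E').ExactAt (a - 1) := by
    intro m hm
    obtain rfl := IsLocalRing.eq_maximalIdeal hm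
    let e := IsLocalization.AtPrime.equivQuotMaximalIdeal Q.asIdeal B
    have he : (Ideal.Quotient.mk (IsLocalRing.maximalIdeal B)).comp l =
        (e : (P ⧸ Q.asIdeal) →+* B ⧸ IsLocalRing.maximalIdeal B).comp (Ideal.Quotient.mk Q.asIdeal) :=
      RingHom.ext fun x => by simp [l, e]
    haveI := GrothLib.DR.preservesFiniteLimits_extendScalars (e : (P ⧸ Q.asIdeal) →+* B ⧸ IsLocalRing.maximalIdeal B)
      (RingHom.Flat.of_bijective e.bijective)
    have h1 := (GrothLib.DR.exactAt_map_exact (ModuleCat.extendScalars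
      (e : (P ⧸ Q.asIdeal) →+* B ⧸ IsLocalRing.maximalIdeal B)) h).of_iso (GrothLib.DR.bcCompIso _ _ E).symm
    rw [← he] at h1
    exact h1.of_iso (GrothLib.DR.bcCompIso l _ E)
  haveI := (hE' (a - 1)).1
  haveI := (hE' (a - 1)).2
  haveI := (hE' (a - 1 + 1)).2
  haveI := (hE' a).1
  haveI := (hE' a).2
  have hflat : Module.Flat B (↑(E'.X a) ⧸ LinearMap.range (E'.d (a - 1) a).hom) := by
    refine GrothLib.DR.flat_quotient_range (E'.d (a - 1 - 1) (a - 1)).hom (E'.d (a - 1) a).hom fun M _ _ => ?_
    have := GrothLib.DR.tExact_of_fibres E' (a - 1) hres M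
    unfold GrothLib.DR.TExact at this
    rwa [show a - 1 + 1 = a by omega] at this
  obtain ⟨e⟩ := nonempty_localized_quotient (E.d (a - 1) a) B
  obtain ⟨e'⟩ := GrothLib.DR.nonempty_extendScalars_iso (A := P) (B := B) (coker E a)
  haveI : Module.Flat B (↑((ModuleCat.extendScalars.{u, u, u} (algebraMap P B)).obj (E.X a)) ⧸
      LinearMap.range ((ModuleCat.extendScalars.{u, u, u} (algebraMap P B)).map (E.d (a - 1) a)).hom) := hflat
  haveI : Module.Flat B (B ⊗[P] coker E a) := Module.Flat.of_linearEquiv (e.trans e'.toLinearEquiv.symm).symm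
  haveI := finitePresentation_coker E hEf a
  rw [Module.mem_freeLocus_iff_tensor Q B]
  exact Module.free_of_flat_of_isLocalRing

/-- Freeness of the cokernel propagates downwards through the exact range. -/
theorem mem_freeLocus_pred (hEf : DRing.TermwiseFiniteFree E) {a₀ a : ℤ} (ha : a ≤ a₀)
    (hex : ∀ i, i < a₀ → E.ExactAt i) (Q : PrimeSpectrum P) (h : Q ∈ Module.freeLocus P (coker E a)) :
    Q ∈ Module.freeLocus P (coker E (a - 1)) := by
  let B := Localization.AtPrime Q.asIdeal
  rw [Module.mem_freeLocus_iff_tensor Q B] at h ⊢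
  haveI := h
  have e₁ := (GrothLib.DR.function_exact_d E (a - 1 - 1) (a - 1) a (by omega) (by omega)).1 (hex (a - 1) (by omega))
  let f : coker E (a - 1) →ₗ[P] E.X a := (LinearMap.range (E.d (a - 1 - 1) (a - 1)).hom).liftQ (E.d (a - 1) a).hom
    fun x hx => (e₁ x).2 hx
  have hf : Function.Injective f := by
    refine (injective_iff_map_eq_zero _).2 fun z hz => ?_
    obtain ⟨x, rfl⟩ := Submodule.mkQ_surjective _ z
    exact (Submodule.Quotient.mk_eq_zero _).2 ((e₁ x).1 hz)
  have hr : LinearMap.range f = LinearMap.range (E.d (a - 1) a).hom := Submodule.range_liftQ _ _ _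
  let g : E.X a →ₗ[P] coker E a := (LinearMap.range (E.d (a - 1) a).hom).mkQ
  have hfg : Function.Exact f g := LinearMap.exact_iff.2 ((Submodule.ker_mkQ _).trans hr.symm)
  haveI : Module.Flat P B := IsLocalization.flat B Q.asIdeal.primeCompl
  haveI := (hEf a).1
  haveI := GrothLib.DR.projective_of_finiteFree hEf a
  haveI : Module.Flat B (B ⊗[P] coker E (a - 1)) := BlowUp.flat_of_exact_left (LinearMap.baseChange B f)
    (Module.Flat.lTensor_preserves_injective_linearMap f hf) (LinearMap.baseChange B g)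
    (LinearMap.lTensor_surjective B (Submodule.mkQ_surjective _))
    (lTensor_exact B hfg (Submodule.mkQ_surjective _))
  haveI := finitePresentation_coker E hEf (a - 1)
  exact Module.free_of_flat_of_isLocalRing

/-- A uniform bound from bounds at the closed points. -/
theorem exists_flat_coker (hEf : DRing.TermwiseFiniteFree E) {a₀ : ℤ} (hex : ∀ i, i < a₀ → E.ExactAt i)
    (h : ∀ (Q : Ideal P), Q.IsMaximal → ∃ a, ∀ i, i < a → ((GrothLib.DR.bc (Ideal.Quotient.mk Q)).obj E).ExactAt i) :
    ∃ a, a ≤ a₀ ∧ Module.Flat P (coker E a) := by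
  let U : ℕ → Set (PrimeSpectrum P) := fun n => Module.freeLocus P (coker E (a₀ - n))
  have hmono : Monotone U := monotone_nat_of_le_succ fun n Q hQ => by
    have h1 := mem_freeLocus_pred E hEf (a := a₀ - n) (by omega) hex Q hQ
    change Q ∈ Module.freeLocus P (coker E (a₀ - ((n + 1 : ℕ) : ℤ)))
    rwa [show a₀ - ((n + 1 : ℕ) : ℤ) = a₀ - n - 1 by omega]
  have hopen : ∀ n, IsOpen (U n) := fun n => by
    haveI := finitePresentation_coker E hEf (a₀ - n)
    exact Module.isOpen_freeLocus
  have hmax : ∀ Q : PrimeSpectrum P, Q.asIdeal.IsMaximal → Q ∈ ⋃ n, U n := fun Q hQ => by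
    obtain ⟨a, ha⟩ := h Q.asIdeal hQ
    exact Set.mem_iUnion.2 ⟨(a₀ - a).toNat, mem_freeLocus_of_fibre E hEf _ Q hQ (ha _ (by omega))⟩
  have hcov : ∀ Q : PrimeSpectrum P, Q ∈ ⋃ n, U n := fun Q => by
    obtain ⟨m, hm, hle⟩ := Ideal.exists_le_maximal Q.asIdeal Q.isPrime.ne_top
    exact ((PrimeSpectrum.le_iff_specializes Q ⟨m, hm.isPrime⟩).1 hle).mem_open (isOpen_iUnion hopen) (hmax _ hm)
  obtain ⟨t, ht⟩ := isCompact_univ.elim_finite_subcover U hopen fun Q _ => hcov Q
  refine ⟨a₀ - (t.sup id : ℕ), by omega, ?_⟩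
  haveI := finitePresentation_coker E hEf (a₀ - (t.sup id : ℕ))
  have huniv : Module.freeLocus P (coker E (a₀ - (t.sup id : ℕ))) = Set.univ := by
    refine Set.eq_univ_of_forall fun Q => ?_
    obtain ⟨n, hn, hQn⟩ := Set.mem_iUnion₂.1 (ht (Set.mem_univ Q))
    exact hmono (Finset.le_sup (f := id) hn) hQn
  haveI := Module.freeLocus_eq_univ_iff.1 huniv
  infer_instance

/-- A complex with a flat cokernel at the bottom of its exact range has tor amplitude. -/
theorem hasTorAmplitudeIn_of_flat_coker (hEf : DRing.TermwiseFiniteFree E) {a c : ℤ}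
    (hc : DRing.VanishesAbove E c) (hex : ∀ i, i < a → E.ExactAt i) (h : Module.Flat P (coker E a)) :
    DRing.HasTorAmplitudeIn P a (max a c) (DRing.toD E) := by
  haveI : E.IsGE a := by
    rw [CochainComplex.isGE_iff]
    exact hex
  refine ⟨E.truncGE a, fun i hi => ?_, fun i => ?_, ⟨(asIso (DerivedCategory.Q.map (E.πTruncGE a))).symm⟩⟩
  · rcases hi with hi | hi
    · exact (E.truncGE a).isZero_of_isStrictlyGE a i hi
    · exact (hc i (lt_of_le_of_lt (le_max_right a c) hi)).of_iso
        (E.truncGEXIso a i (lt_of_le_of_lt (le_max_left a c) hi))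
  · rcases lt_trichotomy i a with hi | rfl | hi
    · haveI := ModuleCat.subsingleton_of_isZero ((E.truncGE a).isZero_of_isStrictlyGE a i hi)
      infer_instance
    · haveI := h
      exact Module.Flat.of_linearEquiv (truncGEBottomIso E i).toLinearEquiv.symm
    · haveI := GrothLib.DR.termwiseFlat_of_projective (fun j => GrothLib.DR.projective_of_finiteFree hEf j) i
      exact Module.Flat.of_linearEquiv (E.truncGEXIso a i hi).toLinearEquiv

end GrothLib.DualCx22

namespace GrothLib.DualCx22

set_option maxHeartbeats 1000000 in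
/-- **Finite tor dimension from bounded below fibres.** -/
theorem hasFiniteTorDimCx_of_fibres {R A : Type u} [CommRing R] [CommRing A] [Algebra R A]
    [Module.Flat R A] [Algebra.FinitePresentation R A]
    [∀ p : PrimeSpectrum R, DRing.HasLTensor R (ModuleCat.of R p.asIdeal.ResidueField)]
    (K : Dual.D A) (hK : DRing.IsPseudoCoherent' A K)
    (h0 : ∃ a : ℤ, ∀ i : ℤ, i < a → Subsingleton (Dual.HD A K i))
    (hp : ∀ p : PrimeSpectrum R, ∃ a : ℤ, ∀ i : ℤ, i < a →
      Subsingleton (Dual.HD R ((DRing.LTensor R (ModuleCat.of R p.asIdeal.ResidueField)).obj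
        ((DRing.restrictD (algebraMap R A)).obj K)) i)) :
    DRing.HasFiniteTorDimCx R ((DRing.restrictD (algebraMap R A)).obj K) := by
  obtain ⟨n, ψ, hψ, hker⟩ := Algebra.FinitePresentation.out (R := R) (A := A)
  let P := MvPolynomial (Fin n) R
  let π : P →+* A := ψ.toRingHom
  haveI : Algebra.FinitePresentation R P := inferInstance
  -- pseudo-coherence over affine space
  have hπ : GrothLib.DR.RingPseudoCoherent π := by
    let X := (ModuleCat.restrictScalars.{u} π).obj (ModuleCat.of A A)
    let g : P →ₗ[P] X :=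
      { toFun := fun x => π x, map_add' := map_add π, map_smul' := fun a x => map_mul π a x }
    haveI : Module.FinitePresentation P X :=
      Module.finitePresentation_of_surjective g hψ hker
    refine isPseudoCoherentModule'_of_flat (R := R) X ?_
    exact Module.Flat.of_linearEquiv (M := A)
      ({ toFun := fun x => x, invFun := fun x => x, map_add' := fun _ _ => rfl,
         map_smul' := fun a x => by
           refine (Algebra.smul_def a x).trans ?_
           exact congrArg (· * x) (ψ.commutes a).symm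
         left_inv := fun _ => rfl, right_inv := fun _ => rfl } :
        A ≃ₗ[R] (ModuleCat.restrictScalars (algebraMap R P)).obj X).symm
  have hcomp : algebraMap R A = π.comp (algebraMap R P) := RingHom.ext fun r => (ψ.commutes r).symm
  let L := (DRing.restrictD π).obj K
  obtain ⟨E, c, hc, hEf, ⟨e⟩⟩ := (GrothLib.DR.isPseudoCoherent'_restrictD_iff hπ K).1 hK
  -- exactness below
  obtain ⟨a₀, ha₀⟩ := h0
  have hex : ∀ i, i < a₀ → E.ExactAt i := fun i hi => by
    let G := DerivedCategory.Q.objPreimage K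
    let eG : DRing.toD G ≅ K := DerivedCategory.Q.objObjPreimageIso K
    have h1 : G.ExactAt i := (GrothLib.DR.exactAt_iff _ i).2 (GrothLib.DR.subsingleton_HD_of_iso eG.symm i (ha₀ i hi))
    exact (GrothLib.DR.exactAt_iff _ i).2 (GrothLib.DR.subsingleton_HD_of_iso
      ((GrothLib.DR.restrictToDIso π G).symm ≪≫ (DRing.restrictD π).mapIso eG ≪≫ e.symm) i
      ((GrothLib.DR.exactAt_iff _ i).1 ((GrothLib.KF.exactAt_restrict_iff π G i).2 h1)))
  -- the closed fibres
  have hflat : DRing.TermwiseFlat ((DRing.restrictCx (algebraMap R P)).obj E) :=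
    GrothLib.DR.termwiseFlat_restrict (GrothLib.DR.termwiseFlat_of_projective fun j =>
      GrothLib.DR.projective_of_finiteFree hEf j)
  have hv : DRing.VanishesAbove ((DRing.restrictCx (algebraMap R P)).obj E) c := fun j hj =>
    (ModuleCat.restrictScalars (algebraMap R P)).map_isZero (hc j hj)
  let eR : DRing.toD ((DRing.restrictCx (algebraMap R P)).obj E) ≅ (DRing.restrictD (algebraMap R A)).obj K :=
    (GrothLib.DR.restrictToDIso (algebraMap R P) E).symm ≪≫ (DRing.restrictD (algebraMap R P)).mapIso e ≪≫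
      (GrothLib.DR.restrictDComp (algebraMap R P) π (algebraMap R A) hcomp).app K
  obtain ⟨a, ha, hcok⟩ := exists_flat_coker E hEf hex fun Q hQ => by
    haveI := hQ
    let p : PrimeSpectrum R := ⟨Q.comap (MvPolynomial.C (σ := Fin n)), inferInstance⟩
    obtain ⟨a', ha'⟩ := hp p
    obtain ⟨e'⟩ := GrothLib.KF.lTensor_value (ModuleCat.of R p.asIdeal.ResidueField)
      (GrothLib.KF.isKFlat_of_vanishesAbove hv hflat)
    exact ⟨a' - n, fun i hi => exactAt_bc_residue_of_fibre Q hc hEf a' (fun j hj =>
      (GrothLib.DR.tExact_iff _ _ j).2 ((GrothLib.DR.exactAt_iff _ j).2 (GrothLib.DR.subsingleton_HD_of_iso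
        ((DRing.LTensor R _).mapIso eR.symm ≪≫ e') j (ha' j hj)))) i hi⟩
  have hP := hasTorAmplitudeIn_of_flat_coker E hEf hc (fun i hi => hex i (by omega)) hcok
  exact ⟨_, _, GrothLib.DR.hasTorAmplitudeIn_of_iso
    ((DRing.restrictD (algebraMap R P)).mapIso e ≪≫
      (GrothLib.DR.restrictDComp (algebraMap R P) π (algebraMap R A) hcomp).app K)
    (GrothLib.DR.hasTorAmplitudeIn_restrictD (algebraMap R P) 0
      (GrothLib.DR.hasTorAmplitudeIn_of_equiv GrothLib.DR.restrictSelfEquiv
        (by simpa using GrothLib.DR.hasTorAmplitudeIn_flat (A := R) P)) hP)⟩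

end GrothLib.DualCx22
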