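import Groth.Agent.Lib.DCxRing.BC
import Groth.Agent.Lib.DCxRing.DComplete.HomProj
import Groth.Agent.Lib.DerCat.MapHomology
import Groth.Agent.Lib.ExtBC.Basic
import Mathlib.Algebra.Homology.DerivedCategory.Linear

/-!
# Flat base change of morphisms in the derived category

For a flat ring map `A → B` the comparison `B ⊗_A Hom_{D(A)}(X, Y) → Hom_{D(B)}(X_B, Y_B)`, its naturality, the five
lemma for it, and its bijectivity when `X` is a finite free module in degree `0`.
-/

set_option autoImplicit false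
set_option linter.style.haveILetI false
universe u

open CategoryTheory CategoryTheory.Limits CategoryTheory.Pretriangulated DerivedCategory TensorProduct

attribute [local instance] HasDerivedCategory.standard

namespace GrothLib.DualCx22

variable {A : Type u} [CommRing A] (B : Type u) [CommRing B] [Algebra A B]

omit [Algebra A B] in
theorem homH0_smul {P : ModuleCat.{u} B} {X : Dual.D B} (b : B)
    (ξ : (DerivedCategory.singleFunctor (ModuleCat.{u} B) 0).obj P ⟶ X) :
    DCpl.homH0 P X (b • ξ) = b • DCpl.homH0 P X ξ := by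
  have e : b • ξ = (DerivedCategory.singleFunctor (ModuleCat.{u} B) 0).map (b • 𝟙 P) ≫ ξ := by
    rw [Functor.map_smul, CategoryTheory.Functor.map_id, Linear.smul_comp, Category.id_comp]
  rw [e, DCpl.homH0_precomp, Linear.smul_comp, Category.id_comp]

/-- Extension of scalars along `A → B`. -/
noncomputable abbrev bcMod : ModuleCat.{u} A ⥤ ModuleCat.{u} B :=
  ModuleCat.extendScalars.{u, u, u} (algebraMap A B)

theorem bcMod_map_smul_id (a : A) (X : ModuleCat.{u} A) :
    (bcMod B).map (a • 𝟙 X) = algebraMap A B a • 𝟙 ((bcMod B).obj X) := by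
  suffices h : ∀ (φ : A →+* B), (ModuleCat.extendScalars.{u, u, u} φ).map (a • 𝟙 X) =
      φ a • 𝟙 ((ModuleCat.extendScalars.{u, u, u} φ).obj X) from h _
  intro φ
  letI := φ.toAlgebra
  refine ModuleCat.hom_ext (LinearMap.ext fun z => ?_)
  change TensorProduct A B X at z
  induction z using TensorProduct.induction_on with
  | zero => exact (map_zero _).trans (map_zero _).symm
  | tmul b x =>
    change (b ⊗ₜ[A] (a • x) : TensorProduct A B X) = φ a • (b ⊗ₜ[A] x)
    rw [TensorProduct.tmul_smul]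
    rfl
  | add x y hx hy => exact (map_add _ x y).trans ((congrArg₂ (· + ·) hx hy).trans (map_add _ x y).symm)

variable [PreservesFiniteLimits (bcMod (A := A) B)]

/-- Derived extension of scalars along a flat map, as the functor induced by the exact functor. -/
noncomputable abbrev bcD : Dual.D A ⥤ Dual.D B := (bcMod B).mapDerivedCategory

theorem bcD_map_smul_id (a : A) (X : Dual.D A) :
    (bcD B).map (a • 𝟙 X) = algebraMap A B a • 𝟙 ((bcD B).obj X) := by
  obtain ⟨P, ⟨e⟩⟩ : ∃ P : DRing.Cx A, Nonempty (DRing.toD P ≅ X) :=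
    ⟨_, ⟨DerivedCategory.Q.objObjPreimageIso X⟩⟩
  have hP : (bcD B).map (a • 𝟙 (DRing.toD P)) = algebraMap A B a • 𝟙 ((bcD B).obj (DRing.toD P)) := by
    have h1 : a • 𝟙 (DRing.toD P) = DerivedCategory.Q.map (a • 𝟙 P) := by
      rw [Functor.map_smul, CategoryTheory.Functor.map_id]
    have h2 : ((bcMod B).mapHomologicalComplex (ComplexShape.up ℤ)).map (a • 𝟙 P) =
        algebraMap A B a • 𝟙 (((bcMod B).mapHomologicalComplex (ComplexShape.up ℤ)).obj P) := by
      ext i : 1
      exact bcMod_map_smul_id B a (P.X i)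
    rw [h1]
    have hn := (bcMod B).mapDerivedCategoryFactors.hom.naturality (a • 𝟙 P)
    simp only [Functor.comp_map] at hn
    have h3 : DerivedCategory.Q.map (algebraMap A B a •
        𝟙 (((bcMod B).mapHomologicalComplex (ComplexShape.up ℤ)).obj P)) = algebraMap A B a • 𝟙 _ := by
      rw [Functor.map_smul, CategoryTheory.Functor.map_id]
    rw [h2, h3, Linear.comp_smul] at hn
    erw [Category.comp_id] at hn
    rw [← cancel_mono ((bcMod B).mapDerivedCategoryFactors.hom.app P), Linear.smul_comp, Category.id_comp]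
    exact hn
  have h : a • 𝟙 X = e.inv ≫ (a • 𝟙 (DRing.toD P)) ≫ e.hom := by simp
  rw [h, Functor.map_comp, Functor.map_comp, hP, Linear.smul_comp, Category.id_comp, Linear.comp_smul,
    ← Functor.map_comp, e.inv_hom_id, CategoryTheory.Functor.map_id]

theorem bcD_map_smul (a : A) {X Y : Dual.D A} (f : X ⟶ Y) :
    (bcD B).map (a • f) = algebraMap A B a • (bcD B).map f := by
  rw [show a • f = (a • 𝟙 X) ≫ f by simp, Functor.map_comp, bcD_map_smul_id, Linear.smul_comp, Category.id_comp]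

/-- `b ⊗ f ↦ b • f_B`. -/
noncomputable def θ (X Y : Dual.D A) : B ⊗[A] (X ⟶ Y) →+ ((bcD B).obj X ⟶ (bcD B).obj Y) :=
  TensorProduct.liftAddHom
    (AddMonoidHom.mk' (fun b => AddMonoidHom.mk' (fun f : X ⟶ Y => b • (bcD B).map f)
        fun f g => by rw [Functor.map_add, smul_add])
      fun b c => by ext f; exact add_smul b c _)
    fun a b f => by
      simp only [AddMonoidHom.mk'_apply]
      rw [bcD_map_smul, smul_smul, Algebra.smul_def, mul_comm]

@[simp] theorem θ_tmul {X Y : Dual.D A} (b : B) (f : X ⟶ Y) : θ B X Y (b ⊗ₜ f) = b • (bcD B).map f := rfl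

theorem θ_precomp {X X' Y : Dual.D A} (u : X' ⟶ X) (z : B ⊗[A] (X ⟶ Y)) :
    θ B X' Y ((Linear.leftComp A Y u).lTensor B z) = (bcD B).map u ≫ θ B X Y z := by
  induction z using TensorProduct.induction_on with
  | zero => simp
  | tmul b f =>
    rw [LinearMap.lTensor_tmul, θ_tmul, θ_tmul, Linear.comp_smul, ← Functor.map_comp]
    rfl
  | add x y hx hy => rw [map_add, map_add, map_add, hx, hy, Preadditive.comp_add]

theorem θ_postcomp {X Y Y' : Dual.D A} (u : Y ⟶ Y') (z : B ⊗[A] (X ⟶ Y)) :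
    θ B X Y' ((Linear.rightComp A X u).lTensor B z) = θ B X Y z ≫ (bcD B).map u := by
  induction z using TensorProduct.induction_on with
  | zero => simp
  | tmul b f =>
    rw [LinearMap.lTensor_tmul, θ_tmul, θ_tmul, Linear.smul_comp, ← Functor.map_comp]
    rfl
  | add x y hx hy => rw [map_add, map_add, map_add, hx, hy, Preadditive.add_comp]

/-- The comparison is bijective. -/
def IsBC (X Y : Dual.D A) : Prop := Function.Bijective (θ B X Y)

theorem isBC_of_iso {X X' Y Y' : Dual.D A} (e : X ≅ X') (e' : Y ≅ Y') (h : IsBC B X Y) : IsBC B X' Y' := by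
  let E : (X' ⟶ Y') ≃ₗ[A] (X ⟶ Y) := Linear.homCongr A e.symm e'.symm
  let E' : ((bcD B).obj X ⟶ (bcD B).obj Y) ≃ ((bcD B).obj X' ⟶ (bcD B).obj Y') :=
    ((bcD B).mapIso e).homCongr ((bcD B).mapIso e')
  have key : ∀ z, θ B X' Y' z = E' (θ B X Y (E.toLinearMap.lTensor B z)) := by
    intro z
    induction z using TensorProduct.induction_on with
    | zero =>
      simp only [map_zero]
      simp [E', Iso.homCongr]
    | tmul b f =>
      rw [LinearMap.lTensor_tmul, θ_tmul, θ_tmul]
      simp [E, E', Iso.homCongr, Linear.homCongr]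
    | add x y hx hy =>
      rw [map_add, map_add, map_add, hx, hy]
      simp [E', Iso.homCongr, Preadditive.add_comp, Preadditive.comp_add]
  have hb : Function.Bijective (E.toLinearMap.lTensor B) := (LinearEquiv.lTensor B E).bijective
  have : ⇑(θ B X' Y') = E' ∘ θ B X Y ∘ E.toLinearMap.lTensor B := funext key
  rw [IsBC, this]
  exact E'.bijective.comp (h.comp hb)

theorem isBC_of_subsingleton (X Y : Dual.D A) (h : Subsingleton (X ⟶ Y))
    (h' : Subsingleton ((bcD B).obj X ⟶ (bcD B).obj Y)) : IsBC B X Y := by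
  haveI : Subsingleton (B ⊗[A] (X ⟶ Y)) := by
    refine subsingleton_of_forall_eq 0 fun z => ?_
    induction z using TensorProduct.induction_on with
    | zero => rfl
    | tmul b f => rw [Subsingleton.elim f 0, TensorProduct.tmul_zero]
    | add x y hx hy => rw [hx, hy, add_zero]
  exact ⟨fun x y _ => Subsingleton.elim x y, fun t => ⟨0, Subsingleton.elim _ _⟩⟩

section Exact

variable [Module.Flat A B]

omit [PreservesFiniteLimits (bcMod (A := A) B)] in
theorem exact_lTensor_hom (T : Triangle (Dual.D A)) (hT : T ∈ distTriang _) (Y : Dual.D A) :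
    Function.Exact ((Linear.leftComp A Y T.mor₂).lTensor B) ((Linear.leftComp A Y T.mor₁).lTensor B) := by
  refine Module.Flat.lTensor_exact B fun f => ⟨fun hf => ?_, ?_⟩
  · obtain ⟨g, hg⟩ := T.yoneda_exact₂ hT f hf
    exact ⟨g, hg.symm⟩
  · rintro ⟨g, rfl⟩
    change T.mor₁ ≫ T.mor₂ ≫ g = 0
    rw [← Category.assoc, comp_distTriang_mor_zero₁₂ T hT, zero_comp]

/-- The five lemma: injectivity. -/
theorem injective_obj₂ (T : Triangle (Dual.D A)) (hT : T ∈ distTriang _) (Y : Dual.D A)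
    (h₁ : Function.Injective (θ B T.obj₁ Y)) (h₃ : Function.Injective (θ B T.obj₃ Y))
    (h₁' : Function.Surjective (θ B (T.obj₁⟦(1 : ℤ)⟧) Y)) : Function.Injective (θ B T.obj₂ Y) := by
  have hT₁ := rot_of_distTriang _ hT
  let F := bcD (A := A) B
  rw [injective_iff_map_eq_zero]
  intro x hx
  have h1 : (Linear.leftComp A Y T.mor₁).lTensor B x = 0 := h₁ (by rw [θ_precomp, hx, comp_zero, map_zero])
  obtain ⟨y, rfl⟩ := (exact_lTensor_hom B T hT Y x).1 h1
  rw [θ_precomp] at hx
  obtain ⟨z, hz⟩ := (F.mapTriangle.obj T.rotate).yoneda_exact₂ (F.map_distinguished _ hT₁) (θ B _ Y y)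
    hx
  have hz' : ∃ z' : (bcD B).obj (T.obj₁⟦(1 : ℤ)⟧) ⟶ (bcD B).obj Y,
      θ B _ Y y = (bcD B).map T.mor₃ ≫ z' := ⟨z, hz⟩
  obtain ⟨z', hz'⟩ := hz'
  obtain ⟨w, rfl⟩ := h₁' z'
  rw [← θ_precomp] at hz'
  rw [h₃ hz']
  exact (exact_lTensor_hom B T.rotate hT₁ Y _).2 ⟨w, rfl⟩

/-- The five lemma: surjectivity. -/
theorem surjective_obj₂ (T : Triangle (Dual.D A)) (hT : T ∈ distTriang _) (Y : Dual.D A)
    (h₁ : Function.Surjective (θ B T.obj₁ Y)) (h₃ : Function.Surjective (θ B T.obj₃ Y))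
    (h₃' : Function.Injective (θ B (T.obj₃⟦(-1 : ℤ)⟧) Y)) : Function.Surjective (θ B T.obj₂ Y) := by
  have hT₀ := inv_rot_of_distTriang _ hT
  let F := bcD (A := A) B
  intro t
  obtain ⟨a, ha⟩ := h₁ ((bcD B).map T.mor₁ ≫ t)
  let u₀ : T.obj₃⟦(-1 : ℤ)⟧ ⟶ T.obj₁ := T.invRotate.mor₁
  have hu₀ : u₀ ≫ T.mor₁ = 0 := comp_distTriang_mor_zero₁₂ _ hT₀
  have e0 : θ B _ Y ((Linear.leftComp A Y u₀).lTensor B a) = 0 := by
    rw [θ_precomp, ha, ← Category.assoc, ← Functor.map_comp, hu₀, Functor.map_zero, zero_comp]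
  have h0 : (Linear.leftComp A Y u₀).lTensor B a = 0 := h₃' (e0.trans (map_zero _).symm)
  obtain ⟨b, hb⟩ : ∃ b : B ⊗[A] (T.obj₂ ⟶ Y), (Linear.leftComp A Y T.mor₁).lTensor B b = a :=
    (exact_lTensor_hom B T.invRotate hT₀ Y a).1 h0
  have h1 : (bcD B).map T.mor₁ ≫ (t - θ B _ Y b) = 0 := by
    rw [Preadditive.comp_sub, ← θ_precomp, ← ha, sub_eq_zero]
    exact congrArg (θ B _ Y) hb.symm
  obtain ⟨c, hc⟩ := (F.mapTriangle.obj T).yoneda_exact₂ (F.map_distinguished _ hT) _ h1
  have hc' : ∃ c' : (bcD B).obj T.obj₃ ⟶ (bcD B).obj Y, t - θ B _ Y b = (bcD B).map T.mor₂ ≫ c' := ⟨c, hc⟩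
  obtain ⟨c', hc'⟩ := hc'
  obtain ⟨d, rfl⟩ := h₃ c'
  refine ⟨b + (Linear.leftComp A Y T.mor₂).lTensor B d, ?_⟩
  rw [map_add, θ_precomp, ← hc', add_sub_cancel]

/-- The five lemma for the comparison. -/
theorem isBC_obj₂ (T : Triangle (Dual.D A)) (hT : T ∈ distTriang _) (Y : Dual.D A)
    (h₁ : IsBC B T.obj₁ Y) (h₃ : IsBC B T.obj₃ Y) (h₁' : IsBC B (T.obj₁⟦(1 : ℤ)⟧) Y)
    (h₃' : IsBC B (T.obj₃⟦(-1 : ℤ)⟧) Y) : IsBC B T.obj₂ Y :=
  ⟨injective_obj₂ B T hT Y h₁.1 h₃.1 h₁'.2, surjective_obj₂ B T hT Y h₁.2 h₃.2 h₃'.1⟩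

end Exact

section Free

omit [PreservesFiniteLimits (bcMod (A := A) B)]

/-- The comparison for modules. -/
noncomputable def θMod (M N : ModuleCat.{u} A) [(bcMod (A := A) B).Additive] :
    B ⊗[A] (M ⟶ N) →+ ((bcMod B).obj M ⟶ (bcMod B).obj N) :=
  TensorProduct.liftAddHom
    (AddMonoidHom.mk' (fun b : B => AddMonoidHom.mk' (fun f : M ⟶ N => b • (bcMod B).map f)
        fun f g => by rw [Functor.map_add, smul_add])
      fun b c => AddMonoidHom.ext fun f => add_smul b c ((bcMod B).map f))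
    fun a b f => by
      simp only [AddMonoidHom.mk'_apply]
      rw [show a • f = (a • 𝟙 M) ≫ f by simp, Functor.map_comp, bcMod_map_smul_id, Linear.smul_comp,
        Category.id_comp, smul_smul, Algebra.smul_def, mul_comm]

theorem θMod_tmul {M N : ModuleCat.{u} A} (b : B) (f : M ⟶ N) :
    θMod B M N (b ⊗ₜ f) = b • (bcMod B).map f := rfl

theorem bijective_θMod_aux (inst : Algebra A B) (φ : A →+* B) (h : inst = φ.toAlgebra) (n : ℕ)
    (N : ModuleCat.{u} A) :
    letI := inst
    ∀ (G : B ⊗[A] (ModuleCat.of A (Fin n → A) ⟶ N) →+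
        ((ModuleCat.extendScalars.{u, u, u} φ).obj (ModuleCat.of A (Fin n → A)) ⟶
          (ModuleCat.extendScalars.{u, u, u} φ).obj N)),
      (∀ b f, G (b ⊗ₜ f) = b • (ModuleCat.extendScalars.{u, u, u} φ).map f) → Function.Bijective G := by
  subst h
  intro G hG
  letI := φ.toAlgebra
  let e : (ModuleCat.of A (Fin n → A) ⟶ N) ≃ₗ[A] ((Fin n → A) →ₗ[A] N) := ModuleCat.homLinearEquiv
  let E : (TensorProduct A B (Fin n → A) →ₗ[B] TensorProduct A B N) ≃
      ((ModuleCat.extendScalars.{u, u, u} φ).obj (ModuleCat.of A (Fin n → A)) ⟶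
        (ModuleCat.extendScalars.{u, u, u} φ).obj N) :=
    { toFun := fun g => (ModuleCat.ofHom g :
        ModuleCat.of B (TensorProduct A B (Fin n → A)) ⟶ ModuleCat.of B (TensorProduct A B N))
      invFun := fun g => ModuleCat.Hom.hom
        (g : ModuleCat.of B (TensorProduct A B (Fin n → A)) ⟶ ModuleCat.of B (TensorProduct A B N))
      left_inv := fun _ => rfl
      right_inv := fun _ => rfl }
  have key : ∀ z, G z = E (GrothLib.ExtBC.κ B N (Fin n → A) (e.toLinearMap.lTensor B z)) := by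
    intro z
    induction z using TensorProduct.induction_on with
    | zero => rw [map_zero, map_zero, map_zero]; rfl
    | tmul b f => rw [hG, LinearMap.lTensor_tmul, GrothLib.ExtBC.κ_tmul]; rfl
    | add x y hx hy => rw [map_add, map_add, map_add, hx, hy]; rfl
  have hb : Function.Bijective (e.toLinearMap.lTensor B) := (LinearEquiv.lTensor B e).bijective
  have : ⇑G = E ∘ GrothLib.ExtBC.κ B N (Fin n → A) ∘ e.toLinearMap.lTensor B := funext key
  exact this ▸ E.bijective.comp ((GrothLib.ExtBC.bijective_κ_pi n).comp hb)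

theorem bijective_θMod (n : ℕ) (N : ModuleCat.{u} A) :
    Function.Bijective (θMod B (ModuleCat.of A (Fin n → A)) N) :=
  bijective_θMod_aux B ‹Algebra A B› (algebraMap A B) (Algebra.algebra_ext _ _ fun _ => rfl) n N _ fun _ _ => rfl

end Free

/-- **The comparison is bijective on finite free modules.** -/
theorem isBC_free (n : ℕ) (Y : Dual.D A) : IsBC B (Dual.inD A (Fin n → A)) Y := by
  let P : ModuleCat.{u} A := ModuleCat.of A (Fin n → A)
  let HA := DerivedCategory.homologyFunctor (ModuleCat.{u} A) 0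
  let HB := DerivedCategory.homologyFunctor (ModuleCat.{u} B) 0
  let γ := DerTrunc.homologyMapIso (bcMod (A := A) B) 0
  haveI : Projective P := (IsProjective.iff_projective (R := A) (Fin n → A)).1 inferInstance
  let sA := (DerivedCategory.singleFunctorCompHomologyFunctorIso (ModuleCat.{u} A) 0).app P
  -- the effect on `H⁰`
  let gA : (Dual.inD A (Fin n → A) ⟶ Y) →ₗ[A] (P ⟶ HA.obj Y) :=
    { toFun := DCpl.homH0 P Y
      map_add' := DCpl.homH0_add
      map_smul' := fun a ξ => by
        have e : a • ξ = (DerivedCategory.singleFunctor (ModuleCat.{u} A) 0).map (a • 𝟙 P) ≫ ξ := by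
          rw [Functor.map_smul, CategoryTheory.Functor.map_id, Linear.smul_comp, Category.id_comp]
        rw [RingHom.id_apply, e, DCpl.homH0_precomp, Linear.smul_comp, Category.id_comp] }
  have hgA : Function.Bijective gA := ⟨DCpl.homH0_injective P Y, DCpl.homH0_surjective P Y⟩
  obtain ⟨e₀⟩ : Nonempty ((bcD B).obj (Dual.inD A (Fin n → A)) ≅
      (DerivedCategory.singleFunctor (ModuleCat.{u} B) 0).obj ((bcMod B).obj P)) := by
    obtain ⟨e⟩ := DR.nonempty_map_inD (bcMod (A := A) B) (Fin n → A)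
    exact ⟨(bcD B).mapIso (DCpl.eSingle P) ≪≫ (bcMod B).mapDerivedCategoryFactors.app _ ≪≫ e⟩
  haveI : Projective ((bcMod (A := A) B).obj P) :=
    ((ModuleCat.extendRestrictScalarsAdj (algebraMap A B)).map_projective (P := P) inferInstance)
  let sB := HB.mapIso e₀ ≪≫
    (DerivedCategory.singleFunctorCompHomologyFunctorIso (ModuleCat.{u} B) 0).app ((bcMod B).obj P)
  let q := sB.inv ≫ γ.hom.app _ ≫ (bcMod B).map sA.hom
  haveI : IsIso q := inferInstance
  let gB : ((bcD B).obj (Dual.inD A (Fin n → A)) ⟶ (bcD B).obj Y) →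
      ((bcMod B).obj P ⟶ (bcMod B).obj (HA.obj Y)) := fun ξ =>
    inv q ≫ DCpl.homH0 ((bcMod B).obj P) ((bcD B).obj Y) (e₀.inv ≫ ξ) ≫ γ.hom.app Y
  have hgB : Function.Bijective gB := by
    have h0 : Function.Bijective (DCpl.homH0 ((bcMod (A := A) B).obj P) ((bcD B).obj Y)) :=
      ⟨DCpl.homH0_injective _ _, DCpl.homH0_surjective _ _⟩
    exact ((asIso q).homCongr (asIso (γ.hom.app Y))).bijective.comp
      (h0.comp (e₀.homFromEquiv (Z := (bcD B).obj Y)).bijective)
  have hq : inv q = (bcMod B).map sA.inv ≫ γ.inv.app _ ≫ sB.hom := by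
    refine IsIso.inv_eq_of_hom_inv_id ?_
    simp [q]
    erw [Iso.hom_inv_id_app_assoc, Iso.inv_hom_id]
  have hgf : ∀ ξ, gB ξ = (bcMod B).map sA.inv ≫ γ.inv.app _ ≫ HB.map ξ ≫ γ.hom.app Y := fun ξ => by
    simp only [gB, hq, DCpl.homH0, Category.assoc, Functor.map_comp, sB, Iso.trans_hom, Functor.mapIso_hom]
    rw [Iso.hom_inv_id_assoc, ← Functor.map_comp_assoc, e₀.hom_inv_id, CategoryTheory.Functor.map_id,
      Category.id_comp]
  have key : ∀ z, gB (θ B (Dual.inD A (Fin n → A)) Y z) = θMod B P (HA.obj Y) (gA.lTensor B z) := by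
    intro z
    induction z using TensorProduct.induction_on with
    | zero =>
      rw [map_zero, map_zero, map_zero, hgf, Functor.map_zero]
      simp
    | tmul b f =>
      rw [θ_tmul, LinearMap.lTensor_tmul, θMod_tmul]
      have h1 : gB (b • (bcD B).map f) = b • gB ((bcD B).map f) := by
        simp only [gB, Linear.comp_smul, homH0_smul, Linear.smul_comp]
      rw [h1, hgf]
      congr 1
      change _ = (bcMod B).map (sA.inv ≫ HA.map f)
      rw [Functor.map_comp]
      congr 1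
      have hn := γ.hom.naturality f
      simp only [Functor.comp_map] at hn
      rw [hn, Iso.inv_hom_id_app_assoc]
    | add x y hx hy =>
      rw [map_add, map_add, map_add, ← hx, ← hy]
      simp [gB, DCpl.homH0_add, Preadditive.add_comp, Preadditive.comp_add]
  have hc : Function.Bijective (gB ∘ θ B (Dual.inD A (Fin n → A)) Y) := by
    have : gB ∘ θ B (Dual.inD A (Fin n → A)) Y = θMod B P (HA.obj Y) ∘ gA.lTensor B := funext key
    rw [this]
    exact (bijective_θMod B n _).comp (LinearEquiv.lTensor B (LinearEquiv.ofBijective gA hgA)).bijective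
  exact ⟨hc.1.of_comp, fun t => by
    obtain ⟨z, hz⟩ := hc.2 (gB t)
    exact ⟨z, hgB.1 hz⟩⟩

end GrothLib.DualCx22
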