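import Groth.Agent.Lib.InjMod.MatlisCompl
import Groth.Agent.Lib.CanonMod.Duality
import Mathlib.RingTheory.AdicCompletion.AsTensorProduct

/-!
# The completion of a finite module is its double Matlis dual
-/

set_option autoImplicit false
universe u

open TensorProduct

namespace GrothLib.DualCx22

variable {A : Type u} [CommRing A] [IsLocalRing A] [IsNoetherianRing A]
  {E : Type u} [AddCommGroup E] [Module A E] {f : IsLocalRing.ResidueField A →ₗ[A] E}

theorem nonempty_completion_double_dual (hf : InjHull.IsInjectiveHull f) (N : Type u) [AddCommGroup N]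
    [Module A N] [Module.Finite A N] :
    Nonempty (AdicCompletion (IsLocalRing.maximalIdeal A) N ≃ₗ[A] ((N →ₗ[A] E) →ₗ[A] E)) :=
  ⟨((AdicCompletion.ofTensorProductEquivOfFiniteNoetherian (IsLocalRing.maximalIdeal A) N).restrictScalars A).symm.trans
    ((TensorProduct.congr (GrothLib.Matlis.endEquiv hf).toLinearEquiv.symm (LinearEquiv.refl A N)).trans
      (LinearEquiv.ofBijective _ (GrothLib.CanonMod.tensorDual_bijective (K := E) hf.isInjective N)))⟩

end GrothLib.DualCx22
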