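import Groth.Agent.Lib.LocProp.SmoothRegularLocal
import Mathlib.RingTheory.KrullDimension.Polynomial
import Mathlib.RingTheory.Polynomial.Basic

/-!
# Local rings of fibres of affine spaces
-/

set_option autoImplicit false
universe u

namespace GrothLib.DualCx22

open IsLocalRing MvPolynomial

/-- Local rings of affine space over a field. -/
theorem localization_mvPolynomial_domain {D : Type u} [CommRing D] [IsDomain D] (d : ℕ)
    (P : Ideal (MvPolynomial (Fin d) D)) [P.IsPrime] (hP : P.comap (MvPolynomial.C (σ := Fin d)) = ⊥) :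
    IsRegularLocalRing (Localization.AtPrime P) ∧
      ringKrullDim (Localization.AtPrime P) ≤ (d : WithBot ℕ∞) := by
  let K := FractionRing D
  let S := MvPolynomial (Fin d) K
  let M := (nonZeroDivisors D).map (MvPolynomial.C (σ := Fin d))
  let : Algebra (MvPolynomial (Fin d) D) S := MvPolynomial.algebraMvPolynomial
  have : IsLocalization M S := MvPolynomial.isLocalization _ _
  have disj : Disjoint (M : Set (MvPolynomial (Fin d) D)) (P : Set (MvPolynomial (Fin d) D)) := by
    refine Set.disjoint_left.mpr ?_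
    rintro _ ⟨a, ha, rfl⟩ haP
    have h0 : a ∈ P.comap (MvPolynomial.C (σ := Fin d)) := haP
    rw [hP, Ideal.mem_bot] at h0
    exact nonZeroDivisors.ne_zero ha h0
  let PS := P.map (algebraMap (MvPolynomial (Fin d) D) S)
  have : PS.IsPrime := IsLocalization.isPrime_of_isPrime_disjoint M _ _ ‹_› disj
  have : IsLocalization.AtPrime (Localization.AtPrime PS) P := by
    convert IsLocalization.isLocalization_isLocalization_atPrime_isLocalization M
      (Localization.AtPrime PS) PS
    exact (IsLocalization.under_map_of_isPrime_disjoint M _ ‹_› disj).symm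
  let e : Localization.AtPrime PS ≃+* Localization.AtPrime P := (IsLocalization.algEquiv P.primeCompl
    (Localization.AtPrime PS) (Localization.AtPrime P)).toRingEquiv
  refine ⟨IsRegularLocalRing.of_ringEquiv (R := Localization.AtPrime PS) e, ?_⟩
  rw [← ringKrullDim_eq_of_ringEquiv e, IsLocalization.AtPrime.ringKrullDim_eq_height PS (Localization.AtPrime PS)]
  refine (Ideal.height_le_ringKrullDim_of_isPrime).trans ?_
  simp [S, MvPolynomial.ringKrullDim_of_isNoetherianRing, ringKrullDim_eq_zero_of_isField (Field.toIsField K)]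

/-- The closed fibre of a local ring of affine space. -/
theorem polyFibre {R : Type u} [CommRing R] (p : Ideal R) [p.IsPrime] (d : ℕ)
    (Q : Ideal (MvPolynomial (Fin d) R)) [Q.IsPrime] (hQ : Q.comap (MvPolynomial.C (σ := Fin d)) = p) :
    IsRegularLocalRing (Localization.AtPrime Q ⧸
        p.map ((algebraMap _ (Localization.AtPrime Q)).comp (MvPolynomial.C (σ := Fin d)))) ∧
      ∃ d' : ℕ, d' ≤ d ∧ ringKrullDim (Localization.AtPrime Q ⧸
        p.map ((algebraMap _ (Localization.AtPrime Q)).comp (MvPolynomial.C (σ := Fin d)))) = d' := by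
  let π : MvPolynomial (Fin d) R →+* MvPolynomial (Fin d) (R ⧸ p) := MvPolynomial.map (Ideal.Quotient.mk p)
  have hπ : Function.Surjective π := MvPolynomial.map_surjective _ Ideal.Quotient.mk_surjective
  have hker : RingHom.ker π = p.map (MvPolynomial.C (σ := Fin d)) := by
    rw [show RingHom.ker π = _ from MvPolynomial.ker_map (Ideal.Quotient.mk p), Ideal.mk_ker]
  have hle : RingHom.ker π ≤ Q := by
    rw [hker, Ideal.map_le_iff_le_comap, hQ]
  let Qb := Q.map π
  haveI : Qb.IsPrime := Ideal.map_isPrime_of_surjective hπ hle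
  have hcomap : Qb.comap π = Q := by
    rw [Ideal.comap_map_of_surjective π hπ, ← RingHom.ker_eq_comap_bot, sup_eq_left.2 hle]
  have hbot : Qb.comap (MvPolynomial.C (σ := Fin d)) = ⊥ := by
    refine eq_bot_iff.2 fun x hx => ?_
    obtain ⟨r, rfl⟩ := Ideal.Quotient.mk_surjective x
    have : MvPolynomial.C r ∈ Qb.comap π := by
      show π (MvPolynomial.C r) ∈ Qb
      simpa [π] using hx
    rw [hcomap] at this
    exact Ideal.Quotient.eq_zero_iff_mem.2 (hQ ▸ (show r ∈ Q.comap MvPolynomial.C from this))
  obtain ⟨hreg, hdim⟩ := localization_mvPolynomial_domain d Qb hbot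
  let I := p.map ((algebraMap _ (Localization.AtPrime Q)).comp (MvPolynomial.C (σ := Fin d)))
  let ρ : Localization.AtPrime Q →+* Localization.AtPrime Qb := Localization.localRingHom Q Qb π hcomap.symm
  have hI : I = (RingHom.ker π).map (algebraMap _ (Localization.AtPrime Q)) := by
    rw [hker, Ideal.map_map]
  have hρ : Function.Surjective ρ := fun z => by
    obtain ⟨⟨a, s⟩, rfl⟩ := IsLocalization.mk'_surjective Qb.primeCompl z
    obtain ⟨a', rfl⟩ := hπ a
    obtain ⟨s', hs'⟩ := hπ s.1
    have hs : s' ∈ Q.primeCompl := fun h => s.2 (hs' ▸ Ideal.mem_map_of_mem π h)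
    refine ⟨IsLocalization.mk' _ a' ⟨s', hs⟩, ?_⟩
    rw [Localization.localRingHom_mk']
    congr 1
    exact Subtype.ext hs'
  have hkρ : RingHom.ker ρ = I := by
    refine le_antisymm (fun z hz => ?_) ?_
    · obtain ⟨⟨a, s⟩, rfl⟩ := IsLocalization.mk'_surjective Q.primeCompl z
      rw [RingHom.mem_ker, Localization.localRingHom_mk', IsLocalization.mk'_eq_zero_iff] at hz
      obtain ⟨t, ht⟩ := hz
      obtain ⟨t', ht'⟩ := hπ t.1
      have hts : t' ∈ Q.primeCompl := fun h => t.2 (ht' ▸ Ideal.mem_map_of_mem π h)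
      rw [hI, IsLocalization.mk'_mem_map_algebraMap_iff Q.primeCompl]
      exact ⟨t', hts, by rw [RingHom.mem_ker, map_mul, ht', ht]⟩
    · rw [hI, Ideal.map_le_iff_le_comap]
      intro x hx
      rw [Ideal.mem_comap, RingHom.mem_ker, Localization.localRingHom_to_map, RingHom.mem_ker.1 hx, map_zero]
  let e : Localization.AtPrime Qb ≃+* Localization.AtPrime Q ⧸ I :=
    (RingHom.quotientKerEquivOfSurjective hρ).symm.trans (Ideal.quotEquivOfEq hkρ)
  refine ⟨IsRegularLocalRing.of_ringEquiv (R := Localization.AtPrime Qb) (R' := Localization.AtPrime Q ⧸ I) e, ?_⟩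
  rw [← ringKrullDim_eq_of_ringEquiv e]
  have h0 := ringKrullDim_nonneg_of_nontrivial (R := Localization.AtPrime Qb)
  revert hdim h0
  generalize ringKrullDim (Localization.AtPrime Qb) = r
  intro hdim h0
  cases r with
  | bot => simp at h0
  | coe r =>
    cases r with
    | top => exact absurd (WithBot.coe_le_coe.1 hdim) (by simp)
    | coe k => exact ⟨k, by exact_mod_cast hdim, rfl⟩

end GrothLib.DualCx22
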