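import Groth.Agent.Lib.DualCx22.ResidueInjDim
import Groth.Agent.Lib.DualCx22.BidualCrit
import Groth.Agent.Lib.DualCx22.Coind
import Groth.Agent.Lib.DCxRHom.Cech

/-!
# Dualizing complexes over local rings from the residue field
-/

set_option autoImplicit false
set_option linter.style.haveILetI false
universe u

open CategoryTheory CategoryTheory.Limits CochainComplex CochainComplex.HomComplex HomologicalComplex

attribute [local instance] HasDerivedCategory.standard

namespace GrothLib.DualCx22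

variable {A : Type u} [CommRing A] [IsLocalRing A] [IsNoetherianRing A]

/-- **The residue field criterion.** -/
theorem isDualizing_of_residue (R : Dual.D A) (hfin : ∀ i, Module.Finite A (Dual.HD A R i)) (a : ℤ)
    (ha : ∀ i, i < a → Subsingleton (Dual.HD A R i)) (d : ℤ)
    (hvan : ∀ i : ℤ, i ≠ d → Subsingleton (Dual.inD A (IsLocalRing.ResidueField A) ⟶ R⟦i⟧))
    (hd : Nonempty ((Dual.inD A (IsLocalRing.ResidueField A) ⟶ R⟦d⟧) ≃ₗ[A] IsLocalRing.ResidueField A)) :
    Dual.IsDualizing A R := by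
  haveI : R.IsGE a := by
    rw [DerivedCategory.isGE_iff]
    exact fun i hi => (GrothLib.DR.subsingleton_iff_isZero _).1 (ha i hi)
  have hF := hasFiniteInjDim_of_residue R hfin a d hvan
  obtain ⟨a', b', hab⟩ := hF
  have hab' := hab
  obtain ⟨I, hI, hIinj, ⟨e⟩⟩ := hab
  haveI := GrothLib.DR.isKInjective_of_termwiseInjective (fun j hj => hI j (Or.inl hj)) hIinj
  have hinj : ∀ t, Injective (I.X t) := fun t => (Module.injective_iff_injective_object A (I.X t)).1 (hIinj t)
  have hIfin : ∀ n, Module.Finite A (Dual.HD A (DRing.toD I) n) := fun n =>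
    haveI := hfin n
    Module.Finite.equiv (GrothLib.RGamma.hdIso e n).symm
  let es : ∀ i : ℤ, (DRing.toD I)⟦i⟧ ≅ R⟦i⟧ := fun i => (CategoryTheory.shiftFunctor (Dual.D A) i).mapIso e
  have hvanI : ∀ i : ℤ, i ≠ d →
      Subsingleton (Dual.inD A (IsLocalRing.ResidueField A) ⟶ (DRing.toD I)⟦i⟧) := fun i hi =>
    haveI := hvan i hi
    (Linear.homCongr A (Iso.refl (Dual.inD A (IsLocalRing.ResidueField A))) (es i)).toEquiv.subsingleton
  have hdI : Nonempty ((Dual.inD A (IsLocalRing.ResidueField A) ⟶ (DRing.toD I)⟦d⟧) ≃ₗ[A] IsLocalRing.ResidueField A) := by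
    obtain ⟨f⟩ := hd
    exact ⟨(Linear.homCongr A (Iso.refl _) (es d)).trans f⟩
  let P : DRing.Cx A := (HomologicalComplex.single (ModuleCat.{u} A) (ComplexShape.up ℤ) 0).obj (ModuleCat.of A A)
  have hP0 : ∀ n : ℤ, n ≠ 0 → IsZero (P.homology n) := fun n hn =>
    isZero_homology_of_X (isZero_single_obj_X _ _ _ _ hn)
  let eP : P.homology 0 ≃ₗ[A] A :=
    (HomologicalComplex.singleObjHomologySelfIso (ComplexShape.up ℤ) 0 (ModuleCat.of A A)).toLinearEquiv
  have hP : SmallH P := by
    refine ⟨fun n => ?_, 0, 0, fun n hn => ModuleCat.subsingleton_of_isZero (hP0 n (by omega))⟩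
    by_cases hn : n = 0
    · subst hn
      exact Module.Finite.equiv eP.symm
    · haveI := ModuleCat.subsingleton_of_isZero (hP0 n hn)
      exact Module.Finite.of_finite
  haveI hq : QuasiIso (evI I P) := isBidual_of_residue I hI hinj hIfin hvanI hdI P hP
  have key : ∀ n : ℤ, Nonempty (P.homology n ≃ₗ[A] (R ⟶ R⟦n⟧)) := fun n => by
    obtain ⟨e₁⟩ := GrothLib.DualRing.exists_HD_homCx_equiv (DRing.homCx P I) I n
    exact ⟨(((isoOfQuasiIsoAt (evI I P) n).toLinearEquiv.trans (GrothLib.RGamma.hdEquiv (dd I P) n).symm).trans e₁).trans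
      (Linear.homCongr A (DerivedCategory.Q.mapIso (GrothLib.RH.homCxOneIso I) ≪≫ e) (es n))⟩
  refine ⟨inferInstance, ⟨a', b', fun M _ _ i hi => GrothLib.DR.subsingleton_ext_of_injAmp hab' M i hi⟩, hfin, ?_, ?_⟩
  · obtain ⟨f⟩ := key 0
    let g : (R ⟶ R) ≃ₗ[A] A :=
      ((Linear.homCongr A (Iso.refl R) ((shiftFunctorZero (Dual.D A) ℤ).app R).symm).trans f.symm).trans eP
    exact bijective_toEnd_of_equiv (B := A) g g.bijective fun b φ => g.map_smul b φ
  · intro n hn
    obtain ⟨f⟩ := key n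
    haveI := ModuleCat.subsingleton_of_isZero (hP0 n hn)
    exact f.symm.toEquiv.subsingleton

end GrothLib.DualCx22
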