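import Groth.Agent.Lib.DualCx22.HomFinite
import Groth.Agent.Lib.DualRing.Hom
import Mathlib.RingTheory.KrullDimension.NonZeroDivisors
import Mathlib.RingTheory.KrullDimension.Module
import Mathlib.RingTheory.Ideal.AssociatedPrime.Finiteness
import Mathlib.RingTheory.KrullDimension.LocalRing

/-!
# Injective dimension from the residue field

Over a Noetherian local ring, a bounded below complex with finite cohomology whose `Hom(k, R⟦i⟧)` is
concentrated in one degree `d` has injective amplitude in `[d - dim A, d]`.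
-/

set_option autoImplicit false
set_option linter.style.haveILetI false
universe u

open CategoryTheory CategoryTheory.Limits CategoryTheory.Pretriangulated DerivedCategory

attribute [local instance] HasDerivedCategory.standard

namespace GrothLib.DualCx22

variable {A : Type u} [CommRing A] [IsLocalRing A] [IsNoetherianRing A]

local notation "𝔪" => IsLocalRing.maximalIdeal A

theorem finite_hom_inD_of_isGE (R : Dual.D A) (hfin : ∀ i, Module.Finite A (Dual.HD A R i)) (a : ℤ) [R.IsGE a]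
    (M : Type u) [AddCommGroup M] [Module A M] [Module.Finite A M] (i : ℤ) :
    Module.Finite A (Dual.inD A M ⟶ R⟦i⟧) :=
  finite_hom_inD R hfin a (fun N _ _ q hq => subsingleton_hom_of_isLE R a (Dual.inD A N) 0 q (by omega))
    (i - a + 1).toNat M i (by omega)

theorem subsingleton_hom_of_exact (R : Dual.D A) (i : ℤ) {M' M M'' : Type u} [AddCommGroup M'] [Module A M']
    [AddCommGroup M] [Module A M] [AddCommGroup M''] [Module A M''] {f : M' →ₗ[A] M} {g : M →ₗ[A] M''}
    (hf : Function.Injective f) (hg : Function.Surjective g) (hfg : Function.Exact f g)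
    (h₁ : Subsingleton (Dual.inD A M' ⟶ R⟦i⟧)) (h₃ : Subsingleton (Dual.inD A M'' ⟶ R⟦i⟧)) :
    Subsingleton (Dual.inD A M ⟶ R⟦i⟧) := by
  let S : ShortComplex (ModuleCat.{u} A) :=
    ShortComplex.mk (ModuleCat.ofHom f) (ModuleCat.ofHom g) (ModuleCat.hom_ext hfg.linearMap_comp_eq_zero)
  have hS : S.ShortExact :=
    { exact := (ShortComplex.moduleCat_exact_iff _).2 fun x hx => (hfg x).1 hx
      mono_f := (ModuleCat.mono_iff_injective _).2 hf
      epi_g := (ModuleCat.epi_iff_surjective _).2 hg }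
  refine subsingleton_of_forall_eq 0 fun φ => ?_
  obtain ⟨ψ, hψ⟩ := hS.singleTriangle.yoneda_exact₂ hS.singleTriangle_distinguished φ
    (Subsingleton.elim (α := Dual.inD A M' ⟶ R⟦i⟧) _ _)
  refine hψ.trans ?_
  rw [Subsingleton.elim (α := Dual.inD A M'' ⟶ R⟦i⟧) ψ 0]
  exact comp_zero

/-- Vanishing on finite modules by dimension. -/
theorem subsingleton_hom_of_residue (R : Dual.D A) (hfin : ∀ i, Module.Finite A (Dual.HD A R i)) (a : ℤ) [R.IsGE a]
    (d : ℤ) (hvan : ∀ i : ℤ, i ≠ d → Subsingleton (Dual.inD A (IsLocalRing.ResidueField A) ⟶ R⟦i⟧)) :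
    ∀ (n : ℕ) (M : Type u) [AddCommGroup M] [Module A M] [Module.Finite A M],
      Module.supportDim A M ≤ (n : WithBot ℕ∞) → ∀ i : ℤ, (i < d - n ∨ d < i) →
        Subsingleton (Dual.inD A M ⟶ R⟦i⟧) := by
  intro n
  induction n using Nat.strong_induction_on with
  | _ n ih =>
  intro M _ _ hM
  induction hM using IsNoetherianRing.induction_on_isQuotientEquivQuotientPrime A with
  | subsingleton N =>
    intro _ i _
    have hz : IsZero (Dual.inD A N) :=
      (DerivedCategory.singleFunctor (ModuleCat.{u} A) 0).map_isZero (ModuleCat.isZero_of_subsingleton _)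
    exact ⟨hz.eq_of_src⟩
  | exact N₁ N₂ N₃ f g hf hg hfg h₁ h₃ =>
    intro hdim i hi
    exact subsingleton_hom_of_exact R i hf hg hfg
      (h₁ ((Module.supportDim_le_of_injective f hf).trans hdim) i hi)
      (h₃ ((Module.supportDim_le_of_surjective g hg).trans hdim) i hi)
  | quotient N q e =>
    intro hdim i hi
    haveI := q.2
    let eN : Dual.inD A N ≅ Dual.inD A (A ⧸ q.1) :=
      (DerivedCategory.singleFunctor (ModuleCat.{u} A) 0).mapIso e.toModuleIso
    refine @Equiv.subsingleton _ _ (Linear.homCongr A eN (Iso.refl (R⟦i⟧))).toEquiv ?_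
    have hq : q.1 ≤ 𝔪 := IsLocalRing.le_maximalIdeal q.2.ne_top
    rcases hq.eq_or_lt with hq | hq
    · rw [hq]
      exact hvan i (by omega)
    obtain ⟨x, hxm, hxq⟩ := SetLike.exists_of_lt hq
    have hqd : ringKrullDim (A ⧸ q.1) ≤ (n : WithBot ℕ∞) := by
      rw [← Module.supportDim_quotient_eq_ringKrullDim]
      exact (Module.supportDim_eq_of_equiv e).symm.trans_le hdim
    let J := q.1 ⊔ Ideal.span {x}
    have hJ : ringKrullDim (A ⧸ J) + 1 ≤ (n : WithBot ℕ∞) := by
      refine le_trans ?_ hqd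
      refine ringKrullDim_succ_le_of_surjective (Ideal.Quotient.factor (le_sup_left : q.1 ≤ J))
        (Ideal.Quotient.factor_surjective _) (r := Ideal.Quotient.mk q.1 x) ?_ ?_
      · exact mem_nonZeroDivisors_of_ne_zero fun h => hxq (Ideal.Quotient.eq_zero_iff_mem.1 h)
      · rw [Ideal.Quotient.factor_mk]
        exact Ideal.Quotient.eq_zero_iff_mem.2 (Ideal.mem_sup_right (Ideal.mem_span_singleton_self x))
    haveI : Nontrivial (A ⧸ J) := Ideal.Quotient.nontrivial_iff.2 fun h => (IsLocalRing.maximalIdeal.isMaximal A).ne_top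
      (top_unique (h ▸ sup_le hq.le ((Ideal.span_singleton_le_iff_mem 𝔪).2 hxm)))
    obtain ⟨m, rfl, hm⟩ : ∃ m, n = m + 1 ∧ ringKrullDim (A ⧸ J) ≤ (m : WithBot ℕ∞) := by
      obtain ⟨k, hk⟩ := WithBot.ne_bot_iff_exists.1
        (show ringKrullDim (A ⧸ J) ≠ ⊥ from fun h => by simpa [h] using (ringKrullDim_nonneg_of_nontrivial (R := A ⧸ J)))
      rw [← hk, ← WithBot.coe_one, ← WithBot.coe_add, ← WithBot.coe_natCast, WithBot.coe_le_coe] at hJ
      have hk0 : k ≠ ⊤ := fun h => by simp [h] at hJ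
      lift k to ℕ using hk0
      have hkn : k + 1 ≤ n := by exact_mod_cast hJ
      obtain ⟨m, rfl⟩ : ∃ m, n = m + 1 := ⟨n - 1, by omega⟩
      exact ⟨m, rfl, hk ▸ WithBot.coe_le_coe.2 (by exact_mod_cast (by omega : k ≤ m))⟩
    haveI hJ0 : Subsingleton (Dual.inD A (A ⧸ J) ⟶ R⟦i + 1⟧) :=
      ih m (Nat.lt_succ_self m) (A ⧸ J) ((Module.supportDim_quotient_eq_ringKrullDim J).trans_le hm) (i + 1)
        (by omega)
    let S : ShortComplex (ModuleCat.{u} A) :=
      ShortComplex.mk (x • 𝟙 (ModuleCat.of A (A ⧸ q.1)))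
        (ModuleCat.ofHom (Submodule.factor (le_sup_left : q.1 ≤ J))) (by
          refine ModuleCat.hom_ext (LinearMap.ext fun z => ?_)
          obtain ⟨z, rfl⟩ := Submodule.Quotient.mk_surjective _ z
          exact (Submodule.Quotient.mk_eq_zero _).2
            (Ideal.mem_sup_right (Ideal.mul_mem_right _ _ (Ideal.mem_span_singleton_self x))))
    have hS : S.ShortExact :=
      { exact := (ShortComplex.moduleCat_exact_iff _).2 fun z hz => by
          obtain ⟨z, rfl⟩ := Submodule.Quotient.mk_surjective _ z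
          obtain ⟨c, hc, w, hw, rfl⟩ := Submodule.mem_sup.1 ((Submodule.Quotient.mk_eq_zero _).1 hz)
          obtain ⟨t, rfl⟩ := Ideal.mem_span_singleton'.1 hw
          refine ⟨Submodule.Quotient.mk t, ?_⟩
          change x • (Submodule.Quotient.mk t : A ⧸ q.1) = _
          rw [← Submodule.Quotient.mk_smul, Submodule.Quotient.eq, smul_eq_mul,
            show x * t - (c + t * x) = -c by ring]
          exact q.1.neg_mem hc
        mono_f := (ModuleCat.mono_iff_injective _).2 ((injective_iff_map_eq_zero _).2 fun z hz => by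
          obtain ⟨z, rfl⟩ := Submodule.Quotient.mk_surjective _ z
          exact (Submodule.Quotient.mk_eq_zero _).2
            ((q.2.mem_or_mem ((Submodule.Quotient.mk_eq_zero _).1 hz)).resolve_left hxq))
        epi_g := (ModuleCat.epi_iff_surjective _).2 (Submodule.factor_surjective (le_sup_left : q.1 ≤ J)) }
    let T := hS.singleTriangle.invRotate
    haveI : Subsingleton (T.obj₁ ⟶ R⟦i⟧) :=
      (homShiftLEquiv (Dual.inD A (A ⧸ J)) R (-1) i (i + 1) (by omega)).toEquiv.subsingleton
    have hsurj : ∀ φ : Dual.inD A (A ⧸ q.1) ⟶ R⟦i⟧, ∃ ψ, x • ψ = φ := fun φ => by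
      obtain ⟨ψ, hψ⟩ := T.yoneda_exact₂ (inv_rot_of_distTriang _ hS.singleTriangle_distinguished) φ
        (Subsingleton.elim (α := T.obj₁ ⟶ R⟦i⟧) _ _)
      refine ⟨ψ, ?_⟩
      refine Eq.trans ?_ hψ.symm
      change x • ψ = (DerivedCategory.singleFunctor (ModuleCat.{u} A) 0).map (x • 𝟙 (ModuleCat.of A (A ⧸ q.1))) ≫ ψ
      rw [Functor.map_smul, CategoryTheory.Functor.map_id, Linear.smul_comp]
      exact congrArg (x • ·) (Category.id_comp ψ).symm
    haveI := finite_hom_inD_of_isGE R hfin a (A ⧸ q.1) i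
    have htop : (⊤ : Submodule A (Dual.inD A (A ⧸ q.1) ⟶ R⟦i⟧)) = ⊥ :=
      Submodule.eq_bot_of_le_smul_of_le_jacobson_bot 𝔪 ⊤ Module.Finite.fg_top
        (fun φ _ => by
          obtain ⟨ψ, rfl⟩ := hsurj φ
          exact Submodule.smul_mem_smul hxm Submodule.mem_top)
        (IsLocalRing.jacobson_eq_maximalIdeal ⊥ bot_ne_top).ge
    exact subsingleton_of_forall_eq 0 fun φ => (Submodule.mem_bot A).1 (htop ▸ Submodule.mem_top)

/-- The injective amplitude. -/
theorem hasFiniteInjDim_of_residue (R : Dual.D A) (hfin : ∀ i, Module.Finite A (Dual.HD A R i)) (a : ℤ) [R.IsGE a]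
    (d : ℤ) (hvan : ∀ i : ℤ, i ≠ d → Subsingleton (Dual.inD A (IsLocalRing.ResidueField A) ⟶ R⟦i⟧)) :
    DRing.HasFiniteInjDim A R := by
  obtain ⟨n, hn⟩ : ∃ n : ℕ, ringKrullDim A = n := by
    have h1 : ringKrullDim A ≠ ⊤ := ringKrullDim_ne_top
    have h2 : ringKrullDim A ≠ ⊥ := ringKrullDim_ne_bot
    obtain ⟨m, hm⟩ := WithBot.ne_bot_iff_exists.1 h2
    cases m with
    | top => exact absurd hm.symm h1
    | coe k => exact ⟨k, hm.symm⟩
  refine ⟨d - n, d, GrothLib.DR.hasInjAmplitudeIn_of_cyclic R (d - n) d fun J i hi => ?_⟩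
  exact subsingleton_hom_of_residue R hfin a d hvan n (A ⧸ J)
    ((Module.supportDim_le_ringKrullDim A (A ⧸ J)).trans hn.le) i hi

end GrothLib.DualCx22
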