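import Groth.Agent.Lib.DualCx22.TensorTop
import Groth.Agent.Lib.DualCx22.LocalUnique
import Groth.Agent.Lib.DCxKFlat.KFlatBounded
import Groth.Agent.Lib.DCxKFlat.Derived
import Groth.Agent.Lib.DCxKFlat.LBaseKFlat
import Groth.Agent.Lib.DCxRing.Stupid
import Mathlib.RingTheory.PicardGroup
import Mathlib.RingTheory.LocalRing.Module

/-!
# Invertible objects of `D(A)` over a local ring
-/

set_option autoImplicit false
set_option linter.style.haveILetI false
universe u

open CategoryTheory CategoryTheory.Limits CategoryTheory.MonoidalCategory HomologicalComplex TensorProduct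

attribute [local instance] HasDerivedCategory.standard

namespace GrothLib.DualCx22

variable {A : Type u} [CommRing A]

/-- A splitting of the top degree. -/
theorem exists_single_retract (P : DRing.Cx A) (p : ℤ) (hP : DRing.VanishesAbove P p) (e : TopQ P p ≃ₗ[A] A) :
    ∃ (s : (single (ModuleCat.{u} A) (ComplexShape.up ℤ) p).obj (ModuleCat.of A A) ⟶ P)
      (r : P ⟶ (single (ModuleCat.{u} A) (ComplexShape.up ℤ) p).obj (ModuleCat.of A A)), s ≫ r = 𝟙 _ := by
  obtain ⟨x, hx⟩ := Submodule.mkQ_surjective _ (e.symm 1)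
  let φ : ModuleCat.of A A ⟶ P.X p := ModuleCat.ofHom (LinearMap.toSpanSingleton A (P.X p) x)
  let π : P.X p ⟶ ModuleCat.of A A := ModuleCat.ofHom (e.toLinearMap.comp (Submodule.mkQ _))
  refine ⟨mkHomFromSingle φ fun k hk => ((hP k (by simp at hk; omega)).eq_of_tgt _ _),
    mkHomToSingle π fun i hi => ?_, HomologicalComplex.from_single_hom_ext ?_⟩
  · obtain rfl : i = p - 1 := by simp at hi; omega
    refine ModuleCat.hom_ext (LinearMap.ext fun y => ?_)
    change e (Submodule.mkQ _ (P.d (p - 1) p y)) = 0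
    rw [show Submodule.mkQ (LinearMap.range (P.d (p - 1) p).hom) (P.d (p - 1) p y) = 0 from
      (Submodule.Quotient.mk_eq_zero _).2 (LinearMap.mem_range_self _ y), map_zero]
  · rw [HomologicalComplex.comp_f, HomologicalComplex.id_f, mkHomFromSingle_f, mkHomToSingle_f, Category.assoc]
    have h1 : φ ≫ π = 𝟙 _ := ModuleCat.hom_ext (LinearMap.ext_ring (by
      change e (Submodule.mkQ _ ((1 : A) • x)) = (1 : A)
      rw [one_smul, hx, e.apply_symm_apply]))
    rw [reassoc_of% h1, Iso.hom_inv_id]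

/-- Tensoring with `A[-p]` is a shift. -/
theorem nonempty_tensor_single_iso (Q : DRing.Cx A) (p : ℤ) :
    Nonempty (DRing.toD (((single (ModuleCat.{u} A) (ComplexShape.up ℤ) p).obj (ModuleCat.of A A)) ⊗ Q) ≅
      (DRing.toD Q)⟦-p⟧) := by
  let S₀ := (single (ModuleCat.{u} A) (ComplexShape.up ℤ) 0).obj (ModuleCat.of A A)
  let T := (GrothLib.KF.tensorCx (R := A)).obj Q
  let i1 : (single (ModuleCat.{u} A) (ComplexShape.up ℤ) p).obj (ModuleCat.of A A) ≅ S₀⟦-p⟧ :=
    (((CochainComplex.singleFunctors (ModuleCat.{u} A)).shiftIso (-p) p 0 (by omega)).app (ModuleCat.of A A)).symm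
  let i2 : T.obj S₀ ≅ Q := (GrothLib.KF.singleIso Q (ModuleCat.of A A)).symm ≪≫ GrothLib.KF.tensorCxUnitIso Q
  let i3 : T.obj ((single (ModuleCat.{u} A) (ComplexShape.up ℤ) p).obj (ModuleCat.of A A)) ≅ Q⟦-p⟧ :=
    T.mapIso i1 ≪≫ (T.commShiftIso (-p)).app S₀ ≪≫ (shiftFunctor (DRing.Cx A) (-p)).mapIso i2
  exact ⟨DerivedCategory.Q.mapIso (((GrothLib.KF.tensorFlipIso Q).app _) ≪≫ i3) ≪≫
    (DerivedCategory.Q.commShiftIso (-p)).app Q⟩

/-- The factor of a unit is concentrated in one degree. -/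
theorem nonempty_iso_single_of_tensor (P Q : DRing.Cx A) (p q : ℤ) (hP : DRing.VanishesAbove P p)
    (hpq : p + q = 0) (eN : TopQ P p ≃ₗ[A] A) (eH : Dual.HD A (DRing.toD Q) q ≃ₗ[A] A)
    (e : DRing.toD (P ⊗ Q) ≅ Dual.inD A A) : Nonempty (DRing.toD Q ≅ (Dual.inD A A)⟦p⟧) := by
  obtain ⟨s, r, hsr⟩ := exists_single_retract P p hP eN
  obtain ⟨i⟩ := nonempty_tensor_single_iso Q p
  let H : ℤ → Dual.D A ⥤ ModuleCat.{u} A := fun j => DerivedCategory.homologyFunctor (ModuleCat.{u} A) j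
  let f : (DRing.toD Q)⟦-p⟧ ⟶ Dual.inD A A := i.inv ≫ DerivedCategory.Q.map (s ▷ Q) ≫ e.hom
  let g : Dual.inD A A ⟶ (DRing.toD Q)⟦-p⟧ := e.inv ≫ DerivedCategory.Q.map (r ▷ Q) ≫ i.hom
  have hfg : f ≫ g = 𝟙 _ := by
    simp only [f, g, Category.assoc, Iso.hom_inv_id_assoc]
    rw [← Functor.map_comp_assoc, ← MonoidalCategory.comp_whiskerRight, hsr, MonoidalCategory.id_whiskerRight,
      CategoryTheory.Functor.map_id, Category.id_comp, Iso.inv_hom_id]
  have hz : ∀ j, j ≠ 0 → IsZero ((H j).obj ((DRing.toD Q)⟦-p⟧)) := fun j hj => by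
    have h0 : IsZero ((H j).obj (Dual.inD A A)) :=
      (DR.subsingleton_iff_isZero _).1 (DR.subsingleton_HD_inD (A := A) A j hj)
    rw [IsZero.iff_id_eq_zero, ← CategoryTheory.Functor.map_id, ← hfg, Functor.map_comp,
      h0.eq_of_tgt ((H j).map f) 0, zero_comp]
  haveI : ((DRing.toD Q)⟦-p⟧).IsGE 0 := (DerivedCategory.isGE_iff _ _).2 fun j hj => hz j hj.ne
  haveI : ((DRing.toD Q)⟦-p⟧).IsLE 0 := (DerivedCategory.isLE_iff _ _).2 fun j hj => hz j hj.ne'
  obtain ⟨M, ⟨eM⟩⟩ := DerivedCategory.exists_iso_singleFunctor_obj_of_isGE_of_isLE ((DRing.toD Q)⟦-p⟧) 0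
  let e' : M ≅ ModuleCat.of A A :=
    ((DerivedCategory.singleFunctorCompHomologyFunctorIso (ModuleCat.{u} A) 0).app M).symm ≪≫
      (H 0).mapIso eM.symm ≪≫
        (((DerivedCategory.homologyFunctor (ModuleCat.{u} A) 0).shiftIso (-p) 0 q (by omega)).app (DRing.toD Q)) ≪≫
          eH.toModuleIso
  exact ⟨(shiftShiftNeg (DRing.toD Q) (-p)).symm ≪≫ (shiftFunctor (Dual.D A) (-(-p))).mapIso
    (eM ≪≫ (DerivedCategory.singleFunctor (ModuleCat.{u} A) 0).mapIso e') ≪≫
      eqToIso (by rw [neg_neg])⟩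

/-- Tensoring the zero map gives zero. -/
theorem tensorCx_map_zero (P E E' : DRing.Cx A) :
    ((GrothLib.KF.tensorCx (R := A)).obj P).map (0 : E ⟶ E') = 0 := by
  refine HomologicalComplex.hom_ext _ _ fun n => HomologicalComplex.mapBifunctor.hom_ext fun i j h => ?_
  erw [HomologicalComplex.ι_mapBifunctorMap]
  simp
  exact comp_zero.symm

/-- Tensoring with a K-flat complex depends only on the object of the derived category. -/
theorem nonempty_tensor_congr (P : DRing.Cx A) (hP : GrothLib.KF.IsKFlat P) {Q E : DRing.Cx A}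
    (e : DRing.toD Q ≅ DRing.toD E) : Nonempty (DRing.toD (P ⊗ Q) ≅ DRing.toD (P ⊗ E)) := by
  obtain ⟨Q', s, hs, g, hg⟩ := DerivedCategory.right_fac e.hom
  haveI := hs
  haveI : IsIso (DerivedCategory.Q.map g) := by
    have : DerivedCategory.Q.map g = DerivedCategory.Q.map s ≫ e.hom := by rw [hg, IsIso.hom_inv_id_assoc]
    rw [this]
    infer_instance
  haveI := (DerivedCategory.isIso_Q_map_iff_quasiIso (C := ModuleCat.{u} A) s).1 hs
  haveI := (DerivedCategory.isIso_Q_map_iff_quasiIso (C := ModuleCat.{u} A) g).1 inferInstance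
  haveI := GrothLib.KF.quasiIso_tensor_map_of_isKFlat s P hP
  haveI := GrothLib.KF.quasiIso_tensor_map_of_isKFlat g P hP
  have hg' : IsIso (DerivedCategory.Q.map (((GrothLib.KF.tensorCx (R := A)).obj P).map g)) :=
    (DerivedCategory.isIso_Q_map_iff_quasiIso (C := ModuleCat.{u} A) _).2 inferInstance
  have hs' : IsIso (DerivedCategory.Q.map (((GrothLib.KF.tensorCx (R := A)).obj P).map s)) :=
    (DerivedCategory.isIso_Q_map_iff_quasiIso (C := ModuleCat.{u} A) _).2 inferInstance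
  exact ⟨(@asIso _ _ _ _ _ hs').symm ≪≫ @asIso _ _ _ _ _ hg'⟩

variable [IsLocalRing A]

/-- A representative with minimal upper bound. -/
theorem exists_top_rep (L : Dual.D A) (b : ℤ) (hb : ∀ i, b < i → Subsingleton (Dual.HD A L i))
    (hne : ∃ i, Nontrivial (Dual.HD A L i)) :
    ∃ (P : DRing.Cx A) (p : ℤ), DRing.VanishesAbove P p ∧ GrothLib.KF.IsKFlat P ∧
      Nonempty (DRing.toD P ≅ L) ∧ Nontrivial (Dual.HD A L p) := by
  obtain ⟨p, hp, hmax⟩ := Int.exists_greatest_of_bdd (P := fun i => Nontrivial (Dual.HD A L i))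
    ⟨b, fun i hi => not_lt.1 fun h => by
      haveI := hi
      exact not_subsingleton (Dual.HD A L i) (hb i h)⟩ hne
  obtain ⟨P, hP, hproj, e⟩ := DR.exists_projective_rep L p fun i hi =>
    not_nontrivial_iff_subsingleton.1 fun h => absurd (hmax i h) (not_le.2 hi)
  refine ⟨P, p, hP, GrothLib.KF.isKFlat_of_bounded_above P p hP fun i => ?_, e, hp⟩
  haveI := hproj i
  exact (inferInstance : Module.Flat A (P.X i))

/-- **Invertible objects.** -/
theorem exists_iso_shift_of_tensor_iso (L : Dual.D A) (E : DRing.Cx A) [DRing.HasLTensorCx A E]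
    (hLfin : ∀ i, Module.Finite A (Dual.HD A L i)) (bL : ℤ) (hL : ∀ i, bL < i → Subsingleton (Dual.HD A L i))
    (hEfin : ∀ i, Module.Finite A (Dual.HD A (DRing.toD E) i)) (bE : ℤ)
    (hE : ∀ i, bE < i → Subsingleton (Dual.HD A (DRing.toD E) i))
    (e : (DRing.LTensorCx A E).obj L ≅ Dual.inD A A) :
    ∃ n : ℤ, Nonempty (L ≅ (Dual.inD A A)⟦n⟧) ∧ Nonempty (DRing.toD E ≅ (Dual.inD A A)⟦(-n)⟧) := by
  let H : ℤ → Dual.D A ⥤ ModuleCat.{u} A := fun j => DerivedCategory.homologyFunctor (ModuleCat.{u} A) j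
  have hA : Nontrivial (Dual.HD A (Dual.inD A A) 0) := (DR.inDHomologyIso A).toLinearEquiv.toEquiv.nontrivial
  -- neither factor is zero
  have hLne : ∃ i, Nontrivial (Dual.HD A L i) := by
    by_contra hne
    push Not at hne
    obtain ⟨P, hP, -, ⟨eP⟩⟩ := GrothLib.KF.exists_kflat_rep L
    obtain ⟨ev⟩ := GrothLib.KF.lTensorCx_value E hP
    have hac : QuasiIso (0 : P ⟶ P) := by
      rw [← DerivedCategory.isIso_Q_map_iff_quasiIso, DerivedCategory.isIso_iff]
      intro j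
      have hz : IsZero ((H j).obj (DRing.toD P)) := ((DR.subsingleton_iff_isZero _).1 (hne j)).of_iso ((H j).mapIso eP)
      exact hz.isIso hz _
    haveI := hac
    haveI : QuasiIso (((GrothLib.KF.tensorCx (R := A)).obj E).map (0 : P ⟶ P)) :=
      GrothLib.KF.quasiIso_tensor_map 0 hP hP E
    haveI : IsIso (DerivedCategory.Q.map (((GrothLib.KF.tensorCx (R := A)).obj E).map (0 : P ⟶ P))) := inferInstance
    have h2 : IsZero (DRing.toD (P ⊗ E)) := by
      refine IsZero.of_iso ?_ (DerivedCategory.Q.mapIso ((GrothLib.KF.tensorFlipIso E).app P))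
      rw [IsZero.iff_id_eq_zero,
        ← IsIso.hom_inv_id (DerivedCategory.Q.map (((GrothLib.KF.tensorCx (R := A)).obj E).map (0 : P ⟶ P)))]
      exact (congrArg (· ≫ inv (DerivedCategory.Q.map (((GrothLib.KF.tensorCx (R := A)).obj E).map (0 : P ⟶ P))))
        ((congrArg _ (tensorCx_map_zero E P P)).trans (Functor.map_zero _ _ _))).trans zero_comp
    have h3 : IsZero ((H 0).obj (Dual.inD A A)) :=
      (Functor.map_isZero (H 0) h2).of_iso ((H 0).mapIso ((e.symm ≪≫ (DRing.LTensorCx A E).mapIso eP.symm) ≪≫ ev))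
    exact not_subsingleton (Dual.HD A (Dual.inD A A) 0) ((DR.subsingleton_iff_isZero _).2 h3)
  obtain ⟨P, p, hP, hPf, ⟨eP⟩, hp⟩ := exists_top_rep L bL hL hLne
  obtain ⟨ev⟩ := GrothLib.KF.lTensorCx_value E hPf
  let e1 : DRing.toD (P ⊗ E) ≅ Dual.inD A A := ev.symm ≪≫ (DRing.LTensorCx A E).mapIso eP ≪≫ e
  have hEne : ∃ i, Nontrivial (Dual.HD A (DRing.toD E) i) := by
    by_contra hne
    push Not at hne
    have hac : QuasiIso (0 : E ⟶ E) := by
      rw [← DerivedCategory.isIso_Q_map_iff_quasiIso, DerivedCategory.isIso_iff]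
      intro j
      have hz : IsZero ((H j).obj (DRing.toD E)) := (DR.subsingleton_iff_isZero _).1 (hne j)
      exact hz.isIso hz _
    haveI := hac
    haveI : QuasiIso (((GrothLib.KF.tensorCx (R := A)).obj P).map (0 : E ⟶ E)) :=
      GrothLib.KF.quasiIso_tensor_map_of_isKFlat 0 P hPf
    haveI : IsIso (DerivedCategory.Q.map (((GrothLib.KF.tensorCx (R := A)).obj P).map (0 : E ⟶ E))) := inferInstance
    have h2 : IsZero (DRing.toD (((GrothLib.KF.tensorCx (R := A)).obj P).obj E)) := by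
      rw [IsZero.iff_id_eq_zero,
        ← IsIso.hom_inv_id (DerivedCategory.Q.map (((GrothLib.KF.tensorCx (R := A)).obj P).map (0 : E ⟶ E)))]
      exact (congrArg (· ≫ inv (DerivedCategory.Q.map (((GrothLib.KF.tensorCx (R := A)).obj P).map (0 : E ⟶ E))))
        ((congrArg _ (tensorCx_map_zero P E E)).trans (Functor.map_zero _ _ _))).trans zero_comp
    exact not_subsingleton (Dual.HD A (Dual.inD A A) 0) ((DR.subsingleton_iff_isZero _).2
      ((Functor.map_isZero (H 0) h2).of_iso ((H 0).mapIso e1.symm)))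
  obtain ⟨Q, q, hQ, hQf, ⟨eQ⟩, hq⟩ := exists_top_rep (DRing.toD E) bE hE hEne
  have hQE : Nonempty (DRing.toD (P ⊗ Q) ≅ DRing.toD (P ⊗ E)) := nonempty_tensor_congr P hPf eQ
  obtain ⟨eQE⟩ := hQE
  let e2 : DRing.toD (P ⊗ Q) ≅ Dual.inD A A := eQE ≪≫ e1
  -- the top degree
  obtain ⟨n1⟩ := nonempty_top_homology P p (hP (p + 1) (by omega))
  obtain ⟨n2⟩ := nonempty_top_homology Q q (hQ (q + 1) (by omega))
  let gP := (n1.symm.trans ((H p).mapIso eP).toLinearEquiv)
  let gQ := (n2.symm.trans ((H q).mapIso eQ).toLinearEquiv)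
  obtain ⟨top⟩ := nonempty_tensor_top hP hQ (n := p + q) rfl
  haveI : Module.Finite A (TopQ P p) := haveI := hLfin p; Module.Finite.equiv gP.symm
  haveI : Module.Finite A (TopQ Q q) := haveI := hEfin q; Module.Finite.equiv gQ.symm
  haveI : Nontrivial (TopQ P p) := haveI := hp; gP.toEquiv.nontrivial
  haveI : Nontrivial (TopQ Q q) := haveI := hq; gQ.toEquiv.nontrivial
  have htop : Nontrivial (Dual.HD A (Dual.inD A A) (p + q)) := by
    haveI : Nontrivial (TopQ P p ⊗[A] TopQ Q q) := by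
      obtain ⟨φ, x, hx⟩ := exists_hom_residue (A := A) (TopQ P p)
      obtain ⟨ψ, y, hy⟩ := exists_hom_residue (A := A) (TopQ Q q)
      let μ : TopQ P p ⊗[A] TopQ Q q →ₗ[A] IsLocalRing.ResidueField A :=
        TensorProduct.lift ((LinearMap.mul A (IsLocalRing.ResidueField A)).compl₁₂ φ ψ)
      refine ⟨⟨x ⊗ₜ y, 0, fun h => ?_⟩⟩
      have := congrArg μ h
      simp only [μ, TensorProduct.lift.tmul, LinearMap.compl₁₂_apply, LinearMap.mul_apply', hx, hy, mul_one,
        map_zero, one_ne_zero] at this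
    exact ((top.symm.trans ((H (p + q)).mapIso e2).toLinearEquiv)).symm.toEquiv.nontrivial
  have hpq : p + q = 0 := by
    by_contra hne
    exact not_subsingleton (Dual.HD A (Dual.inD A A) (p + q)) (DR.subsingleton_HD_inD (A := A) A (p + q) hne)
  let u : TopQ P p ⊗[A] TopQ Q q ≃ₗ[A] A :=
    (top.symm.trans ((H (p + q)).mapIso e2).toLinearEquiv).trans
      ((eqToIso (by rw [hpq]) : (H (p + q)).obj (Dual.inD A A) ≅ (H 0).obj (Dual.inD A A)).toLinearEquiv.trans
        (DR.inDHomologyIso A).toLinearEquiv)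
  haveI hNP : Module.Invertible A (TopQ P p) := Module.Invertible.left u
  haveI hNQ : Module.Invertible A (TopQ Q q) := Module.Invertible.right u
  obtain ⟨uP⟩ : Nonempty (TopQ P p ≃ₗ[A] A) :=
    (Module.Invertible.free_iff_linearEquiv).1 (Module.free_of_flat_of_isLocalRing)
  obtain ⟨uQ⟩ : Nonempty (TopQ Q q ≃ₗ[A] A) :=
    (Module.Invertible.free_iff_linearEquiv).1 (Module.free_of_flat_of_isLocalRing)
  obtain ⟨rQ⟩ := nonempty_iso_single_of_tensor P Q p q hP hpq uP (n2.trans uQ) e2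
  obtain ⟨rP⟩ := nonempty_iso_single_of_tensor Q P q p hQ (by omega) uQ (n1.trans uP)
    (DerivedCategory.Q.mapIso ((GrothLib.KF.tensorFlipIso P).app Q) ≪≫ e2)
  refine ⟨q, ⟨eP.symm ≪≫ rP⟩, ⟨eQ.symm ≪≫ rQ ≪≫ eqToIso (by rw [show p = -q by omega])⟩⟩

end GrothLib.DualCx22
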