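import Groth.Agent.Lib.DCxKFlat.Derived
import Groth.Agent.Lib.DCxKFlat.Balance
import Groth.Agent.Lib.DCxRing.Basic
import Groth.Agent.Lib.DCxRing.Homology
import Mathlib.Algebra.Category.ModuleCat.Kernels
import Mathlib.LinearAlgebra.TensorProduct.RightExactness

/-!
# The top cohomology of a tensor product of bounded above complexes
-/

set_option autoImplicit false
set_option linter.style.haveILetI false
universe u

open CategoryTheory CategoryTheory.Limits CategoryTheory.MonoidalCategory HomologicalComplex TensorProduct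

attribute [local instance] HasDerivedCategory.standard

namespace GrothLib.DualCx22

variable {A : Type u} [CommRing A]

/-- The top cokernel. -/
abbrev TopQ (K : DRing.Cx A) (n : ℤ) : Type u := (K.X n) ⧸ LinearMap.range (K.d (n - 1) n).hom

/-- The cohomology in the last degree is the cokernel. -/
theorem nonempty_top_homology (K : DRing.Cx A) (n : ℤ) (h : IsZero (K.X (n + 1))) :
    Nonempty (Dual.HD A (DRing.toD K) n ≃ₗ[A] TopQ K n) := by
  let e : K.opcycles n ≅ ModuleCat.of A (TopQ K n) :=
    IsColimit.coconePointUniqueUpToIso (K.opcyclesIsCokernel (n - 1) n (by simp))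
      (cokernelIsCokernel (K.d (n - 1) n)) ≪≫ ModuleCat.cokernelIsoRangeQuotient (K.d (n - 1) n)
  exact ⟨(((DerivedCategory.homologyFunctorFactors (ModuleCat.{u} A) n).app K) ≪≫
    K.isoHomologyι n (n + 1) (by simp) (h.eq_of_tgt _ _) ≪≫ e).toLinearEquiv⟩

variable (P Q : DRing.Cx A)

/-- The tensor product complex. -/
noncomputable abbrev tP : DRing.Cx A :=
  HomologicalComplex.mapBifunctor P Q (curriedTensor (ModuleCat.{u} A)) (ComplexShape.up ℤ)

/-- The summand map. -/
noncomputable abbrev tι (i j n : ℤ) (h : i + j = n) : P.X i ⊗ Q.X j ⟶ (tP P Q).X n :=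
  HomologicalComplex.ιMapBifunctor P Q (curriedTensor (ModuleCat.{u} A)) (ComplexShape.up ℤ) i j n h

variable {P Q}

theorem isZero_tensor_left {M N : ModuleCat.{u} A} (h : IsZero M) : IsZero (M ⊗ N : ModuleCat.{u} A) :=
  (tensorRight N).map_isZero h

theorem isZero_tensor_right {M N : ModuleCat.{u} A} (h : IsZero N) : IsZero (M ⊗ N : ModuleCat.{u} A) :=
  (tensorLeft M).map_isZero h

theorem isZero_tP_X {p q : ℤ} (hP : DRing.VanishesAbove P p) (hQ : DRing.VanishesAbove Q q) (n : ℤ)
    (hn : p + q < n) : IsZero ((tP P Q).X n) := by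
  rw [IsZero.iff_id_eq_zero]
  refine HomologicalComplex.mapBifunctor.hom_ext fun i j h => ?_
  have h' : i + j = n := h
  by_cases hi : p < i
  · exact (isZero_tensor_left (hP i hi)).eq_of_src _ _
  · exact (isZero_tensor_right (hQ j (by omega))).eq_of_src _ _

theorem isIso_tι {p q n : ℤ} (hP : DRing.VanishesAbove P p) (hQ : DRing.VanishesAbove Q q) (hn : p + q = n) :
    IsIso (tι P Q p q n hn) := by
  refine ⟨HomologicalComplex.mapBifunctorDesc fun i j h =>
    if hi : i = p then eqToHom (by
      have h' : i + j = n := h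
      obtain rfl : q = j := by omega
      subst hi
      rfl) else 0, ?_, ?_⟩
  · erw [HomologicalComplex.ι_mapBifunctorDesc]
    rw [dif_pos rfl]
    rfl
  · refine HomologicalComplex.mapBifunctor.hom_ext fun i j h => ?_
    have h' : i + j = n := h
    erw [← Category.assoc, HomologicalComplex.ι_mapBifunctorDesc, Category.comp_id]
    by_cases hi : i = p
    · subst hi
      obtain rfl : j = q := by omega
      rw [dif_pos rfl]
      erw [Category.id_comp]
    · rcases lt_or_gt_of_ne hi with h1 | h1
      · exact (isZero_tensor_right (hQ j (by omega))).eq_of_src _ _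
      · exact (isZero_tensor_left (hP i h1)).eq_of_src _ _

/-- **The top cohomology of a tensor product.** -/
theorem nonempty_tensor_top {p q n : ℤ} (hP : DRing.VanishesAbove P p) (hQ : DRing.VanishesAbove Q q)
    (hn : p + q = n) :
    Nonempty (Dual.HD A (DRing.toD (tP P Q)) n ≃ₗ[A] TopQ P p ⊗[A] TopQ Q q) := by
  obtain ⟨e₀⟩ := nonempty_top_homology (tP P Q) n (isZero_tP_X hP hQ (n + 1) (by omega))
  haveI := isIso_tι hP hQ hn
  let e : (P.X p ⊗[A] Q.X q) ≃ₗ[A] (tP P Q).X n := (asIso (tι P Q p q n hn)).toLinearEquiv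
  let π : (P.X p ⊗[A] Q.X q) →ₗ[A] TopQ P p ⊗[A] TopQ Q q :=
    TensorProduct.map (Submodule.mkQ _) (Submodule.mkQ _)
  let ψ : (tP P Q).X n →ₗ[A] TopQ P p ⊗[A] TopQ Q q := π.comp e.symm.toLinearMap
  have hπ : LinearMap.ker π = LinearMap.range ((P.d (p - 1) p).hom.rTensor (Q.X q)) ⊔
      LinearMap.range ((Q.d (q - 1) q).hom.lTensor (P.X p)) := by
    rw [TensorProduct.map_ker (LinearMap.exact_map_mkQ_range (P.d (p - 1) p).hom)
      (Submodule.mkQ_surjective _) (LinearMap.exact_map_mkQ_range (Q.d (q - 1) q).hom)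
      (Submodule.mkQ_surjective _), sup_comm]
  have hd : ∀ (i j : ℤ) (h : i + j = n - 1),
      tι P Q i j (n - 1) h ≫ (tP P Q).d (n - 1) n =
        mapBifunctor.d₁ P Q (curriedTensor (ModuleCat.{u} A)) (ComplexShape.up ℤ) i j n +
          mapBifunctor.d₂ P Q (curriedTensor (ModuleCat.{u} A)) (ComplexShape.up ℤ) i j n := fun i j h => by
    rw [mapBifunctor.d_eq, Preadditive.comp_add, mapBifunctor.ι_D₁, mapBifunctor.ι_D₂]
  have h1 : ∀ (h : (p - 1) + q = n - 1) (y : Q.X q) (a : P.X (p - 1)) (h' : p + q = n),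
      (tP P Q).d (n - 1) n (tι P Q (p - 1) q (n - 1) h (a ⊗ₜ[A] y)) =
        tι P Q p q n h' (P.d (p - 1) p a ⊗ₜ[A] y) := by
    intro h y a h'
    have := hd (p - 1) q h
    have hz : mapBifunctor.d₂ P Q (curriedTensor (ModuleCat.{u} A)) (ComplexShape.up ℤ) (p - 1) q n = 0 := by
      rw [mapBifunctor.d₂_eq P Q (curriedTensor (ModuleCat.{u} A)) (ComplexShape.up ℤ) (p - 1)
        (show (ComplexShape.up ℤ).Rel q (q + 1) from rfl) n (show (p - 1) + (q + 1) = n by omega)]
      rw [(hQ (q + 1) (by omega)).eq_of_tgt (Q.d q (q + 1)) 0, Functor.map_zero, zero_comp, smul_zero]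
    rw [hz, add_zero, mapBifunctor.d₁_eq P Q (curriedTensor (ModuleCat.{u} A)) (ComplexShape.up ℤ)
      (show (ComplexShape.up ℤ).Rel (p - 1) p from sub_add_cancel p 1) q n h'] at this
    have h2 := congrArg (fun f => f (a ⊗ₜ[A] y)) this
    rw [show ComplexShape.ε₁ (ComplexShape.up ℤ) (ComplexShape.up ℤ) (ComplexShape.up ℤ) (p - 1, q) = 1 from rfl,
      one_smul] at h2
    exact h2
  have h2 : ∀ (h : p + (q - 1) = n - 1) (x : P.X p) (b : Q.X (q - 1)) (h' : p + q = n),
      (tP P Q).d (n - 1) n (tι P Q p (q - 1) (n - 1) h (x ⊗ₜ[A] b)) =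
        (ComplexShape.ε₂ (ComplexShape.up ℤ) (ComplexShape.up ℤ) (ComplexShape.up ℤ) (p, q - 1)) •
          tι P Q p q n h' (x ⊗ₜ[A] Q.d (q - 1) q b) := by
    intro h x b h'
    have := hd p (q - 1) h
    have hz : mapBifunctor.d₁ P Q (curriedTensor (ModuleCat.{u} A)) (ComplexShape.up ℤ) p (q - 1) n = 0 := by
      rw [mapBifunctor.d₁_eq P Q (curriedTensor (ModuleCat.{u} A)) (ComplexShape.up ℤ)
        (show (ComplexShape.up ℤ).Rel p (p + 1) from rfl) (q - 1) n (show (p + 1) + (q - 1) = n by omega)]
      rw [(hP (p + 1) (by omega)).eq_of_tgt (P.d p (p + 1)) 0, Functor.map_zero]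
      simp
    rw [hz, zero_add, mapBifunctor.d₂_eq P Q (curriedTensor (ModuleCat.{u} A)) (ComplexShape.up ℤ) p
      (show (ComplexShape.up ℤ).Rel (q - 1) q from sub_add_cancel q 1) n h'] at this
    exact congrArg (fun f => f (x ⊗ₜ[A] b)) this
  have hψ : LinearMap.ker ψ = LinearMap.range ((tP P Q).d (n - 1) n).hom := by
    apply le_antisymm
    · intro z hz
      have hz' : e.symm z ∈ LinearMap.ker π := hz
      rw [hπ] at hz'
      have hmem : ∀ w ∈ LinearMap.range ((P.d (p - 1) p).hom.rTensor (Q.X q)) ⊔
          LinearMap.range ((Q.d (q - 1) q).hom.lTensor (P.X p)),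
          e w ∈ LinearMap.range ((tP P Q).d (n - 1) n).hom := by
        intro w hw
        obtain ⟨u, ⟨u, rfl⟩, v, ⟨v, rfl⟩, rfl⟩ := Submodule.mem_sup.1 hw
        rw [map_add]
        refine add_mem ?_ ?_
        · clear hw
          induction u using TensorProduct.induction_on with
          | zero => simp
          | tmul a y => exact ⟨_, (h1 (by omega) y a hn)⟩
          | add s t hs ht => rw [map_add, map_add]; exact add_mem hs ht
        · clear hw
          induction v using TensorProduct.induction_on with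
          | zero => simp
          | tmul x b =>
            have h3 := h2 (by omega) x b hn
            have : e ((Q.d (q - 1) q).hom.lTensor (P.X p) (x ⊗ₜ[A] b)) =
                (ComplexShape.ε₂ (ComplexShape.up ℤ) (ComplexShape.up ℤ) (ComplexShape.up ℤ) (p, q - 1)) •
                  ((tP P Q).d (n - 1) n).hom (tι P Q p (q - 1) (n - 1) (by omega) (x ⊗ₜ[A] b)) := by
              rw [show ((tP P Q).d (n - 1) n).hom (tι P Q p (q - 1) (n - 1) (by omega) (x ⊗ₜ[A] b)) = _ from h3,
                smul_smul, Int.units_mul_self, one_smul]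
              rfl
            rw [this]
            rcases Int.units_eq_one_or (ComplexShape.ε₂ (ComplexShape.up ℤ) (ComplexShape.up ℤ) (ComplexShape.up ℤ) (p, q - 1)) with h | h
            · rw [h, one_smul]; exact LinearMap.mem_range_self _ _
            · rw [h, Units.neg_smul, one_smul]; exact neg_mem (LinearMap.mem_range_self _ _)
          | add s t hs ht => rw [map_add, map_add]; exact add_mem hs ht
      simpa using hmem _ hz'
    · rw [LinearMap.range_le_ker_iff]
      have : (tP P Q).d (n - 1) n ≫ ModuleCat.ofHom ψ = 0 := by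
        refine HomologicalComplex.mapBifunctor.hom_ext fun i j h => ?_
        have h' : i + j = n - 1 := h
        rw [comp_zero, ← Category.assoc]
        by_cases hi : i = p - 1
        · subst hi
          obtain rfl : q = j := by omega
          refine ModuleCat.hom_ext (TensorProduct.ext' fun a y => ?_)
          change π (e.symm (((tP P Q).d (n - 1) n) (tι P Q (p - 1) q (n - 1) h' (a ⊗ₜ[A] y)))) = 0
          rw [h1 h' y a hn]
          change π (e.symm (e (P.d (p - 1) p a ⊗ₜ[A] y))) = 0
          rw [e.symm_apply_apply, TensorProduct.map_tmul]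
          rw [show Submodule.mkQ (LinearMap.range (P.d (p - 1) p).hom) (P.d (p - 1) p a) = 0 from
            (Submodule.Quotient.mk_eq_zero _).2 (LinearMap.mem_range_self _ a), TensorProduct.zero_tmul]
        · by_cases hi' : i = p
          · subst hi'
            obtain rfl : j = q - 1 := by omega
            refine ModuleCat.hom_ext (TensorProduct.ext' fun x b => ?_)
            change π (e.symm (((tP P Q).d (n - 1) n) (tι P Q i (q - 1) (n - 1) h' (x ⊗ₜ[A] b)))) = 0
            rw [h2 h' x b hn]
            rw [Units.smul_def, map_zsmul, map_zsmul]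
            change _ • π (e.symm (e (x ⊗ₜ[A] Q.d (q - 1) q b))) = 0
            rw [e.symm_apply_apply, TensorProduct.map_tmul]
            rw [show Submodule.mkQ (LinearMap.range (Q.d (q - 1) q).hom) (Q.d (q - 1) q b) = 0 from
              (Submodule.Quotient.mk_eq_zero _).2 (LinearMap.mem_range_self _ b), TensorProduct.tmul_zero, smul_zero]
          · by_cases hip : p < i
            · exact (isZero_tensor_left (hP i hip)).eq_of_src _ _
            · exact (isZero_tensor_right (hQ j (by omega))).eq_of_src _ _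
      exact congrArg ModuleCat.Hom.hom this
  have hsurj : Function.Surjective ψ :=
    (TensorProduct.map_surjective (Submodule.mkQ_surjective _) (Submodule.mkQ_surjective _)).comp e.symm.surjective
  exact ⟨e₀.trans ((Submodule.quotEquivOfEq _ _ hψ.symm).trans (ψ.quotKerEquivOfSurjective hsurj))⟩

end GrothLib.DualCx22
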