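import Groth.Agent.Lib.DualCx22.Transfer
import Groth.Agent.Lib.DerCat.MapAdj
import Groth.Agent.Lib.DerCat.MapHomology
import Groth.Prelude.Def_DDual2
import Mathlib.RingTheory.PicardGroup

/-!
# Twisting objects of `D(A)` by invertible modules

The derived tensor product with an invertible module is the autoequivalence induced by the exact tensor product;
morphisms from an object `K` with `End K = A` into a twist of `K` by a finite projective module `M` are `M`.
-/

set_option autoImplicit false
set_option linter.style.haveILetI false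
universe u

open CategoryTheory CategoryTheory.Limits CategoryTheory.MonoidalCategory DerivedCategory

attribute [local instance] HasDerivedCategory.standard

namespace GrothLib.DualCx22

variable {A : Type u} [CommRing A]

/-- Tensoring with two modules with product `A` are inverse equivalences. -/
noncomputable def tensorRightEquiv {P Q : ModuleCat.{u} A} (e : P ⊗ Q ≅ 𝟙_ (ModuleCat.{u} A))
    (e' : Q ⊗ P ≅ 𝟙_ (ModuleCat.{u} A)) : ModuleCat.{u} A ≌ ModuleCat.{u} A :=
  CategoryTheory.Equivalence.mk (tensorRight P) (tensorRight Q)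
    ((rightUnitorNatIso (ModuleCat.{u} A)).symm ≪≫ (curriedTensor (ModuleCat.{u} A)).flip.mapIso e.symm ≪≫
      tensorRightTensor P Q)
    ((tensorRightTensor Q P).symm ≪≫ (curriedTensor (ModuleCat.{u} A)).flip.mapIso e' ≪≫
      rightUnitorNatIso (ModuleCat.{u} A))

theorem exists_tensor_inverse (P : ModuleCat.{u} A) [Module.Invertible A P] :
    ∃ Q : ModuleCat.{u} A, Module.Invertible A Q ∧ Nonempty (P ⊗ Q ≅ 𝟙_ (ModuleCat.{u} A)) ∧
      Nonempty (Q ⊗ P ≅ 𝟙_ (ModuleCat.{u} A)) :=
  ⟨ModuleCat.of A (Module.Dual A P), inferInstanceAs (Module.Invertible A (Module.Dual A P)),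
    ⟨((TensorProduct.comm A P (Module.Dual A P)).trans (Module.Invertible.linearEquiv A P)).toModuleIso⟩,
    ⟨(Module.Invertible.linearEquiv A P).toModuleIso⟩⟩

theorem isEquivalence_tensorRight (P : ModuleCat.{u} A) [Module.Invertible A P] :
    (tensorRight P).IsEquivalence := by
  obtain ⟨Q, -, ⟨e⟩, ⟨e'⟩⟩ := exists_tensor_inverse P
  exact (tensorRightEquiv e e').isEquivalence_functor

theorem exact_tensorRight (P : ModuleCat.{u} A) [Module.Invertible A P] :
    PreservesFiniteLimits (tensorRight P) ∧ PreservesFiniteColimits (tensorRight P) := by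
  haveI := isEquivalence_tensorRight P
  exact ⟨inferInstance, inferInstance⟩

instance preservesFiniteLimits_tensorRight (P : ModuleCat.{u} A) [Module.Invertible A P] :
    PreservesFiniteLimits (tensorRight P) :=
  (exact_tensorRight P).1

instance preservesFiniteColimits_tensorRight (P : ModuleCat.{u} A) [Module.Invertible A P] :
    PreservesFiniteColimits (tensorRight P) :=
  (exact_tensorRight P).2

/-- The twist by an invertible module. -/
noncomputable abbrev twistD (P : ModuleCat.{u} A) [Module.Invertible A P] : Dual.D A ⥤ Dual.D A :=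
  (tensorRight P).mapDerivedCategory

/-- The derived category functor of the identity. -/
noncomputable def mapDerivedId :
    (𝟭 (ModuleCat.{u} A)).mapDerivedCategory ≅ 𝟭 (Dual.D A) :=
  letI : Localization.Lifting DerivedCategory.Q (HomologicalComplex.quasiIso (ModuleCat.{u} A) (ComplexShape.up ℤ))
      ((𝟭 (ModuleCat.{u} A)).mapHomologicalComplex (ComplexShape.up ℤ) ⋙ DerivedCategory.Q) (𝟭 (Dual.D A)) :=
    ⟨Functor.rightUnitor _ ≪≫ (Functor.leftUnitor _).symm ≪≫ Functor.isoWhiskerRight
      (NatIso.ofComponents (fun K => HomologicalComplex.Hom.isoOfComponents (fun n => Iso.refl _)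
        (fun i j _ => by simp)) (fun {K L} φ => by ext n; simp)) _⟩
  Localization.liftNatIso DerivedCategory.Q (HomologicalComplex.quasiIso (ModuleCat.{u} A) (ComplexShape.up ℤ))
    ((𝟭 (ModuleCat.{u} A)).mapHomologicalComplex (ComplexShape.up ℤ) ⋙ DerivedCategory.Q)
    ((𝟭 (ModuleCat.{u} A)).mapHomologicalComplex (ComplexShape.up ℤ) ⋙ DerivedCategory.Q) _ _ (Iso.refl _)

/-- Twists by modules with product `A` are mutually inverse. -/
noncomputable def twistCompId {P Q : ModuleCat.{u} A} [Module.Invertible A P] [Module.Invertible A Q]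
    (e : P ⊗ Q ≅ 𝟙_ (ModuleCat.{u} A)) : twistD P ⋙ twistD Q ≅ 𝟭 (Dual.D A) :=
  DerCat.mapDerivedCompIso (tensorRight P) (tensorRight Q) (𝟭 _)
    ((tensorRightTensor P Q).symm ≪≫ (curriedTensor (ModuleCat.{u} A)).flip.mapIso e ≪≫
      rightUnitorNatIso (ModuleCat.{u} A)) ≪≫ mapDerivedId

theorem isEquivalence_twistD (P : ModuleCat.{u} A) [Module.Invertible A P] : (twistD P).IsEquivalence := by
  obtain ⟨Q, hQ, ⟨e⟩, ⟨e'⟩⟩ := exists_tensor_inverse P
  exact (CategoryTheory.Equivalence.mk (twistD P) (twistD Q) (twistCompId e).symm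
    (twistCompId e')).isEquivalence_functor

instance (P : ModuleCat.{u} A) [Module.Invertible A P] : (twistD P).IsEquivalence := isEquivalence_twistD P

/-- The derived tensor product with an invertible module. -/
theorem nonempty_LTensor_iso_twistD (P : ModuleCat.{u} A) [Module.Invertible A P] [DRing.HasLTensor A P] :
    Nonempty (DRing.LTensor A P ≅ twistD P) := by
  let W := HomotopyCategory.quasiIso (ModuleCat.{u} A) (ComplexShape.up ℤ)
  haveI : (twistD P).IsLeftDerivedFunctor (tensorRight P).mapDerivedCategoryFactorsh.hom W :=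
    Functor.isLeftDerivedFunctor_of_inverts W (twistD P) (tensorRight P).mapDerivedCategoryFactorsh
  exact ⟨Functor.leftDerivedUnique _ _ ((DRing.tensorKh A P).totalLeftDerivedCounit DerivedCategory.Qh W)
    (tensorRight P).mapDerivedCategoryFactorsh.hom W⟩

/-- The twist of a module. -/
theorem nonempty_twistD_inD (P : ModuleCat.{u} A) [Module.Invertible A P] (M : Type u) [AddCommGroup M]
    [Module A M] : Nonempty ((twistD P).obj (Dual.inD A M) ≅ Dual.inD A (TensorProduct A M P)) :=
  ⟨((tensorRight P).mapDerivedCategorySingleFunctor 0).app (ModuleCat.of A M)⟩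

/-- Twisting preserves dualizing complexes. -/
theorem isDualizing_twistD (P : ModuleCat.{u} A) [Module.Invertible A P] {ω : Dual.D A}
    (hω : Dual.IsDualizing A ω) : Dual.IsDualizing A ((twistD P).obj ω) where
  isNoetherianRing := hω.isNoetherianRing
  finite_injective_dimension := by
    obtain ⟨Q, hQ, -, ⟨e'⟩⟩ := exists_tensor_inverse P
    obtain ⟨a, b, hab⟩ := hω.finite_injective_dimension
    refine ⟨a, b, fun M _ _ i hi => ?_⟩
    obtain ⟨e1⟩ := nonempty_twistD_inD P (TensorProduct A M Q)
    let e2 : (twistD P).obj (Dual.inD A (TensorProduct A M Q)) ≅ Dual.inD A M :=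
      e1 ≪≫ (DerivedCategory.singleFunctor (ModuleCat.{u} A) 0).mapIso
        (((TensorProduct.assoc A M Q P).trans ((TensorProduct.congr (LinearEquiv.refl A M)
          e'.toLinearEquiv).trans (TensorProduct.rid A M))).toModuleIso)
    haveI := hab (TensorProduct A M Q) i hi
    exact (((Functor.FullyFaithful.ofFullyFaithful (twistD P)).homEquiv).trans
      (Iso.homCongr e2 (((twistD P).commShiftIso i).app ω))).symm.subsingleton
  finite_cohomology i := by
    haveI := hω.finite_cohomology i
    haveI : Module.Finite A ((homologyFunctor (ModuleCat.{u} A) i ⋙ tensorRight P).obj ω) :=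
      inferInstanceAs (Module.Finite A (TensorProduct A (Dual.HD A ω i) P))
    exact Module.Finite.equiv ((DerTrunc.homologyMapIso (tensorRight P) i).app ω).toLinearEquiv.symm
  toEnd_bijective := by
    have : (fun a : A => a • 𝟙 ((twistD P).obj ω)) =
        (Functor.FullyFaithful.ofFullyFaithful (twistD P)).homEquiv ∘ (fun a : A => a • 𝟙 ω) := by
      funext a
      simp [Functor.FullyFaithful.homEquiv]
    rw [this]
    exact (Functor.FullyFaithful.ofFullyFaithful (twistD P)).homEquiv.bijective.comp hω.toEnd_bijective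
  ext_self_subsingleton i hi := by
    haveI := hω.ext_self_subsingleton i hi
    exact (((Functor.FullyFaithful.ofFullyFaithful (twistD P)).homEquiv).trans
      (Iso.homCongr (Iso.refl _) (((twistD P).commShiftIso i).app ω))).symm.subsingleton

/-- Shifts of dualizing complexes are dualizing. -/
theorem isDualizing_shift {ω : Dual.D A} (hω : Dual.IsDualizing A ω) (n : ℤ) :
    Dual.IsDualizing A (ω⟦n⟧) where
  isNoetherianRing := hω.isNoetherianRing
  finite_injective_dimension := by
    obtain ⟨a, b, hab⟩ := hω.finite_injective_dimension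
    refine ⟨a - n, b - n, fun M _ _ i hi => ?_⟩
    haveI := hab M (n + i) (by omega)
    exact (((shiftFunctorAdd' (Dual.D A) n i (n + i) rfl).app ω).homToEquiv (Z := Dual.inD A M)).symm.subsingleton
  finite_cohomology i := by
    haveI : Module.Finite A (((homologyFunctor (ModuleCat.{u} A) 0).shift (n + i)).obj ω) :=
      hω.finite_cohomology (n + i)
    exact Module.Finite.equiv ((((homologyFunctor (ModuleCat.{u} A) 0).shiftIso n i (n + i) rfl).app
      ω).toLinearEquiv).symm
  toEnd_bijective := by
    have : (fun a : A => a • 𝟙 (ω⟦n⟧)) =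
        (Functor.FullyFaithful.ofFullyFaithful (shiftFunctor (Dual.D A) n)).homEquiv ∘
          (fun a : A => a • 𝟙 ω) := by
      funext a
      simp [Functor.FullyFaithful.homEquiv]
    rw [this]
    exact (Functor.FullyFaithful.ofFullyFaithful (shiftFunctor (Dual.D A) n)).homEquiv.bijective.comp
      hω.toEnd_bijective
  ext_self_subsingleton i hi := by
    haveI := hω.ext_self_subsingleton i hi
    exact (((Functor.FullyFaithful.ofFullyFaithful (shiftFunctor (Dual.D A) n)).homEquiv).trans
      (Iso.homCongr (Iso.refl _) (shiftComm ω i n))).symm.subsingleton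

section Proj

variable (K : CochainComplex (ModuleCat.{u} A) ℤ)

/-- `K ⊗ M` in the derived category, for a representing complex. -/
noncomputable abbrev twistK (M : ModuleCat.{u} A) : Dual.D A :=
  DRing.toD (((tensorRight M).mapHomologicalComplex (ComplexShape.up ℤ)).obj K)

/-- Functoriality of `twistK` in the module. -/
noncomputable def twistMap {M N : ModuleCat.{u} A} (h : M ⟶ N) : twistK K M ⟶ twistK K N :=
  DerivedCategory.Q.map ((NatTrans.mapHomologicalComplex ((curriedTensor (ModuleCat.{u} A)).flip.map h)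
    (ComplexShape.up ℤ)).app K)

theorem twistMap_id (M : ModuleCat.{u} A) : twistMap K (𝟙 M) = 𝟙 _ := by
  rw [twistMap, ← DerivedCategory.Q.map_id]
  congr 1
  ext n : 1
  simp

theorem twistMap_comp {L M N : ModuleCat.{u} A} (f : L ⟶ M) (g : M ⟶ N) :
    twistMap K (f ≫ g) = twistMap K f ≫ twistMap K g := by
  rw [twistMap, twistMap, twistMap, ← DerivedCategory.Q.map_comp]
  congr 1
  ext n : 1
  simp

theorem twistMap_add {M N : ModuleCat.{u} A} (f g : M ⟶ N) :
    twistMap K (f + g) = twistMap K f + twistMap K g := by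
  rw [twistMap, twistMap, twistMap, ← DerivedCategory.Q.map_add]
  congr 1
  ext n : 1
  simp only [HomologicalComplex.add_f_apply, NatTrans.mapHomologicalComplex_app_f]
  exact MonoidalPreadditive.whiskerLeft_add _ _

theorem twistMap_smul {M N : ModuleCat.{u} A} (a : A) (f : M ⟶ N) :
    twistMap K (a • f) = a • twistMap K f := by
  rw [twistMap, twistMap, ← Functor.map_smul]
  congr 1
  ext n : 1
  simp only [HomologicalComplex.smul_f_apply, NatTrans.mapHomologicalComplex_app_f]
  exact MonoidalLinear.whiskerLeft_smul _ _ _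

theorem twistMap_sum {ι : Type} (s : Finset ι) {M N : ModuleCat.{u} A} (f : ι → (M ⟶ N)) :
    twistMap K (∑ i ∈ s, f i) = ∑ i ∈ s, twistMap K (f i) :=
  map_sum (AddMonoidHom.mk' (twistMap K (M := M) (N := N)) (twistMap_add K)) f s

/-- `K ⊗ A = K`. -/
noncomputable def twistUnit : twistK K (𝟙_ (ModuleCat.{u} A)) ≅ DRing.toD K :=
  DerivedCategory.Q.mapIso (HomologicalComplex.Hom.isoOfComponents (fun n => ρ_ (K.X n))
    (fun i j _ => (rightUnitor_naturality (K.d i j)).symm))

/-- The element `x` as a map out of `A`. -/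
noncomputable abbrev elemMap {M : ModuleCat.{u} A} (x : M) : 𝟙_ (ModuleCat.{u} A) ⟶ M :=
  ModuleCat.ofHom (LinearMap.toSpanSingleton A M x)

/-- The map `M → Hom(K, K ⊗ M)`. -/
noncomputable def twistTheta (M : ModuleCat.{u} A) : M →ₗ[A] (DRing.toD K ⟶ twistK K M) where
  toFun x := (twistUnit K).inv ≫ twistMap K (elemMap x)
  map_add' x y := by
    rw [← Preadditive.comp_add, ← twistMap_add]
    congr 2
    ext
    simp
  map_smul' a x := by
    rw [RingHom.id_apply, ← Linear.comp_smul, ← twistMap_smul]
    congr 2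
    ext
    simp

theorem exists_dual_basis (M : Type u) [AddCommGroup M] [Module A M] [Module.Finite A M] [Module.Projective A M] :
    ∃ (r : ℕ) (f : Fin r → M) (c : Fin r → (M →ₗ[A] A)), ∀ x, x = ∑ i, c i x • f i := by
  obtain ⟨r, p, hp⟩ := Module.Finite.exists_fin' A M
  obtain ⟨s, hs⟩ := Module.projective_lifting_property p LinearMap.id hp
  refine ⟨r, fun i => p (Pi.single i 1), fun i => (LinearMap.proj i).comp s, fun x => ?_⟩
  conv_lhs => rw [← LinearMap.id_apply (R := A) x, ← hs, LinearMap.comp_apply, pi_eq_sum_univ' (s x), map_sum]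
  simp

theorem exists_id_eq_sum (M : ModuleCat.{u} A) [Module.Finite A M] [Module.Projective A M] :
    ∃ (r : ℕ) (f : Fin r → M) (c : Fin r → (M ⟶ 𝟙_ (ModuleCat.{u} A))),
      𝟙 M = ∑ i, c i ≫ elemMap (f i) := by
  obtain ⟨r, f, c, h⟩ := exists_dual_basis (A := A) M
  refine ⟨r, f, fun i => ModuleCat.ofHom (c i), ?_⟩
  ext x
  simp only [ModuleCat.hom_id, LinearMap.id_apply, ModuleCat.hom_sum, LinearMap.sum_apply,
    ModuleCat.hom_comp, LinearMap.comp_apply]
  exact h x

theorem elemMap_comp {M : ModuleCat.{u} A} (x : M) (c : M ⟶ 𝟙_ (ModuleCat.{u} A)) :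
    elemMap x ≫ c = (show A from c x) • 𝟙 (𝟙_ (ModuleCat.{u} A)) := by
  ext
  change c.hom ((1 : A) • x) = (show A from c x) * 1
  rw [one_smul, mul_one]

/-- Morphisms into a twist by a finite projective module. -/
theorem twistTheta_bijective (hend : Function.Bijective (fun a : A => a • 𝟙 (DRing.toD K)))
    (M : ModuleCat.{u} A) [Module.Finite A M] [Module.Projective A M] :
    Function.Bijective (twistTheta K M) := by
  obtain ⟨r, f, c, hid⟩ := exists_id_eq_sum M
  refine ⟨(injective_iff_map_eq_zero _).2 fun x hx => ?_, fun ξ => ?_⟩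
  · have h0 : ∀ i, (show A from c i x) = 0 := fun i => hend.1 (by
      change (show A from c i x) • 𝟙 (DRing.toD K) = (0 : A) • 𝟙 (DRing.toD K)
      have := congrArg (fun t => t ≫ twistMap K (c i) ≫ (twistUnit K).hom) hx
      simp only [twistTheta, LinearMap.coe_mk, AddHom.coe_mk, zero_comp, Category.assoc] at this
      rw [← Category.assoc (twistMap K (elemMap x)), ← twistMap_comp, elemMap_comp, twistMap_smul,
        twistMap_id] at this
      simpa using this)
    have hx' : x = (∑ i, c i ≫ elemMap (f i)) x := by rw [← hid]; rfl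
    rw [hx']
    change (∑ i, c i ≫ elemMap (f i)).hom x = 0
    rw [ModuleCat.hom_sum, LinearMap.sum_apply]
    refine Finset.sum_eq_zero fun i _ => ?_
    change (show A from c i x) • f i = 0
    rw [h0 i, zero_smul]
  · choose a ha using fun i => hend.2 (ξ ≫ twistMap K (c i) ≫ (twistUnit K).hom)
    refine ⟨∑ i, a i • f i, ?_⟩
    rw [map_sum]
    conv_rhs => rw [← Category.comp_id ξ, ← twistMap_id, hid, twistMap_sum, Preadditive.comp_sum]
    refine Finset.sum_congr rfl fun i _ => ?_
    have h := congrArg (fun t => t ≫ (twistUnit K).inv ≫ twistMap K (elemMap (f i))) (ha i)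
    simp only [Category.assoc, Iso.hom_inv_id_assoc, Linear.smul_comp, Category.id_comp] at h
    rw [map_smul, twistMap_comp]
    exact h

/-- Vanishing of morphisms into a shifted twist by a finite projective module. -/
theorem subsingleton_hom_twistK (m : ℤ) (h : Subsingleton (DRing.toD K ⟶ (DRing.toD K)⟦m⟧))
    (M : ModuleCat.{u} A) [Module.Finite A M] [Module.Projective A M] :
    Subsingleton (DRing.toD K ⟶ (twistK K M)⟦m⟧) := by
  obtain ⟨r, f, c, hid⟩ := exists_id_eq_sum M
  haveI : Subsingleton (DRing.toD K ⟶ (twistK K (𝟙_ (ModuleCat.{u} A)))⟦m⟧) :=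
    (((shiftFunctor (Dual.D A) m).mapIso (twistUnit K)).homToEquiv (Z := DRing.toD K)).subsingleton
  refine subsingleton_of_forall_eq 0 fun ξ => ?_
  rw [← Category.comp_id ξ, ← CategoryTheory.Functor.map_id, ← twistMap_id, hid, twistMap_sum,
    Functor.map_sum, Preadditive.comp_sum]
  refine Finset.sum_eq_zero fun i _ => ?_
  rw [twistMap_comp, Functor.map_comp, ← Category.assoc,
    Subsingleton.elim (ξ ≫ (twistMap K (c i))⟦m⟧') 0, zero_comp]

end Proj

/-- The twist of the object of a complex. -/
noncomputable def twistDKIso (K : CochainComplex (ModuleCat.{u} A) ℤ) (P : ModuleCat.{u} A)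
    [Module.Invertible A P] : (twistD P).obj (DRing.toD K) ≅ twistK K P :=
  (tensorRight P).mapDerivedCategoryFactors.app K

/-- Morphisms from an object with endomorphisms `A` into its twists. -/
theorem nonempty_hom_twistD (P : ModuleCat.{u} A) [Module.Invertible A P] {ω : Dual.D A}
    (hend : Function.Bijective (fun a : A => a • 𝟙 ω)) :
    Nonempty (P ≃ₗ[A] (ω ⟶ (twistD P).obj ω)) ∧
      ∀ m : ℤ, Subsingleton (ω ⟶ ω⟦m⟧) → Subsingleton (ω ⟶ ((twistD P).obj ω)⟦m⟧) := by
  obtain ⟨K, ⟨e⟩⟩ : ∃ K : DRing.Cx A, Nonempty (DRing.toD K ≅ ω) := ⟨_, ⟨DerivedCategory.Q.objObjPreimageIso ω⟩⟩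
  have hK : Function.Bijective (fun a : A => a • 𝟙 (DRing.toD K)) := by
    have : (fun a : A => a • 𝟙 (DRing.toD K)) = (Linear.homCongr A e.symm e.symm) ∘ (fun a : A => a • 𝟙 ω) := by
      funext a
      simp [Linear.homCongr]
    rw [this]
    exact (Linear.homCongr A e.symm e.symm).bijective.comp hend
  let eT : twistK K P ≅ (twistD P).obj ω := (twistDKIso K P).symm ≪≫ (twistD P).mapIso e
  refine ⟨⟨(LinearEquiv.ofBijective _ (twistTheta_bijective K hK P)).trans (Linear.homCongr A e eT)⟩,
    fun m h => ?_⟩
  have h' : Subsingleton (DRing.toD K ⟶ (DRing.toD K)⟦m⟧) :=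
    (Linear.homCongr A e ((shiftFunctor (Dual.D A) m).mapIso e)).toEquiv.subsingleton
  haveI := subsingleton_hom_twistK K m h' P
  exact (Linear.homCongr A e ((shiftFunctor (Dual.D A) m).mapIso eT)).toEquiv.symm.subsingleton

end GrothLib.DualCx22
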