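import Groth.Agent.Lib.DualCx22.Twist
import Groth.Agent.Lib.DualCx22.LocalUnique
import Groth.Agent.Lib.DualCx22.EssFT
import Groth.Agent.Lib.DualCx22.HomFinite
import Mathlib.RingTheory.Spectrum.Prime.Topology

/-!
# Dualizing complexes over a connected spectrum differ by a shift and an invertible twist

If `End X = A = End Y` and the compositions `X ⟶ Y ⟶ X` generate `A`, then `Hom(X, Y)` is invertible and
`Y` is the twist of `X` by it.  For dualizing complexes the compositions into the shifts generate `A` by the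
uniqueness over local rings.
-/

set_option autoImplicit false
set_option linter.style.haveILetI false
universe u

open CategoryTheory CategoryTheory.Limits CategoryTheory.MonoidalCategory DerivedCategory

attribute [local instance] HasDerivedCategory.standard

namespace GrothLib.DualCx22

variable {A : Type u} [CommRing A]

section Pairing

variable {X Y : Dual.D A}

/-- Compositions `X ⟶ Y ⟶ X`, as an ideal. -/
noncomputable def compIdeal (X Y : Dual.D A) : Ideal A :=
  (Submodule.span A {h : X ⟶ X | ∃ (x : X ⟶ Y) (q : Y ⟶ X), x ≫ q = h}).comap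
    (LinearMap.toSpanSingleton A (X ⟶ X) (𝟙 X))

theorem mem_compIdeal {b : A} {x : X ⟶ Y} {q : Y ⟶ X} (h : x ≫ q = b • 𝟙 X) : b ∈ compIdeal X Y :=
  Submodule.subset_span ⟨x, q, h⟩

theorem exists_sum_of_compIdeal_eq_top (h : compIdeal X Y = ⊤) :
    ∃ (r : ℕ) (x : Fin r → (X ⟶ Y)) (q : Fin r → (Y ⟶ X)), ∑ i, x i ≫ q i = 𝟙 X := by
  have h1 : (1 : A) ∈ compIdeal X Y := by rw [h]; trivial
  have h2 : 𝟙 X ∈ Submodule.span A {h : X ⟶ X | ∃ (x : X ⟶ Y) (q : Y ⟶ X), x ≫ q = h} := by
    simpa [compIdeal] using h1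
  obtain ⟨r, c, g, hg⟩ := Submodule.mem_span_set'.1 h2
  choose x q hxq using fun i => (g i).2
  exact ⟨r, fun i => c i • x i, q, by simp [hxq, hg]⟩

/-- A pairing with both sums the identity makes the morphism module invertible. -/
theorem invertible_hom_of_pairing (hX : Function.Bijective (fun a : A => a • 𝟙 X)) {r : ℕ} (m : Fin r → (X ⟶ Y))
    (q : Fin r → (Y ⟶ X)) (hmq : ∑ i, m i ≫ q i = 𝟙 X) (hY1 : ∑ i, q i ≫ m i = 𝟙 Y)
    (hY : ∀ f : Y ⟶ Y, ∃ b : A, f = b • 𝟙 Y) :
    Module.Invertible A (X ⟶ Y) := by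
  let iX : A ≃ₗ[A] (X ⟶ X) := LinearEquiv.ofBijective (LinearMap.toSpanSingleton A (X ⟶ X) (𝟙 X)) hX
  let bX : (X ⟶ Y) → (Y ⟶ X) → A := fun x t => iX.symm (x ≫ t)
  have eX : ∀ (x : X ⟶ Y) (t : Y ⟶ X), x ≫ t = bX x t • 𝟙 X := fun x t => (iX.apply_symm_apply (x ≫ t)).symm
  have sX : ∑ i, bX (m i) (q i) = 1 := iX.injective (by
    simp only [map_sum, bX, LinearEquiv.apply_symm_apply]
    rw [hmq]
    exact (one_smul A (𝟙 X)).symm)
  have hdual : ∀ x : X ⟶ Y, ∑ i, bX x (q i) • m i = x := fun x => by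
    calc ∑ i, bX x (q i) • m i = ∑ i, x ≫ q i ≫ m i := Finset.sum_congr rfl fun i _ => by
          rw [← Category.assoc, eX, Linear.smul_comp, Category.id_comp]
      _ = x := by rw [← Preadditive.comp_sum, hY1, Category.comp_id]
  have swap : ∀ (x : X ⟶ Y) (t : Y ⟶ X) (y : X ⟶ Y), bX x t • y = x ≫ t ≫ y := fun x t y => by
    rw [← Category.assoc, eX, Linear.smul_comp, Category.id_comp]
  let Φ : TensorProduct A (X ⟶ Y) (Y ⟶ X) →ₗ[A] A :=
    iX.symm.toLinearMap.comp (TensorProduct.lift (Linear.comp (S := A) X Y X))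
  let w : TensorProduct A (X ⟶ Y) (Y ⟶ X) := ∑ i, TensorProduct.tmul A (m i) (q i)
  have hΦ : ∀ x t, Φ (TensorProduct.tmul A x t) = bX x t := fun x t => rfl
  have hz : ∀ z, z = Φ z • w := fun z => by
    induction z using TensorProduct.induction_on with
    | zero => simp
    | tmul x t =>
      rw [hΦ, Finset.smul_sum]
      calc TensorProduct.tmul A x t = ∑ i, TensorProduct.tmul A x (bX (m i) (q i) • t) := by
            rw [← TensorProduct.tmul_sum, ← Finset.sum_smul, sX, one_smul]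
        _ = ∑ i, bX x t • TensorProduct.tmul A (m i) (q i) := Finset.sum_congr rfl fun i _ => by
            obtain ⟨b, hb⟩ := hY (t ≫ m i)
            have h1 : bX (m i) (q i) • t = b • q i := by
              calc bX (m i) (q i) • t = t ≫ m i ≫ q i := by rw [eX, Linear.comp_smul, Category.comp_id]
                _ = b • q i := by rw [← Category.assoc, hb, Linear.smul_comp, Category.id_comp]
            have h2 : bX x t • m i = b • x := by
              rw [swap, hb, Linear.comp_smul, Category.comp_id]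
            rw [h1, ← TensorProduct.smul_tmul, ← h2, TensorProduct.smul_tmul']
    | add x y hx hy => conv_lhs => rw [hx, hy, ← add_smul, ← map_add]
  have hbij : Function.Bijective Φ := by
    refine ⟨(injective_iff_map_eq_zero _).2 fun z hz0 => by rw [hz z, hz0, zero_smul], fun a => ⟨a • w, ?_⟩⟩
    rw [map_smul, map_sum]
    simp only [hΦ, sX, smul_eq_mul, mul_one]
  exact Module.Invertible.left (LinearEquiv.ofBijective Φ hbij)

/-- A frame for a module gives a comparison with the twist. -/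
theorem nonempty_iso_twistK_of_frame (K : CochainComplex (ModuleCat.{u} A) ℤ) (N : ModuleCat.{u} A) (Y : Dual.D A)
    {r : ℕ} (f : Fin r → N) (c : Fin r → (N ⟶ 𝟙_ (ModuleCat.{u} A))) (a : Fin r → Fin r → A)
    (ha : ∀ i j, elemMap (f i) ≫ c j = a i j • 𝟙 (𝟙_ (ModuleCat.{u} A)))
    (hid : ∑ i, c i ≫ elemMap (f i) = 𝟙 N) (g : Fin r → (DRing.toD K ⟶ Y)) (q : Fin r → (Y ⟶ DRing.toD K))
    (hgq : ∀ i j, g i ≫ q j = a i j • 𝟙 (DRing.toD K)) (hY1 : ∑ i, q i ≫ g i = 𝟙 Y) :
    Nonempty (Y ≅ twistK K N) := by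
  let ev : twistK K N ⟶ Y := ∑ i, twistMap K (c i) ≫ (twistUnit K).hom ≫ g i
  let inv : Y ⟶ twistK K N := ∑ i, q i ≫ (twistUnit K).inv ≫ twistMap K (elemMap (f i))
  refine ⟨⟨inv, ev, ?_, ?_⟩⟩
  · have hc : ∀ j i, (q j ≫ (twistUnit K).inv ≫ twistMap K (elemMap (f j))) ≫
        twistMap K (c i) ≫ (twistUnit K).hom ≫ g i = q j ≫ g j ≫ q i ≫ g i := fun j i => by
      rw [← Category.assoc (g j), hgq, Category.assoc, Category.assoc, ← Category.assoc (twistMap K (elemMap (f j))),
        ← twistMap_comp, ha, twistMap_smul, twistMap_id]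
      simp only [Linear.smul_comp, Linear.comp_smul, Category.id_comp, Iso.inv_hom_id_assoc]
    calc inv ≫ ev = ∑ j, ∑ i, q j ≫ g j ≫ q i ≫ g i := by
          rw [show inv = ∑ j, q j ≫ (twistUnit K).inv ≫ twistMap K (elemMap (f j)) from rfl,
            Preadditive.sum_comp]
          refine Finset.sum_congr rfl fun j _ => ?_
          rw [show ev = ∑ i, twistMap K (c i) ≫ (twistUnit K).hom ≫ g i from rfl, Preadditive.comp_sum]
          exact Finset.sum_congr rfl fun i _ => hc j i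
      _ = 𝟙 Y := by
          simp only [← Preadditive.comp_sum, hY1, Category.comp_id]
  · have hf : ∀ i, ∑ j, a i j • elemMap (f j) = elemMap (f i) := fun i => by
      conv_rhs => rw [← Category.comp_id (elemMap (f i)), ← hid, Preadditive.comp_sum]
      exact Finset.sum_congr rfl fun j _ => by
        rw [← Category.assoc, ha, Linear.smul_comp, Category.id_comp]
    have hc : ∀ i j, (twistMap K (c i) ≫ (twistUnit K).hom ≫ g i) ≫
        q j ≫ (twistUnit K).inv ≫ twistMap K (elemMap (f j)) = twistMap K (c i ≫ (a i j • elemMap (f j))) :=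
      fun i j => by
      rw [Category.assoc, Category.assoc, ← Category.assoc (g i), hgq, Linear.smul_comp, Category.id_comp,
        Linear.comp_smul, Linear.comp_smul, Iso.hom_inv_id_assoc, ← twistMap_comp, ← twistMap_smul,
        Linear.comp_smul]
    calc ev ≫ inv = ∑ i, ∑ j, twistMap K (c i ≫ (a i j • elemMap (f j))) := by
          rw [show ev = ∑ i, twistMap K (c i) ≫ (twistUnit K).hom ≫ g i from rfl, Preadditive.sum_comp]
          refine Finset.sum_congr rfl fun i _ => ?_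
          rw [show inv = ∑ j, q j ≫ (twistUnit K).inv ≫ twistMap K (elemMap (f j)) from rfl,
            Preadditive.comp_sum]
          exact Finset.sum_congr rfl fun j _ => hc i j
      _ = 𝟙 _ := by
          simp only [← twistMap_sum, ← Preadditive.comp_sum, hf, hid, twistMap_id]

/-- A pairing with both sums the identity makes the target a twist of the source. -/
theorem exists_twist_of_pairing (hX : Function.Bijective (fun a : A => a • 𝟙 X)) {r : ℕ} (m : Fin r → (X ⟶ Y))
    (q : Fin r → (Y ⟶ X)) (hmq : ∑ i, m i ≫ q i = 𝟙 X) (hY1 : ∑ i, q i ≫ m i = 𝟙 Y)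
    (hY : ∀ f : Y ⟶ Y, ∃ b : A, f = b • 𝟙 Y) :
    ∃ (P : ModuleCat.{u} A) (_ : Module.Invertible A P), Nonempty (Y ≅ (twistD P).obj X) := by
  haveI := invertible_hom_of_pairing hX m q hmq hY1 hY
  choose φ hφ using fun f : X ⟶ X => hX.2 f
  have hφ' : ∀ i, ∀ x : X ⟶ Y, φ (x ≫ q i) • 𝟙 X = x ≫ q i := fun i x => hφ _
  let l : Fin r → ((X ⟶ Y) →ₗ[A] A) := fun i =>
    { toFun := fun x => φ (x ≫ q i)
      map_add' := fun x y => hX.1 (show φ ((x + y) ≫ q i) • 𝟙 X = (φ (x ≫ q i) + φ (y ≫ q i)) • 𝟙 X by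
        rw [hφ', add_smul, hφ', hφ', Preadditive.add_comp])
      map_smul' := fun c x => hX.1 (show φ ((c • x) ≫ q i) • 𝟙 X = (c * φ (x ≫ q i)) • 𝟙 X by
        rw [hφ', mul_smul, hφ', Linear.smul_comp]) }
  have hdual : ∀ x : X ⟶ Y, ∑ i, l i x • m i = x := fun x => by
    calc ∑ i, l i x • m i = ∑ i, x ≫ q i ≫ m i := Finset.sum_congr rfl fun i _ => by
          rw [← Category.assoc, ← hφ' i x, Linear.smul_comp, Category.id_comp]
          rfl
      _ = x := by rw [← Preadditive.comp_sum, hY1, Category.comp_id]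
  let gen : (Fin r → A) →ₗ[A] (X ⟶ Y) := Fintype.linearCombination A m
  have hgen : Function.Surjective gen := fun x => ⟨fun i => l i x, by
    rw [Fintype.linearCombination_apply]; exact hdual x⟩
  let N := (Fin r → A) ⧸ LinearMap.ker gen
  let eN : N ≃ₗ[A] (X ⟶ Y) := gen.quotKerEquivOfSurjective hgen
  haveI : Module.Invertible A (ModuleCat.of A N) := Module.Invertible.congr eN.symm
  refine ⟨ModuleCat.of A N, inferInstance, ?_⟩
  obtain ⟨K, ⟨e⟩⟩ : ∃ K : DRing.Cx A, Nonempty (DRing.toD K ≅ X) := ⟨_, ⟨DerivedCategory.Q.objObjPreimageIso X⟩⟩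
  obtain ⟨i1⟩ := nonempty_iso_twistK_of_frame K (ModuleCat.of A N) Y (fun i => eN.symm (m i))
    (fun i => ModuleCat.ofHom ((l i).comp eN.toLinearMap)) (fun i j => l j (m i))
    (fun i j => by
      rw [elemMap_comp]
      change l j (eN (eN.symm (m i))) • 𝟙 (𝟙_ (ModuleCat.{u} A)) = _
      rw [eN.apply_symm_apply])
    (by
      refine ModuleCat.hom_ext (LinearMap.ext fun (x : N) => ?_)
      simp only [ModuleCat.hom_id, LinearMap.id_apply, ModuleCat.hom_sum, LinearMap.sum_apply,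
        ModuleCat.hom_comp, LinearMap.comp_apply]
      apply eN.injective
      rw [map_sum]
      refine Eq.trans ?_ (hdual (eN x))
      refine Finset.sum_congr rfl fun i _ => ?_
      change eN (l i (eN x) • eN.symm (m i)) = _
      rw [map_smul, eN.apply_symm_apply])
    (fun i => e.hom ≫ m i) (fun i => q i ≫ e.inv)
    (fun i j => by
      rw [Category.assoc, ← Category.assoc (m i), ← hφ' j (m i), Linear.smul_comp, Category.id_comp,
        Linear.comp_smul, e.hom_inv_id]
      rfl)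
    (by simp only [Category.assoc, Iso.inv_hom_id_assoc, hY1])
  exact ⟨i1 ≪≫ (twistDKIso K (ModuleCat.of A N)).symm ≪≫ (twistD _).mapIso e⟩

/-- **Recognition of twists.** -/
theorem exists_twist_of_compIdeal_eq_top (hX : Function.Bijective (fun a : A => a • 𝟙 X))
    (hY : Function.Bijective (fun a : A => a • 𝟙 Y)) (h : compIdeal X Y = ⊤) :
    ∃ (P : ModuleCat.{u} A) (_ : Module.Invertible A P), Nonempty (Y ≅ (twistD P).obj X) := by
  obtain ⟨r, m, q, hmq⟩ := exists_sum_of_compIdeal_eq_top h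
  let iX : A ≃ₗ[A] (X ⟶ X) := LinearEquiv.ofBijective (LinearMap.toSpanSingleton A (X ⟶ X) (𝟙 X)) hX
  let iY : A ≃ₗ[A] (Y ⟶ Y) := LinearEquiv.ofBijective (LinearMap.toSpanSingleton A (Y ⟶ Y) (𝟙 Y)) hY
  let bX : (X ⟶ Y) → (Y ⟶ X) → A := fun x t => iX.symm (x ≫ t)
  let bY : (Y ⟶ X) → (X ⟶ Y) → A := fun t x => iY.symm (t ≫ x)
  have eX : ∀ (x : X ⟶ Y) (t : Y ⟶ X), x ≫ t = bX x t • 𝟙 X := fun x t => (iX.apply_symm_apply (x ≫ t)).symm
  have eY : ∀ t x, t ≫ x = bY t x • 𝟙 Y := fun t x => (iY.apply_symm_apply (t ≫ x)).symm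
  have sX : ∑ i, bX (m i) (q i) = 1 := iX.injective (by
    simp only [map_sum, bX, LinearEquiv.apply_symm_apply]
    rw [hmq]
    exact (one_smul A (𝟙 X)).symm)
  have swap : ∀ x t y, bX x t • y = bY t y • x := fun x t y => by
    have := (Category.assoc x t y).trans (congrArg (x ≫ ·) (eY t y))
    rw [eX, Linear.smul_comp, Category.id_comp, Linear.comp_smul, Category.comp_id] at this
    exact this
  have swap' : ∀ t x s, bY t x • s = bX x s • t := fun t x s => by
    have := (Category.assoc t x s).trans (congrArg (t ≫ ·) (eX x s))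
    rw [eY, Linear.smul_comp, Category.id_comp, Linear.comp_smul, Category.comp_id] at this
    exact this
  have star : ∀ i j k l, bY (q i) (m j) * bX (m k) (q l) = bX (m k) (q i) * bX (m j) (q l) :=
    fun i j k l => iX.injective (by
      change (bY (q i) (m j) * bX (m k) (q l)) • 𝟙 X = (bX (m k) (q i) * bX (m j) (q l)) • 𝟙 X
      rw [mul_smul, mul_smul, ← eX, ← eX]
      calc bY (q i) (m j) • (m k ≫ q l) = m k ≫ (q i ≫ m j) ≫ q l := by
            rw [eY, Linear.smul_comp, Category.id_comp, Linear.comp_smul]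
        _ = bX (m k) (q i) • (m j ≫ q l) := by
            rw [Category.assoc, ← Category.assoc, eX (m k) (q i), Linear.smul_comp, Category.id_comp])
  have hs : ∑ i, bY (q i) (m i) = 1 := by
    have hb : ∀ j, bY (q j) (m j) = (∑ i, bY (q i) (m i)) * bX (m j) (q j) := fun j => by
      rw [Finset.sum_mul]
      conv_lhs => rw [← mul_one (bY (q j) (m j)), ← sX, Finset.mul_sum]
      exact Finset.sum_congr rfl fun k _ => by rw [star, star, mul_comm]
    have h0 : ∀ j, (1 - ∑ i, bY (q i) (m i)) * bX (m j) (q j) ^ 2 = 0 := fun j => by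
      rw [sub_mul, one_mul, pow_two, ← mul_assoc, ← hb, star, sub_self]
    have htop : Ideal.span (Set.range fun j => bX (m j) (q j)) = ⊤ := by
      rw [Ideal.eq_top_iff_one, ← sX]
      exact Ideal.sum_mem _ fun j _ => Ideal.subset_span ⟨j, rfl⟩
    have hle : Ideal.span ((fun x : A => x ^ 2) '' Set.range fun j => bX (m j) (q j)) ≤
        LinearMap.ker (LinearMap.mulLeft A (1 - ∑ i, bY (q i) (m i))) := by
      rw [Ideal.span_le]
      rintro _ ⟨_, ⟨j, rfl⟩, rfl⟩
      exact h0 j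
    rw [Ideal.span_pow_eq_top _ htop 2] at hle
    have h1 := hle (Submodule.mem_top (x := (1 : A)))
    rw [LinearMap.mem_ker, LinearMap.mulLeft_apply, mul_one, sub_eq_zero] at h1
    exact h1.symm
  have hY1 : ∑ i, q i ≫ m i = 𝟙 Y := by
    simp only [eY, ← Finset.sum_smul, hs, one_smul]
  have hdual : ∀ x : X ⟶ Y, ∑ i, bX x (q i) • m i = x := fun x => by
    calc ∑ i, bX x (q i) • m i = ∑ i, x ≫ q i ≫ m i := Finset.sum_congr rfl fun i _ => by
          rw [← Category.assoc, eX, Linear.smul_comp, Category.id_comp]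
      _ = x := by rw [← Preadditive.comp_sum, hY1, Category.comp_id]
  exact exists_twist_of_pairing hX m q hmq hY1 fun f => (hY.2 f).imp fun _ => Eq.symm

end Pairing

section Local

variable [IsNoetherianRing A] {ω ω' : Dual.D A}

theorem compIdeal_local (hω : Dual.IsDualizing A ω) (hω' : Dual.IsDualizing A ω') (p : PrimeSpectrum A) :
    ∃ n : ℤ, ∀ k : ℤ, ¬ compIdeal ω (ω'⟦k⟧) ≤ p.asIdeal ↔ k = n := by
  let S := Localization.AtPrime p.asIdeal
  haveI : Module.Flat A S := IsLocalization.flat S p.asIdeal.primeCompl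
  haveI := GrothLib.DR.preservesFiniteLimits_extendScalars (algebraMap A S) GrothLib.DR.flat_algebraMap
  have h1 := isDualizing_bcD_localization p.asIdeal.primeCompl S hω
  have h2 := isDualizing_bcD_localization p.asIdeal.primeCompl S hω'
  obtain ⟨n, ⟨e⟩⟩ := exists_shift_iso_local h1 h2
  refine ⟨-n, fun k => ⟨fun hk => ?_, fun hk hle => ?_⟩⟩
  · obtain ⟨b, hb, hbp⟩ := SetLike.not_le_iff_exists.1 hk
    by_contra hne
    let eY : (bcD S).obj (ω'⟦k⟧) ≅ ((bcD S).obj ω)⟦(n + k)⟧ :=
      shiftBc S ω' k ≪≫ (shiftFunctor (Dual.D S) k).mapIso e ≪≫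
        ((shiftFunctorAdd' (Dual.D S) n k (n + k) rfl).app _).symm
    haveI := h1.ext_self_subsingleton (n + k) (by omega)
    haveI : Subsingleton ((bcD S).obj ω ⟶ (bcD S).obj (ω'⟦k⟧)) :=
      (eY.homToEquiv (Z := (bcD S).obj ω)).subsingleton
    have h0 : (bcD S).map (b • 𝟙 ω) = 0 := by
      have hb' : b • 𝟙 ω ∈ Submodule.span A {h : ω ⟶ ω | ∃ (x : ω ⟶ ω'⟦k⟧) (q : ω'⟦k⟧ ⟶ ω), x ≫ q = h} := hb
      generalize b • 𝟙 ω = z at hb'
      induction hb' using Submodule.span_induction with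
      | mem z hz =>
        obtain ⟨x, q, rfl⟩ := hz
        rw [Functor.map_comp, Subsingleton.elim ((bcD S).map x) 0, zero_comp]
      | zero => exact Functor.map_zero _ _ _
      | add x y _ _ hx hy => rw [Functor.map_add, hx, hy, add_zero]
      | smul c x _ hx => rw [bcD_map_smul, hx, smul_zero]
    rw [bcD_map_smul_id] at h0
    have hb0 : algebraMap A S b = 0 :=
      h1.toEnd_bijective.1 (h0.trans (zero_smul S (𝟙 ((bcD S).obj ω))).symm)
    exact not_isUnit_zero (M₀ := S) (hb0 ▸ IsLocalization.map_units S (⟨b, hbp⟩ : p.asIdeal.primeCompl))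
  · subst hk
    let eY : (bcD S).obj (ω'⟦(-n)⟧) ≅ (bcD S).obj ω :=
      shiftBc S ω' (-n) ≪≫ (shiftFunctor (Dual.D S) (-n)).mapIso e ≪≫ shiftShiftNeg _ n
    obtain ⟨a, b, hab⟩ := hω.finite_injective_dimension
    obtain ⟨a', b', hab'⟩ := hω'.finite_injective_dimension
    haveI : ω.IsGE a := isGE_of_hom_ring ω a fun i hi => hab A i (Or.inl hi)
    haveI : ω'.IsGE a' := isGE_of_hom_ring ω' a' fun i hi => hab' A i (Or.inl hi)
    haveI : ω.IsLE b := isLE_of_hom_ring ω b fun i hi => hab A i (Or.inr hi)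
    haveI : ω'.IsLE b' := isLE_of_hom_ring ω' b' fun i hi => hab' A i (Or.inr hi)
    haveI : (ω'⟦(-n)⟧).IsLE (b' + n) := TStructure.t.isLE_shift ω' b' (-n) (b' + n) (by omega)
    have hf : ∀ i, Module.Finite A (Dual.HD A (ω'⟦(-n)⟧) i) := (isDualizing_shift hω' (-n)).finite_cohomology
    obtain ⟨z1, hz1⟩ := (isBC_of_finite S ω ω' a' b hω.finite_cohomology (-n)).2 eY.inv
    obtain ⟨z2, hz2⟩ := (isBC_of_finite₀ S (ω'⟦(-n)⟧) ω a (b' + n) hf).2 eY.hom
    have hmem : ∀ (z1 : TensorProduct A S (ω ⟶ ω'⟦(-n)⟧)) (z2 : TensorProduct A S (ω'⟦(-n)⟧ ⟶ ω)),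
        ∃ s ∈ IsLocalRing.maximalIdeal S,
          θ S _ _ z1 ≫ θ S _ _ z2 = s • 𝟙 ((bcD S).obj ω) := by
      intro z1 z2
      induction z1 using TensorProduct.induction_on with
      | zero => exact ⟨0, Submodule.zero_mem _, by simp⟩
      | tmul c x =>
        induction z2 using TensorProduct.induction_on with
        | zero => exact ⟨0, Submodule.zero_mem _, by simp⟩
        | tmul d t =>
          obtain ⟨v, hv⟩ := hω.toEnd_bijective.2 (x ≫ t)
          have hv' : algebraMap A S v ∈ IsLocalRing.maximalIdeal S := by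
            rw [← Localization.AtPrime.map_eq_maximalIdeal (I := p.asIdeal)]
            exact Ideal.mem_map_of_mem _ (hle (mem_compIdeal hv.symm))
          refine ⟨(c * d) * algebraMap A S v, Ideal.mul_mem_left _ _ hv', ?_⟩
          rw [θ_tmul, θ_tmul, Linear.smul_comp, Linear.comp_smul, ← Functor.map_comp, ← hv, bcD_map_smul_id,
            smul_smul, smul_smul]
        | add y z hy hz =>
          obtain ⟨s, hs, hys⟩ := hy
          obtain ⟨t, ht, hzt⟩ := hz
          exact ⟨s + t, add_mem hs ht, by rw [map_add, Preadditive.comp_add, hys, hzt, add_smul]⟩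
      | add y z hy hz =>
        obtain ⟨s, hs, hys⟩ := hy
        obtain ⟨t, ht, hzt⟩ := hz
        exact ⟨s + t, add_mem hs ht, by rw [map_add, Preadditive.add_comp, hys, hzt, add_smul]⟩
    obtain ⟨s, hs, hst⟩ := hmem z1 z2
    rw [hz1, hz2, Iso.inv_hom_id] at hst
    have hs1 : s = 1 := (h1.toEnd_bijective.1 (a₁ := (1 : S)) (a₂ := s) ((one_smul S _).trans hst)).symm
    exact (IsLocalRing.maximalIdeal.isMaximal S).ne_top (Ideal.eq_top_iff_one _ |>.2 (hs1 ▸ hs))

/-- **Uniqueness of dualizing complexes on a connected spectrum.** -/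
theorem exists_twist_shift [ConnectedSpace (PrimeSpectrum A)] (hω : Dual.IsDualizing A ω)
    (hω' : Dual.IsDualizing A ω') :
    ∃ (P : ModuleCat.{u} A) (_ : Module.Invertible A P) (n : ℤ),
      Nonempty (ω' ≅ ((twistD P).obj ω)⟦n⟧) := by
  choose n hn using compIdeal_local hω hω'
  obtain ⟨p0⟩ := (inferInstance : Nonempty (PrimeSpectrum A))
  let U : ℤ → Set (PrimeSpectrum A) := fun k => (PrimeSpectrum.zeroLocus (compIdeal ω (ω'⟦k⟧) : Set A))ᶜ
  have hU : ∀ k p, p ∈ U k ↔ k = n p := fun k p => hn p k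
  have hopen : ∀ k, IsOpen (U k) := fun k => (PrimeSpectrum.isClosed_zeroLocus _).isOpen_compl
  have hclopen : IsClopen (U (n p0)) := by
    refine ⟨⟨?_⟩, hopen _⟩
    have : (U (n p0))ᶜ = ⋃ k ∈ {k | k ≠ n p0}, U k := by
      ext p
      simp only [Set.mem_compl_iff, hU, Set.mem_iUnion, Set.mem_ofPred_eq, exists_prop]
      exact ⟨fun h => ⟨n p, fun h' => h h'.symm, rfl⟩, fun ⟨k, hk, hkp⟩ h => hk (hkp.trans h.symm)⟩
    rw [this]
    exact isOpen_biUnion fun k _ => hopen k
  have huniv : U (n p0) = Set.univ := hclopen.eq_univ ⟨p0, (hU _ _).2 rfl⟩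
  have htop : compIdeal ω (ω'⟦n p0⟧) = ⊤ := by
    by_contra hne
    obtain ⟨m, hm, hle⟩ := Ideal.exists_le_maximal _ hne
    have : (⟨m, hm.isPrime⟩ : PrimeSpectrum A) ∈ U (n p0) := huniv ▸ Set.mem_univ _
    exact this hle
  obtain ⟨P, hP, ⟨e⟩⟩ := exists_twist_of_compIdeal_eq_top hω.toEnd_bijective
    (isDualizing_shift hω' (n p0)).toEnd_bijective htop
  exact ⟨P, hP, -(n p0), ⟨(shiftShiftNeg ω' (n p0)).symm ≪≫ (shiftFunctor (Dual.D A) (-(n p0))).mapIso e⟩⟩

end Local

end GrothLib.DualCx22
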